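import Cfsg.Agent.Lib.KnownB.M22Mult.Code

/-! Generated certificates for the twelvefold cover of `M22`. -/

set_option autoImplicit false
set_option maxRecDepth 100000

namespace CfsgLib.KnownB.M22Mult

open CfsgLib.Chev

open CfsgLib.KnownB.Mult

/-- a conjugator at `2` -/
def conj2_0 : CO := ⟨957070389014635081641837643475597376, 1, 2⟩

/-- a conjugator at `2` -/
def conj2_1 : CO := ⟨981565204909023812284246832236053024, 0, 2⟩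

/-- a conjugator at `2` -/
def conj2_2 : CO := ⟨960149872594299683181043474448338048, 2, 3⟩

/-- certificate at `2` -/
def cert2 : Cert CO where
  n := 9
  σ := [⟨981432022851419014740139564748780640, 2, 0⟩,
    ⟨967732770601138460095365148658898336, 0, 3⟩,
    ⟨962427296303638994219697509054850560, 2, 1⟩,
    ⟨960094095855380480144604373086981632, 1, 0⟩,
    ⟨962320813022503292100522067620308608, 0, 0⟩,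
    ⟨958157650582824167042245626756192704, 0, 3⟩,
    ⟨970014383029020573543551350920069408, 2, 3⟩,
    ⟨959331455310918617637209142647803552, 0, 2⟩,
    ⟨984818244535754528103549039458486304, 0, 2⟩]
  rules := [([0, 0], [1, 2, 4]),
    ([1, 1], []),
    ([2, 2], [5, 8]),
    ([3, 3], [5]),
    ([4, 4], [8]),
    ([5, 5], []),
    ([6, 6], [7]),
    ([7, 7], [8]),
    ([8, 8], []),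
    ([1, 0], [0, 1, 5, 7]),
    ([2, 0], [0, 2]),
    ([3, 0], [0, 2, 3, 7, 8]),
    ([4, 0], [0, 4, 5, 7]),
    ([5, 0], [0, 5]),
    ([6, 0], [0, 1, 6]),
    ([7, 0], [0, 5, 7, 8]),
    ([8, 0], [0, 8]),
    ([2, 1], [1, 2, 5]),
    ([3, 1], [1, 3]),
    ([4, 1], [1, 4]),
    ([5, 1], [1, 5]),
    ([6, 1], [1, 5, 6, 8]),
    ([7, 1], [1, 7, 8]),
    ([8, 1], [1, 8]),
    ([3, 2], [2, 3, 8]),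
    ([4, 2], [2, 4, 5]),
    ([5, 2], [2, 5]),
    ([6, 2], [2, 5, 6, 7, 8]),
    ([7, 2], [2, 7]),
    ([8, 2], [2, 8]),
    ([4, 3], [3, 4]),
    ([5, 3], [3, 5]),
    ([6, 3], [3, 4, 6, 8]),
    ([7, 3], [3, 5, 7, 8]),
    ([8, 3], [3, 8]),
    ([5, 4], [4, 5]),
    ([6, 4], [4, 5, 6]),
    ([7, 4], [4, 7, 8]),
    ([8, 4], [4, 8]),
    ([6, 5], [5, 6, 8]),
    ([7, 5], [5, 7]),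
    ([8, 5], [5, 8]),
    ([7, 6], [6, 7]),
    ([8, 6], [6, 8]),
    ([8, 7], [7, 8])]
  conjs := [(conj2_0, [1, 4, 5, 8], [1, 4, 5, 8]),
    (conj2_0, [3], [2, 5, 7]),
    (conj2_0, [4], [7]),
    (conj2_0, [6], [1, 2, 3, 6]),
    (conj2_0, [7], [4]),
    (conj2_0, [8], [8]),
    (conj2_0, [1, 2, 4], [1, 3]),
    (conj2_0, [5], [5]),
    (conj2_1, [6], [0, 1, 2, 3, 4, 6, 7, 8]),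
    (conj2_1, [1, 2, 4], [0, 3, 5, 7]),
    (conj2_1, [5, 8], [1, 4, 7, 8]),
    (conj2_1, [0, 2, 3, 7, 8], [0, 1, 2, 3, 4, 5, 7]),
    (conj2_1, [5, 7], [1, 4]),
    (conj2_1, [0, 1, 2, 3, 8], [0, 3, 4, 6, 7]),
    (conj2_1, [1, 4], [5, 7, 8]),
    (conj2_1, [8], [8]),
    (conj2_2, [1, 4, 5, 8], [1, 4, 5, 8]),
    (conj2_2, [3], [0, 2, 6]),
    (conj2_2, [1, 4, 7], [0, 1, 2, 3, 5, 6, 7, 8]),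
    (conj2_2, [5, 8], [2, 4]),
    (conj2_2, [8], [8]),
    (conj2_2, [0, 1, 6], [0, 1, 5, 6]),
    (conj2_2, [2, 4, 5], [2, 4, 5, 8])]
  rows := [(.ovl [0] 0 [], [0, 0, 0, 0, 0, 1, 0, 1, 1, 1, 1, 0, 1, 0, 0, 0, 0, 0, 0, 0, 0, 0, 0, 0, 0, 0, 1, 0, 1, 0, 0, 0, 0, 0, 0, 1, 0, 1, 0, 0, 1, 1, 0, 0, 1]),
    (.ovl [1] 0 [], [0, 0, 0, 0, 0, 0, 0, 1, 1, 0, 0, 0, 0, 1, 0, 1, 0, 1, 0, 1, 0, 0, 0, 0, 0, 0, 0, 0, 0, 0, 0, 0, 0, 0, 0, 1, 0, 0, 0, 0, 0]),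
    (.ovl [2] 0 [], [0, 0, 0, 0, 0, 0, 0, 0, 0, 0, 0, 0, 0, 0, 0, 0, 0, 1, 0, 0, 0, 0, 0, 0, 0, 1, 1, 0, 0, 0, 0, 0, 0, 0, 0, 1, 0, 0, 0, 0, 0, 0]),
    (.ovl [3] 0 [], [0, 0, 1, 0, 0, 0, 0, 1, 0, 0, 1, 0, 0, 0, 0, 1, 1, 0, 1, 0, 0, 0, 0, 0, 1, 0, 0, 0, 0, 1, 1, 1, 0, 0, 1, 1, 0, 0, 0, 0, 1, 1, 0, 0, 1]),
    (.ovl [4] 0 [], [0, 0, 0, 0, 0, 1, 0, 1, 1, 0, 0, 0, 0, 1, 0, 1, 0, 0, 0, 1, 0, 0, 0, 0, 0, 1, 0, 0, 0, 0, 0, 0, 0, 0, 0, 1, 0, 0, 0, 0, 0, 0, 0, 0, 0]),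
    (.ovl [5] 0 [], [0, 0, 0, 0, 0, 0, 0, 0, 0, 0, 0, 0, 0, 0, 0, 0, 0, 0, 0, 0, 1, 0, 0, 0, 0, 0, 1, 0, 0, 0, 0, 0, 0, 0, 0, 1]),
    (.ovl [6] 0 [], [0, 1, 0, 0, 0, 0, 0, 0, 1, 1, 0, 0, 0, 0, 0, 0, 0, 0, 0, 0, 0, 1, 1, 0, 0, 0, 1, 1, 0, 1, 0, 0, 0, 0, 0, 0, 1, 1, 0, 0, 0, 0, 1, 1]),
    (.ovl [7] 0 [], [0, 0, 0, 0, 0, 1, 0, 0, 0, 0, 0, 0, 0, 1, 0, 0, 1, 0, 0, 0, 0, 0, 1, 0, 0, 0, 0, 0, 1, 1, 0, 0, 0, 0, 0, 0, 0, 1, 1]),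
    (.ovl [8] 0 [], [0, 0, 0, 0, 0, 0, 0, 0, 0, 0, 0, 0, 0, 0, 0, 0, 0, 0, 0, 0, 0, 0, 0, 1, 0, 0, 0, 0, 0, 1, 0, 0, 0, 0, 0, 0, 0, 0, 1]),
    (.ovl [6] 1 [], [0, 0, 0, 0, 0, 1, 0, 0, 1, 0, 0, 0, 0, 0, 0, 0, 0, 0, 0, 0, 1, 0, 0, 1]),
    (.ovl [2] 2 [], [0, 0, 0, 0, 0, 0, 0, 0, 0, 0, 0, 0, 0, 0, 0, 0, 0, 0, 0, 0, 0, 0, 0, 0, 0, 0, 1, 0, 0, 1]),
    (.ovl [3] 2 [], [0, 0, 0, 0, 0, 0, 0, 0, 1, 0, 0, 0, 0, 0, 0, 0, 0, 0, 0, 0, 0, 0, 0, 0, 0, 0, 0, 0, 0, 1, 0, 1, 0, 0, 1]),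
    (.ovl [4] 2 [], [0, 0, 0, 0, 0, 1, 0, 0, 0, 0, 0, 0, 0, 0, 0, 0, 0, 0, 0, 0, 0, 0, 0, 0, 0, 0, 1, 0, 0, 0, 0, 0, 0, 0, 0, 1, 0, 0, 1, 0, 0, 0]),
    (.ovl [5] 2 [], [0, 0, 0, 0, 0, 0, 0, 0, 0, 0, 0, 0, 0, 0, 0, 0, 0, 0, 0, 0, 0, 0, 0, 0, 0, 0, 0, 0, 0, 0, 0, 0, 0, 0, 0, 0, 0, 0, 0, 0, 0, 1]),
    (.ovl [6] 2 [], [0, 0, 0, 0, 0, 1, 0, 1, 1, 0, 0, 0, 0, 0, 0, 0, 0, 0, 0, 0, 0, 0, 0, 0, 0, 0, 1, 0, 1, 1, 0, 0, 0, 0, 0, 0, 0, 0, 0, 1, 0, 0, 0, 1, 1]),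
    (.ovl [7] 2 [], [0, 0, 0, 0, 0, 0, 0, 0, 0, 0, 0, 0, 0, 0, 0, 0, 0, 0, 0, 0, 0, 0, 0, 0, 0, 0, 0, 0, 0, 0, 0, 0, 0, 0, 0, 0, 0, 0, 0, 0, 1, 0, 0, 0, 1]),
    (.ovl [3] 3 [], [0, 0, 0, 0, 0, 0, 0, 0, 0, 0, 0, 0, 0, 0, 0, 0, 0, 0, 0, 0, 0, 0, 0, 0, 0, 0, 0, 0, 0, 0, 0, 1]),
    (.ovl [4] 3 [], [0, 0, 0, 0, 0, 0, 0, 0, 0, 0, 0, 0, 0, 0, 0, 0, 0, 0, 0, 0, 0, 0, 0, 0, 0, 0, 0, 0, 0, 0, 0, 0, 0, 0, 0, 1]),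
    (.ovl [6] 3 [], [0, 0, 0, 0, 1, 0, 0, 0, 1, 0, 0, 0, 0, 0, 0, 0, 0, 0, 0, 0, 0, 0, 0, 0, 0, 0, 0, 0, 0, 0, 1, 0, 0, 0, 1, 0, 0, 0, 0, 1, 0, 1, 0, 1]),
    (.ovl [7] 3 [], [0, 0, 0, 0, 0, 1, 0, 0, 1, 0, 0, 0, 0, 0, 0, 0, 0, 0, 0, 0, 0, 0, 0, 0, 0, 0, 0, 0, 0, 0, 0, 1, 0, 0, 1, 0, 0, 0, 0, 0, 1]),
    (.ovl [6] 4 [], [0, 0, 0, 0, 0, 1, 0, 0, 0, 0, 0, 0, 0, 0, 0, 0, 0, 0, 0, 0, 0, 0, 0, 0, 0, 0, 0, 0, 0, 0, 0, 0, 0, 0, 0, 1, 0, 0, 0, 0, 0, 0, 0, 1]),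
    (.ovl [7] 4 [], [0, 0, 0, 0, 0, 0, 0, 0, 1, 0, 0, 0, 0, 0, 0, 0, 0, 0, 0, 0, 0, 0, 0, 0, 0, 0, 0, 0, 0, 0, 0, 0, 0, 0, 0, 0, 0, 0, 1, 0, 0, 0, 0, 0, 1]),
    (.ovl [6] 6 [], [0, 0, 0, 0, 0, 0, 0, 0, 0, 0, 0, 0, 0, 0, 0, 0, 0, 0, 0, 0, 0, 0, 0, 0, 0, 0, 0, 0, 0, 0, 0, 0, 0, 0, 0, 0, 0, 0, 0, 0, 0, 0, 1]),
    (.ovl [1] 9 [], [0, 0, 0, 0, 0, 1, 0, 1, 1, 0, 0, 0, 0, 0, 0, 0, 0, 0, 0, 0, 1, 0, 1, 0, 0, 0, 0, 0, 0, 0, 0, 0, 0, 0, 0, 0, 0, 0, 0, 0, 1, 1, 0, 0, 1]),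
    (.ovl [2] 9 [], [0, 0, 0, 0, 0, 0, 0, 0, 0, 0, 0, 0, 0, 1, 0, 0, 0, 0, 0, 0, 0, 0, 0, 0, 0, 0, 1, 0, 1, 0, 0, 0, 0, 0, 0, 0, 0, 0, 0, 0, 1]),
    (.ovl [3] 9 [], [0, 0, 0, 0, 0, 0, 0, 0, 0, 0, 0, 0, 0, 0, 0, 0, 0, 1, 0, 0, 0, 0, 1, 1, 0, 0, 1, 0, 1, 0, 0, 0, 0, 1, 0, 0, 0, 0, 0, 0, 1, 0, 0, 0, 1]),
    (.ovl [4] 9 [], [0, 0, 0, 0, 0, 0, 0, 0, 0, 0, 0, 0, 0, 0, 0, 0, 0, 0, 0, 0, 1, 0, 1, 0, 0, 0, 0, 0, 0, 0, 0, 0, 0, 0, 0, 1, 0, 1, 0, 0, 0, 0, 0, 0, 0]),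
    (.ovl [2] 10 [], [0, 0, 0, 0, 0, 0, 0, 0, 0, 0, 0, 0, 0, 1, 0, 0, 1]),
    (.ovl [6] 10 [], [0, 0, 0, 0, 0, 1, 0, 0, 1, 0, 0, 0, 0, 1, 0, 1, 1, 1, 0, 0, 1, 0, 0, 0, 0, 0, 0, 0, 0, 0, 0, 0, 0, 0, 0, 0, 0, 0, 0, 1, 0, 0, 0, 0, 1]),
    (.ovl [3] 11 [], [0, 0, 1, 0, 0, 1, 0, 1, 1, 0, 0, 0, 0, 1, 0, 0, 0, 0, 0, 0, 0, 0, 0, 0, 1, 0, 0, 0, 1, 1, 0, 0, 0, 1, 0]),
    (.ovl [6] 11 [], [0, 0, 0, 0, 0, 0, 0, 0, 1, 0, 0, 0, 1, 0, 0, 0, 1, 1, 1, 1, 1, 0, 0, 1, 0, 0, 0, 1, 0, 0, 0, 0, 0, 1, 1, 0, 0, 1, 1, 1, 1, 1, 0, 1]),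
    (.ovl [6] 14 [], [0, 1, 0, 0, 0, 0, 0, 0, 0, 0, 0, 0, 0, 0, 0, 1, 0, 0, 0, 0, 0, 1, 0, 0, 0, 0, 0, 0, 0, 0, 0, 0, 0, 0, 0, 0, 0, 0, 0, 0, 0, 0, 0, 1]),
    (.cnj 0 [0, 0] [5], [0, 0, 0, 0, 0, 0, 0, 0, 0, 0, 0, 0, 0, 0, 0, 0, 0, 0, 0, 0, 0, 0, 0, 0, 0, 0, 0, 0, 0, 0, 0, 0, 0, 0, 0, 0, 0, 0, 0, 0, 0, 0, 0, 0, 0, 0, 0, 0, 0, 0, 1]),
    (.cnj 0 [1, 1] [7], [0, 0, 1, 1, 0, 1, 0, 1, 1, 0, 0, 0, 0, 0, 0, 0, 0, 0, 0, 0, 0, 0, 0, 0, 0, 0, 1, 0, 1, 0, 0, 0, 0, 0, 0, 0, 0, 0, 0, 0, 1, 0, 0, 0, 0, 0, 0, 0, 0, 0, 0, 0, 1]),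
    (.cnj 0 [2, 2] [5], [0, 0, 0, 0, 1, 0, 0, 1, 0, 0, 0, 0, 0, 0, 0, 0, 0, 0, 0, 0, 0, 0, 0, 0, 0, 0, 0, 0, 0, 0, 0, 0, 0, 0, 0, 0, 0, 0, 0, 0, 0, 0, 0, 0, 0, 0, 0, 0, 0, 0, 1]),
    (.cnj 0 [6, 6] [7], [0, 0, 1, 1, 1, 1, 0, 0, 1, 0, 0, 0, 0, 0, 0, 0, 0, 1, 1, 1, 0, 0, 0, 0, 0, 1, 1, 0, 0, 0, 0, 0, 0, 0, 0, 1, 0, 0, 0, 0, 0, 1, 0, 0, 0, 0, 0, 0, 0, 0, 0, 0, 1]),
    (.cnj 0 [4, 1] [1, 4, 5, 7], [0, 0, 0, 0, 0, 0, 0, 0, 1, 0, 0, 0, 0, 0, 0, 0, 0, 0, 0, 0, 0, 0, 0, 0, 0, 1, 0, 0, 0, 0, 0, 0, 0, 1, 0, 1, 0, 1, 0, 0, 0, 1, 0, 0, 0, 0, 0, 0, 0, 0, 1, 0, 1]),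
    (.cnj 8 [8, 8] [10, 12, 15], [1, 1, 0, 1, 1, 1, 0, 1, 1, 1, 1, 1, 1, 0, 1, 1, 1, 1, 0, 0, 0, 1, 0, 0, 1, 0, 1, 1, 0, 0, 1, 1, 1, 0, 0, 1, 1, 0, 0, 0, 1, 0, 0, 0, 1, 0, 0, 0, 0, 0, 0, 0, 0, 0, 0, 1, 0, 1, 0, 0, 1]),
    (.cnj 8 [9, 9] [10, 15], [1, 1, 0, 1, 1, 0, 0, 1, 1, 0, 0, 1, 0, 1, 0, 1, 0, 1, 0, 1, 0, 0, 0, 0, 0, 0, 1, 0, 0, 0, 0, 0, 0, 0, 1, 1, 0, 0, 1, 0, 0, 0, 0, 0, 1, 0, 0, 0, 0, 0, 0, 0, 0, 0, 0, 1, 0, 0, 0, 0, 1]),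
    (.cnj 8 [10, 10] [], [0, 1, 0, 0, 1, 1, 0, 1, 0, 0, 0, 0, 0, 0, 0, 0, 0, 0, 0, 1, 0, 0, 1, 1, 0, 0, 0, 0, 0, 0, 0, 0, 0, 0, 0, 0, 0, 1, 0, 0, 0, 1, 0, 0, 1, 0, 0, 0, 0, 0, 0, 0, 0, 0, 0, 0]),
    (.cnj 8 [11, 11] [12, 14], [0, 1, 0, 0, 1, 1, 0, 1, 1, 1, 0, 0, 1, 1, 0, 0, 1, 0, 1, 1, 0, 0, 1, 1, 0, 1, 0, 0, 0, 0, 1, 0, 0, 1, 0, 0, 0, 1, 0, 0, 1, 0, 0, 0, 0, 0, 0, 0, 0, 0, 0, 0, 0, 0, 0, 0, 0, 1, 0, 1]),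
    (.cnj 8 [12, 12] [15], [0, 1, 0, 0, 1, 1, 0, 1, 0, 0, 0, 0, 0, 0, 0, 0, 0, 0, 0, 1, 0, 0, 0, 0, 0, 0, 0, 0, 0, 0, 0, 0, 0, 0, 0, 0, 0, 0, 0, 0, 1, 0, 0, 0, 0, 0, 0, 0, 0, 0, 0, 0, 0, 0, 0, 0, 0, 0, 0, 0, 1]),
    (.cnj 8 [13, 13] [14], [0, 0, 1, 0, 0, 0, 1, 1, 0, 1, 1, 0, 1, 0, 1, 1, 1, 0, 0, 0, 1, 0, 0, 0, 1, 0, 1, 0, 0, 0, 1, 0, 1, 0, 1, 1, 1, 0, 0, 0, 1, 1, 1, 0, 1, 0, 0, 0, 0, 0, 0, 0, 0, 0, 0, 0, 0, 0, 0, 1]),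
    (.cnj 8 [13, 8] [8, 10, 12, 13, 14], [0, 0, 0, 0, 0, 1, 0, 0, 1, 1, 1, 0, 0, 0, 1, 0, 1, 1, 0, 1, 1, 1, 0, 1, 1, 1, 1, 0, 0, 1, 0, 0, 1, 0, 1, 1, 1, 1, 1, 1, 0, 1, 0, 0, 0, 0, 0, 0, 0, 0, 0, 0, 0, 0, 0, 1, 0, 1, 0, 1]),
    (.cnj 16 [18, 18] [], [1, 1, 0, 1, 0, 0, 1, 0, 1, 1, 1, 1, 0, 1, 1, 1, 1, 1, 0, 0, 0, 1, 0, 1, 1, 1, 1, 1, 1, 0, 0, 0, 1, 1, 1, 1, 0, 1, 0, 0, 0, 1, 0, 1, 0, 0, 0, 0, 0, 0, 0, 0, 0, 0, 0, 0, 0, 0, 0, 0, 0, 0, 0, 0])]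
  lam := [[], [0, 0, 0, 0, 0, 0, 0, 0, 0, 0, 0, 0, 0, 0, 1], [0, 0, 1, 1, 0, 0, 1, 0, 0, 0, 0, 1], [], [1, 0, 1, 1, 0, 0, 1, 0, 0, 0, 0, 1, 0, 0, 1], [0, 0, 0, 1], [], [0, 0, 0, 0, 0, 0, 1], [0, 0, 1, 1]]
  combos := [[],
    [(2, 1), (4, 1), (8, 1), (10, 1), (11, 1), (13, 1), (14, 1), (19, 1), (20, 1), (21, 1), (24, 1), (26, 1), (27, 1), (28, 1), (32, 1), (34, 1), (39, 1)],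
    [],
    [],
    [(1, 1), (4, 1), (5, 1), (8, 1), (11, 1), (12, 1), (13, 1), (15, 1), (19, 1), (25, 1), (26, 1), (33, 1), (34, 1), (36, 1)],
    [(1, 1), (2, 1), (4, 1), (5, 1), (8, 1), (9, 1), (11, 1), (15, 1), (19, 1), (21, 1)],
    [],
    [(1, 1), (4, 1), (5, 1), (8, 1), (11, 1), (12, 1), (13, 1), (15, 1), (19, 1), (25, 1), (26, 1), (32, 1), (33, 1), (36, 1)],
    [(10, 1), (11, 1), (12, 1), (15, 1), (17, 1), (19, 1), (21, 1)],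
    [(1, 1), (5, 1), (8, 1), (13, 1), (14, 1), (16, 1), (17, 1), (18, 1), (21, 1), (22, 1), (23, 1), (24, 1), (25, 1), (26, 1), (27, 1), (28, 1), (30, 1), (31, 1), (32, 1), (33, 1), (36, 1), (37, 1), (38, 1), (40, 1), (42, 1)],
    [(3, 1), (4, 1), (5, 1), (7, 1), (9, 1), (10, 1), (11, 1), (12, 1), (14, 1), (16, 1), (18, 1), (19, 1), (23, 1), (24, 1), (25, 1), (26, 1), (29, 1), (33, 1), (35, 1)],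
    [],
    [(0, 1), (1, 1), (3, 1), (4, 1), (5, 1), (8, 1), (9, 1), (11, 1), (13, 1), (19, 1), (21, 1), (22, 1), (23, 1), (28, 1), (29, 1), (30, 1), (31, 1), (32, 1), (35, 1), (36, 1), (37, 1), (38, 1), (40, 1), (42, 1)],
    [(1, 1), (2, 1), (4, 1), (5, 1), (7, 1), (11, 1), (12, 1), (19, 1), (24, 1), (26, 1), (27, 1)],
    [],
    [(0, 1), (1, 1), (3, 1), (6, 1), (8, 1), (9, 1), (12, 1), (14, 1), (15, 1), (18, 1), (20, 1), (23, 1), (24, 1), (25, 1), (26, 1), (29, 1), (30, 1), (32, 1), (34, 1), (37, 1), (41, 1), (42, 1), (43, 1), (44, 1)],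
    [(1, 1), (2, 1), (4, 1), (5, 1), (7, 1), (11, 1), (12, 1), (19, 1), (24, 1), (26, 1)],
    [(0, 1), (1, 1), (2, 1), (3, 1), (6, 1), (7, 1), (8, 1), (12, 1), (13, 1), (15, 1), (17, 1), (18, 1), (21, 1), (23, 1), (24, 1), (26, 1), (28, 1), (29, 1), (30, 1), (33, 1), (34, 1), (36, 1), (37, 1), (41, 1), (42, 1), (43, 1), (44, 1)],
    [(4, 1), (5, 1), (7, 1), (8, 1), (9, 1), (10, 1), (13, 1), (14, 1), (17, 1), (20, 1), (24, 1), (26, 1), (28, 1), (32, 1), (33, 1), (34, 1), (35, 1)],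
    [(1, 1), (8, 1), (9, 1), (10, 1), (11, 1), (12, 1), (14, 1), (17, 1), (19, 1), (20, 1), (24, 1), (27, 1), (28, 1)],
    [(8, 1), (9, 1), (11, 1), (15, 1), (19, 1), (21, 1)],
    [(0, 1), (3, 1), (5, 1), (6, 1), (8, 1), (10, 1), (12, 1), (13, 1), (17, 1), (18, 1), (20, 1), (23, 1), (25, 1), (27, 1), (28, 1), (29, 1), (30, 1), (31, 1), (37, 1), (39, 1), (41, 1), (42, 1), (43, 1), (44, 1)],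
    [(2, 1), (8, 1), (10, 1), (15, 1), (17, 1), (21, 1), (23, 1), (25, 1), (26, 1), (32, 1), (33, 1), (36, 1)],
    [(1, 1), (2, 1), (4, 1), (5, 1), (9, 1), (10, 1), (11, 1), (12, 1), (15, 1), (17, 1), (19, 1), (21, 1)],
    [(0, 1), (1, 1), (2, 1), (3, 1), (6, 1), (11, 1), (12, 1), (15, 1), (18, 1), (19, 1), (21, 1), (25, 1), (27, 1), (28, 1), (30, 1), (33, 1), (34, 1), (36, 1), (37, 1), (41, 1), (42, 1), (43, 1), (44, 1)],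
    [(0, 1), (1, 1), (3, 1), (5, 1), (6, 1), (7, 1), (9, 1), (11, 1), (12, 1), (13, 1), (17, 1), (18, 1), (19, 1), (23, 1), (24, 1), (26, 1), (28, 1), (29, 1), (30, 1), (33, 1), (34, 1), (36, 1), (37, 1), (41, 1), (42, 1), (43, 1), (44, 1)],
    [(5, 1), (8, 1), (9, 1), (11, 1), (15, 1), (17, 1), (19, 1), (21, 1)],
    [(0, 1), (2, 1), (3, 1), (5, 1), (8, 1), (10, 1), (11, 1), (12, 1), (14, 1), (15, 1), (16, 1), (21, 1), (22, 1), (23, 1), (24, 1), (27, 1), (28, 1), (29, 1), (31, 1), (32, 1), (34, 1), (37, 1), (38, 1), (40, 1), (42, 1)],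
    [(7, 1), (8, 1), (9, 1), (10, 1), (11, 1), (12, 1), (15, 1), (19, 1), (21, 1), (26, 1), (27, 1)],
    [(5, 1), (8, 1), (9, 1), (10, 1), (11, 1), (15, 1), (17, 1), (19, 1), (21, 1)],
    [(7, 1), (8, 1), (9, 1), (10, 1), (13, 1), (14, 1), (15, 1), (16, 1), (17, 1), (18, 1), (19, 1), (26, 1), (27, 1), (32, 1), (34, 1)],
    [(16, 1)],
    [(0, 1), (1, 1), (4, 1), (5, 1), (10, 1), (11, 1), (13, 1), (14, 1), (15, 1), (17, 1), (19, 1), (21, 1), (29, 1), (30, 1), (31, 1), (34, 1), (35, 1), (36, 1), (44, 1)],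
    [(0, 1), (2, 1), (3, 1), (4, 1), (6, 1), (9, 1), (10, 1), (11, 1), (12, 1), (13, 1), (18, 1), (19, 1), (21, 1), (24, 1), (26, 1), (27, 1), (28, 1), (29, 1), (30, 1), (32, 1), (34, 1), (37, 1), (41, 1), (42, 1), (43, 1), (44, 1)],
    [(5, 1), (8, 1), (9, 1), (11, 1), (12, 1), (16, 1)],
    [(17, 1)],
    [(2, 1), (10, 1), (11, 1), (12, 1), (13, 1), (14, 1), (17, 1), (20, 1), (22, 1), (23, 1), (24, 1), (26, 1), (31, 1), (32, 1), (33, 1), (36, 1), (37, 1), (41, 1), (42, 1), (43, 1), (44, 1)],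
    [(2, 1), (9, 1), (10, 1), (11, 1), (19, 1), (23, 1), (25, 1), (32, 1), (33, 1), (36, 1)],
    [(1, 1), (2, 1), (4, 1), (12, 1)],
    [(2, 1), (5, 1), (7, 1), (9, 1), (12, 1), (13, 1), (14, 1), (17, 1), (20, 1), (25, 1), (27, 1), (32, 1), (33, 1), (36, 1)],
    [(1, 1), (2, 1), (4, 1), (10, 1), (11, 1), (17, 1), (19, 1)],
    [(13, 1)],
    [(22, 1)],
    [(1, 1), (2, 1), (4, 1), (5, 1), (8, 1), (9, 1), (11, 1), (15, 1), (17, 1), (19, 1), (20, 1), (21, 1)],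
    [(1, 1), (2, 1), (4, 1), (10, 1), (11, 1), (15, 1), (17, 1), (19, 1)]]

/-- levels for the Sylow subgroup at `2`: point, words -/
def lev2 : List (ℕ × List (List ℕ)) := [
    (70, [[], [8], [7], [7, 8], [6], [6, 8], [6, 7], [6, 7, 8], [5], [5, 8], [5, 7], [0, 3], [5, 6], [2, 4], [5, 6, 7], [5, 6, 7, 8], [4], [4, 8], [1], [1, 8], [2], [2, 8], [4, 6, 7], [2, 7], [4, 5], [4, 5, 8], [1, 5], [1, 5, 8], [2, 5], [2, 5, 8], [1, 2, 4], [2, 5, 7], [3], [3, 8], [3, 7], [3, 7, 8], [3, 6], [3, 6, 8], [3, 6, 7], [1, 2, 3], [3, 5], [0, 2], [3, 5, 7], [0, 2, 7], [0, 1], [0, 1, 8], [0, 4], [0, 4, 8], [3, 4], [3, 4, 8], [1, 3], [0, 6], [0, 8], [0], [0, 7], [1, 3, 6], [3, 4, 5], [3, 4, 5, 8], [1, 3, 5], [0, 5, 6], [0, 5, 8], [0, 5], [0, 5, 7], [1, 3, 5, 6]]),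
    (133, [[], [2, 4, 5, 6, 8], [0, 3, 5, 7], [0, 1, 2, 3, 5, 6]]),
    (0, [[], [1, 4, 7]])]

/-- a conjugator at `3` -/
def conj3_0 : CO := ⟨957221477260807049560030543934986944, 2, 0⟩

/-- certificate at `3` -/
def cert3 : Cert CO where
  n := 3
  σ := [⟨958573901584697860744006598148598816, 0, 3⟩,
    ⟨984818244535754528103549039458486304, 1, 0⟩,
    ⟨984535475474453550909626044639283296, 1, 1⟩]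
  rules := [([0, 0, 0], []),
    ([1, 1, 1], []),
    ([2, 2, 2], []),
    ([1, 0], [0, 1]),
    ([2, 0], [0, 1, 2]),
    ([2, 1], [1, 2])]
  conjs := [(conj3_0, [0], [2, 2]),
    (conj3_0, [1], [1]),
    (conj3_0, [2], [0, 1])]
  rows := [(.ovl [2] 0 [], [0, 1, 0, 0, 0]),
    (.cnj 0 [0, 0, 0] [], [2, 0, 2, 0, 0, 0, 0]),
    (.cnj 0 [2, 2, 2] [], [1, 1, 2, 0, 0, 0, 0, 0, 0]),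
    (.cnj 0 [1, 0] [0, 1], [0, 0, 0, 2, 0, 1, 0, 0]),
    (.cnj 0 [2, 1] [1, 2], [0, 0, 0, 2, 0, 2, 0, 0, 0])]
  lam := [[], [0, 0, 0, 0, 1], []]
  combos := [[(0, 2), (1, 2), (2, 1)],
    [(0, 2)],
    [(0, 1), (1, 2), (2, 2)],
    [(3, 2), (4, 2)],
    [],
    [(3, 1), (4, 2)]]

end CfsgLib.KnownB.M22Mult
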