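import Cfsg.Agent.Lib.KnownB.M22Mult.Lift

/-! Checks of the certificates for the multiplier of the twelvefold cover. -/

set_option autoImplicit false
set_option maxRecDepth 100000
set_option maxHeartbeats 4000000
set_option Elab.async false

namespace CfsgLib.KnownB.M22Mult

open CfsgLib.KnownB.Mult

theorem cert3_valid : cert3.Valid code 3 where
  gen := by decide +kernel
  rel := by decide +kernel
  pc := by decide +kernel
  indep := by decide +kernel
  rows := by decide +kernel
  target := by decide +kernel

theorem cert2_core : cert2.Core code 2 where
  gen := by decide +kernel
  rel := by decide +kernel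
  pc := by decide +kernel
  rows := by decide +kernel
  target := by decide +kernel

/-- the levels with their base points -/
def pts2 : List (Pts × List (List ℕ)) := lev2.map fun l => ((Fin.ofNat 1232 l.1, 0), l.2)

theorem levels2_ok : Cert.levelsOK code cert2 appP eqPts pts2 [] = true ∧
    2 ^ cert2.n ≤ (pts2.map fun l => l.2.length).prod := by
  refine ⟨by decide +kernel, by decide +kernel⟩

end CfsgLib.KnownB.M22Mult
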