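import Cfsg.Agent.Lib.KnownB.M22Mult.Data

/-! Checks of the two graphs and of the generators. -/

set_option autoImplicit false
set_option maxRecDepth 100000
set_option maxHeartbeats 4000000
set_option Elab.async false

namespace CfsgLib.KnownB.M22Mult

open CfsgLib.Chev

/-- the points are below `2 ^ 24` and recovered from their indices -/
noncomputable def ptsOK (n : ℕ) (pt : Tr (ℕ × ℕ)) (idx : ℕ × ℕ → ℕ) : Bool :=
  (List.range n).all fun i => Nat.beq (idx (pt.get (0, 0) i)) i &&
    Nat.blt (pt.get (0, 0) i).1 16777216 && Nat.blt (pt.get (0, 0) i).2 16777216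

/-- a generator permutes the points -/
noncomputable def moveOK (n : ℕ) (pt : Tr (ℕ × ℕ)) (idx : ℕ × ℕ → ℕ) (g : ℕ) : Bool :=
  (List.range n).all fun i => Nat.blt (idx (actQ g (pt.get (0, 0) i))) n &&
    Nat.beq (pt.get (0, 0) (idx (actQ g (pt.get (0, 0) i)))).1 (actQ g (pt.get (0, 0) i)).1 &&
    Nat.beq (pt.get (0, 0) (idx (actQ g (pt.get (0, 0) i)))).2 (actQ g (pt.get (0, 0) i)).2

theorem pts3_ok : ptsOK 231 ptT3 idx3 = true := by decide +kernel

theorem pts4_ok : ptsOK 1232 ptT4 idx4 = true := by decide +kernel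

theorem move3_ok : (genC.all fun g => moveOK 231 ptT3 idx3 g.g) = true := by decide +kernel

theorem move4_ok : (genC.all fun g => moveOK 1232 ptT4 idx4 g.g) = true := by decide +kernel

theorem paths3_ok : ((List.range 231).all fun j => pathB 231 lab3 0 (pathT3.get [] j) j) = true := by
  decide +kernel

theorem paths4_ok : ((List.range 1232).all fun j => pathB 1232 lab4 0 (pathT4.get [] j) j) = true := by
  decide +kernel

/-- a table of images -/
noncomputable def tableOK (n : ℕ) (img : ℕ → ℕ) (Q : Tr ℕ) : Bool :=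
  (List.range n).all fun i => Nat.beq (Q.get 0 i) (img i)

/-- a generator preserves the edges -/
noncomputable def edgeOK (n m v : ℕ) (row Q A : Tr ℕ) : Bool :=
  (List.range n).all fun i => (List.range v).all fun t =>
    let e := Nat.shiftRight (row.get 0 i) (14 * t) % 16384
    Nat.blt (e / 8) n && Nat.beq (scanRow (row.get 0 (Q.get 0 i)) (Q.get 0 (e / 8)) v)
      ((e % 8 + (m - 1) + A.get 0 i + (m - 1) * A.get 0 (e / 8)) % m + 1)

theorem genLab_ok : ((List.range 3).all fun k =>
    Nat.beq ((genA3.getD k .nil).get 0 0 % 3) ((genC.getD k oneC).c3 % 3) &&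
    Nat.beq ((genA4.getD k .nil).get 0 0 % 4) ((genC.getD k oneC).c4 % 4)) = true := by decide +kernel

theorem table_ok : ((List.range 3).all fun k =>
    tableOK 231 (img3 (genC.getD k oneC).g) (genQ3.getD k .nil) &&
    tableOK 1232 (img4 (genC.getD k oneC).g) (genQ4.getD k .nil)) = true := by
  decide +kernel

theorem edge3_ok : ((List.range 3).all fun k =>
    edgeOK 231 3 val3 rowT3 (genQ3.getD k .nil) (genA3.getD k .nil)) = true := by
  decide +kernel

theorem edge4a_ok : edgeOK 1232 4 val4 rowT4 (genQ4.getD 0 .nil) (genA4.getD 0 .nil) = true := by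
  decide +kernel

theorem edge4b_ok : edgeOK 1232 4 val4 rowT4 (genQ4.getD 1 .nil) (genA4.getD 1 .nil) = true := by
  decide +kernel

theorem edge4c_ok : edgeOK 1232 4 val4 rowT4 (genQ4.getD 2 .nil) (genA4.getD 2 .nil) = true := by
  decide +kernel

end CfsgLib.KnownB.M22Mult
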