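import Cfsg.Agent.Lib.KnownB.M22Mult.Tables
import Cfsg.Agent.Lib.KnownA.MathieuOut.M22
import Cfsg.Agent.Lib.KnownB.Mult.Stab

/-! The two graphs for the multiplier of `M22` and codes. -/

set_option autoImplicit false
set_option maxRecDepth 100000

namespace CfsgLib.KnownB.M22Mult

open Cfsg CfsgLib.Spor CfsgLib.MathieuOut CfsgLib.Chev
open scoped Pointwise

/-- an element with two labels -/
structure CO where
  g : ℕ
  c3 : ℕ
  c4 : ℕ

/-- image of a pair of masks -/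
def actQ (a : ℕ) (p : ℕ × ℕ) : ℕ × ℕ :=
  (Spor.actP a p.1, Spor.actP a p.2)

/-- index of a pair of points -/
noncomputable def idx3 (p : ℕ × ℕ) : ℕ := idxT3.get 0 (p.1 % mod3)

/-- index of a hexad with a point outside -/
noncomputable def idx4 (p : ℕ × ℕ) : ℕ :=
  Nat.shiftRight (idxT4.get 0 (p.1 % mod4)) (11 * (p.2 % 37)) % 2048

/-- image of a point -/
noncomputable def img3 (a i : ℕ) : ℕ := idx3 (actQ a (ptT3.get (0, 0) i))

/-- image of a point -/
noncomputable def img4 (a i : ℕ) : ℕ := idx4 (actQ a (ptT4.get (0, 0) i))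

/-- label of an edge -/
noncomputable def lab3 (i j : ℕ) : ℕ := scanRow (rowT3.get 0 i) j val3

/-- label of an edge -/
noncomputable def lab4 (i j : ℕ) : ℕ := scanRow (rowT4.get 0 i) j val4

/-- label of a point -/
noncomputable def aLab3 (x : CO) (j : ℕ) : ℕ :=
  walkL 3 (img3 x.g) lab3 (pathT3.get [] j) 0 (img3 x.g 0) (x.c3 % 3)

/-- label of a point -/
noncomputable def aLab4 (x : CO) (j : ℕ) : ℕ :=
  walkL 4 (img4 x.g) lab4 (pathT4.get [] j) 0 (img4 x.g 0) (x.c4 % 4)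

/-- product -/
noncomputable def mulC (x y : CO) : CO :=
  ⟨Spor.compP x.g y.g, (y.c3 + aLab3 x (img3 y.g 0)) % 3, (y.c4 + aLab4 x (img4 y.g 0)) % 4⟩

/-- identity -/
def oneC : CO := ⟨MathieuOut.idP, 0, 0⟩

/-- equality -/
def eqC (x y : CO) : Bool :=
  MathieuOut.eqP x.g y.g && Nat.beq (x.c3 % 3) (y.c3 % 3) && Nat.beq (x.c4 % 4) (y.c4 % 4)

end CfsgLib.KnownB.M22Mult
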