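import Cfsg.Agent.Lib.KnownB.M22Mult.Checks

/-! The twelvefold cover of `M22` as a group of pairs of monomial maps. -/

set_option autoImplicit false
set_option maxRecDepth 100000

namespace CfsgLib.KnownB.M22Mult

open Cfsg CfsgLib.Spor CfsgLib.MathieuOut CfsgLib.Chev
open scoped Pointwise

/-- the group -/
abbrev G : Type := ↥(stabG [] [23, 0])

/-- `g` has the code `a` -/
def repG (g : G) (a : ℕ) : Prop := Spor.Rep (g : Equiv.Perm GolayPt) a

/-- the canonical code -/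
noncomputable def cg (g : G) : ℕ := canon (g : Equiv.Perm GolayPt)

theorem actP_cg {g : G} {a : ℕ} (h : repG g a) (m : ℕ) : Spor.actP a m = Spor.actP (cg g) m := by
  rw [cg, ← mask_toSet (h.actP_lt m), ← mask_toSet ((rep_canon (g : Equiv.Perm GolayPt)).actP_lt m),
    h.toSet_actP, (rep_canon (g : Equiv.Perm GolayPt)).toSet_actP]

theorem actQ_cg {g : G} {a : ℕ} (h : repG g a) (p : ℕ × ℕ) : actQ a p = actQ (cg g) p :=
  Prod.ext (actP_cg h p.1) (actP_cg h p.2)

theorem actQ_mul (g h : G) (p : ℕ × ℕ) : actQ (cg (g * h)) p = actQ (cg g) (actQ (cg h) p) := by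
  have hr : ∀ x : G, Spor.Rep (x : Equiv.Perm GolayPt) (cg x) := fun x => rep_canon _
  have key : ∀ m, Spor.actP (cg (g * h)) m = Spor.actP (cg g) (Spor.actP (cg h) m) := by
    intro m
    rw [← mask_toSet ((hr (g * h)).actP_lt m), ← mask_toSet ((hr g).actP_lt (Spor.actP (cg h) m)),
      (hr (g * h)).toSet_actP, (hr g).toSet_actP, (hr h).toSet_actP, Subgroup.coe_mul, mul_smul]
  exact Prod.ext (key p.1) (key p.2)

theorem actQ_one {p : ℕ × ℕ} (h1 : p.1 < 16777216) (h2 : p.2 < 16777216) : actQ (cg 1) p = p := by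
  have hr : Spor.Rep ((1 : G) : Equiv.Perm GolayPt) (cg 1) := rep_canon _
  have key : ∀ m, m < 16777216 → Spor.actP (cg 1) m = m := by
    intro m hm
    rw [← mask_toSet (hr.actP_lt m), hr.toSet_actP, OneMemClass.coe_one, one_smul,
      mask_toSet (lt_of_lt_of_eq hm (by norm_num))]
  exact Prod.ext (key p.1 h1) (key p.2 h2)

theorem gen_ok : (genC.all fun g => inStabP [] [23, 0] g.g) = true ∧
    checkSLP M22Cert.rows (genC.map CO.g) = true ∧
    genC.map CO.g = [M22Cert.genA, M22Cert.genB, M22Cert.genC] := by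
  refine ⟨by decide +kernel, by decide +kernel, by decide +kernel⟩

/-- the generators -/
theorem exists_gen (k : ℕ) (hk : k < 3) : ∃ g : G, repG g (genC.getD k oneC).g := by
  have hl : k < genC.length := lt_of_lt_of_eq hk (by decide +kernel)
  have h := List.all_eq_true.1 gen_ok.1 _ (List.getElem_mem hl)
  obtain ⟨σ, hσ, hr⟩ := repIn_of_inStabP (by simp) h
  exact ⟨⟨σ, hσ⟩, by rw [List.getD_eq_getElem _ _ hl]; exact hr⟩

theorem closure_gens :
    Subgroup.closure {g : G | ∃ k < 3, repG g (genC.getD k oneC).g} = ⊤ := by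
  refine Subgroup.map_injective (f := (stabG [] [23, 0]).subtype) (stabG [] [23, 0]).subtype_injective ?_
  rw [← MonoidHom.range_eq_map, Subgroup.range_subtype]
  refine eq_of_levels (Subgroup.map_subtype_le _) ?_ M22Cert.rows gen_ok.2.1 M22Cert.lev (by decide +kernel)
    (by decide +kernel) ?_
  · intro a ha
    obtain ⟨k, hk, rfl⟩ := List.getElem_of_mem ha
    have hk' : k < 3 := lt_of_lt_of_eq hk (by decide +kernel)
    obtain ⟨g, hg⟩ := exists_gen k hk'
    refine ⟨g, Subgroup.mem_map_of_mem _ (Subgroup.subset_closure ⟨k, hk', hg⟩), ?_⟩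
    rw [List.getElem_map]
    rw [List.getD_eq_getElem _ _ (by simpa using hk)] at hg
    exact hg
  · rw [stabG_M22, natCard_M22]
    decide +kernel

/-- every element permutes the points of a graph -/
theorem move_all {n : ℕ} {pt : Tr (ℕ × ℕ)} {idx : ℕ × ℕ → ℕ} (hp : ptsOK n pt idx = true)
    (hm : (genC.all fun g => moveOK n pt idx g.g) = true) (g : G) (i : ℕ) (hi : i < n) :
    ∃ j < n, actQ (cg g) (pt.get (0, 0) i) = pt.get (0, 0) j := by
  have key : ∀ g ∈ Subgroup.closure {g : G | ∃ k < 3, repG g (genC.getD k oneC).g},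
      ∀ i < n, ∃ j < n, actQ (cg g) (pt.get (0, 0) i) = pt.get (0, 0) j := by
    intro g hg
    have hone : ∀ i < n, ∃ j < n, actQ (cg 1) (pt.get (0, 0) i) = pt.get (0, 0) j := by
      intro i hi
      have h := List.all_eq_true.1 hp i (List.mem_range.2 hi)
      simp only [Bool.and_eq_true, Nat.blt_eq] at h
      exact ⟨i, hi, actQ_one h.1.2 h.2⟩
    have hmul : ∀ a b : G, (∀ i < n, ∃ j < n, actQ (cg a) (pt.get (0, 0) i) = pt.get (0, 0) j) →
        (∀ i < n, ∃ j < n, actQ (cg b) (pt.get (0, 0) i) = pt.get (0, 0) j) →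
        ∀ i < n, ∃ j < n, actQ (cg (a * b)) (pt.get (0, 0) i) = pt.get (0, 0) j := by
      intro a b ha hb i hi
      obtain ⟨j, hj, e⟩ := hb i hi
      obtain ⟨k, hk, e'⟩ := ha j hj
      exact ⟨k, hk, by rw [actQ_mul, e, e']⟩
    induction hg using Subgroup.closure_induction with
    | mem g hg =>
      obtain ⟨k, hk, hr⟩ := hg
      intro i hi
      have hl : k < genC.length := lt_of_lt_of_eq hk (by decide +kernel)
      rw [List.getD_eq_getElem _ _ hl] at hr
      have h := List.all_eq_true.1 (List.all_eq_true.1 hm _ (List.getElem_mem hl)) i (List.mem_range.2 hi)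
      simp only [Bool.and_eq_true, Nat.blt_eq, Nat.beq_eq] at h
      refine ⟨_, h.1.1, ?_⟩
      rw [← actQ_cg hr]
      exact (Prod.ext h.1.2 h.2).symm
    | one => exact hone
    | mul a b _ _ ha hb => exact hmul a b ha hb
    | inv a _ ha =>
      have e : a⁻¹ = a ^ (orderOf a - 1) := by
        rw [inv_eq_iff_mul_eq_one, ← pow_succ', Nat.sub_add_cancel (orderOf_pos a), pow_orderOf_eq_one]
      rw [e]
      induction orderOf a - 1 with
      | zero => rw [pow_zero]; exact hone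
      | succ k ih => rw [pow_succ]; exact hmul _ _ ih ha
  exact key g (closure_gens ▸ Subgroup.mem_top g) i hi

theorem idx_pt' {n : ℕ} {pt : Tr (ℕ × ℕ)} {idx : ℕ × ℕ → ℕ} (hp : ptsOK n pt idx = true) {i : ℕ}
    (hi : i < n) : idx (pt.get (0, 0) i) = i := by
  have h := List.all_eq_true.1 hp i (List.mem_range.2 hi)
  simp only [Bool.and_eq_true, Nat.beq_eq] at h
  exact h.1.1

/-- the action on the points of a graph -/
noncomputable def actPt (n : ℕ) (pt : Tr (ℕ × ℕ)) (idx : ℕ × ℕ → ℕ) (hp : ptsOK n pt idx = true)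
    (hm : (genC.all fun g => moveOK n pt idx g.g) = true) (g : G) (i : Fin n) : Fin n :=
  ⟨idx (actQ (cg g) (pt.get (0, 0) i)), by
    obtain ⟨j, hj, e⟩ := move_all hp hm g i i.2
    rw [e, idx_pt' hp hj]; exact hj⟩

theorem actPt_mul {n : ℕ} {pt : Tr (ℕ × ℕ)} {idx : ℕ × ℕ → ℕ} (hp : ptsOK n pt idx = true)
    (hm : (genC.all fun g => moveOK n pt idx g.g) = true) (g h : G) (i : Fin n) :
    actPt n pt idx hp hm (g * h) i = actPt n pt idx hp hm g (actPt n pt idx hp hm h i) := by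
  refine Fin.ext ?_
  obtain ⟨j, hj, e⟩ := move_all hp hm h i i.2
  show idx (actQ (cg (g * h)) (pt.get (0, 0) i)) =
    idx (actQ (cg g) (pt.get (0, 0) (idx (actQ (cg h) (pt.get (0, 0) i)))))
  rw [actQ_mul, e, idx_pt' hp hj]

theorem actPt_one {n : ℕ} {pt : Tr (ℕ × ℕ)} {idx : ℕ × ℕ → ℕ} (hp : ptsOK n pt idx = true)
    (hm : (genC.all fun g => moveOK n pt idx g.g) = true) (i : Fin n) :
    actPt n pt idx hp hm 1 i = i := by
  refine Fin.ext ?_
  show idx (actQ (cg 1) (pt.get (0, 0) i)) = i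
  have h := List.all_eq_true.1 hp i (List.mem_range.2 i.2)
  simp only [Bool.and_eq_true, Nat.blt_eq] at h
  rw [actQ_one h.1.2 h.2, idx_pt' hp i.2]

/-- the graph for the part at three -/
noncomputable def L3 : LGr G ℕ where
  n := 231
  m := 3
  n_pos := by norm_num
  m_pos := by norm_num
  rep := repG
  act := actPt 231 ptT3 idx3 pts3_ok move3_ok
  act_one := actPt_one pts3_ok move3_ok
  act_mul := actPt_mul pts3_ok move3_ok
  img := img3
  img_eq h i := by
    show idx3 (actQ (cg _) _) = idx3 (actQ _ _)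
    rw [actQ_cg h]
  lab := lab3
  path := pathT3.get []
  paths_ok j hj := List.all_eq_true.1 paths3_ok j (List.mem_range.2 hj)

/-- the graph for the part at four -/
noncomputable def L4 : LGr G ℕ where
  n := 1232
  m := 4
  n_pos := by norm_num
  m_pos := by norm_num
  rep := repG
  act := actPt 1232 ptT4 idx4 pts4_ok move4_ok
  act_one := actPt_one pts4_ok move4_ok
  act_mul := actPt_mul pts4_ok move4_ok
  img := img4
  img_eq h i := by
    show idx4 (actQ (cg _) _) = idx4 (actQ _ _)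
    rw [actQ_cg h]
  lab := lab4
  path := pathT4.get []
  paths_ok j hj := List.all_eq_true.1 paths4_ok j (List.mem_range.2 hj)

/-- triples -/
abbrev Amb : Type := G × Equiv.Perm (Fin 231 × ZMod 3) × Equiv.Perm (Fin 1232 × ZMod 4)

/-- the cover -/
def Cov : Subgroup Amb where
  carrier := {e | L3.Good e.1 e.2.1 ∧ L4.Good e.1 e.2.2}
  one_mem' := ⟨LGr.good_one (S := L3), LGr.good_one (S := L4)⟩
  mul_mem' ha hb := ⟨ha.1.mul hb.1, ha.2.mul hb.2⟩
  inv_mem' ha := ⟨ha.1.inv, ha.2.inv⟩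

/-- `e` has code `x` -/
def Rep (e : Cov) (x : CO) : Prop :=
  repG (e : Amb).1 x.g ∧ L3.aE (e : Amb).2.1 L3.o = (x.c3 : ZMod 3) ∧
    L4.aE (e : Amb).2.2 L4.o = (x.c4 : ZMod 4)

theorem Rep.mul {e f : Cov} {x y : CO} (he : Rep e x) (hf : Rep f y) : Rep (e * f) (mulC x y) :=
  ⟨Spor.Rep.mul he.1 hf.1, LGr.aE_mul_code e.2.1 f.2.1 he.1 hf.1 he.2.1 hf.2.1,
    LGr.aE_mul_code e.2.2 f.2.2 he.1 hf.1 he.2.2 hf.2.2⟩

theorem rep_one : Rep 1 oneC := ⟨rep_idP, rfl, rfl⟩

theorem eq_of_fst {e f : Cov} (h : (e : Amb).1 = (f : Amb).1)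
    (h3 : L3.aE (e : Amb).2.1 L3.o = L3.aE (f : Amb).2.1 L3.o)
    (h4 : L4.aE (e : Amb).2.2 L4.o = L4.aE (f : Amb).2.2 L4.o) : e = f := by
  obtain ⟨⟨g, π, ρ⟩, he⟩ := e
  obtain ⟨⟨g', π', ρ'⟩, hf⟩ := f
  simp only at h
  subst h
  have hr : repG g (cg g) := rep_canon _
  exact Subtype.ext (Prod.ext rfl (Prod.ext (LGr.perm_eq he.1 hf.1 hr h3) (LGr.perm_eq he.2 hf.2 hr h4)))

theorem eqC_iff {e f : Cov} {x y : CO} (he : Rep e x) (hf : Rep f y) : eqC x y = true ↔ e = f := by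
  rw [eqC, Bool.and_eq_true, Bool.and_eq_true, MathieuOut.eqP_iff he.1 hf.1, Nat.beq_eq, Nat.beq_eq,
    show x.c3 % 3 = y.c3 % 3 ↔ (x.c3 : ZMod 3) = y.c3 from (ZMod.natCast_eq_natCast_iff' _ _ 3).symm,
    show x.c4 % 4 = y.c4 % 4 ↔ (x.c4 : ZMod 4) = y.c4 from (ZMod.natCast_eq_natCast_iff' _ _ 4).symm,
    ← he.2.1, ← he.2.2, ← hf.2.1, ← hf.2.2]
  exact ⟨fun h => eq_of_fst (Subtype.ext h.1.1) h.1.2 h.2, by rintro rfl; exact ⟨⟨rfl, rfl⟩, rfl⟩⟩

theorem Rep.of_eqC {e : Cov} {x y : CO} (he : Rep e x) (h : eqC x y = true) : Rep e y := by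
  simp only [eqC, Bool.and_eq_true, Nat.beq_eq] at h
  refine ⟨fun i hi => ?_, he.2.1.trans ((ZMod.natCast_eq_natCast_iff' _ _ 3).2 h.1.2),
    he.2.2.trans ((ZMod.natCast_eq_natCast_iff' _ _ 4).2 h.2)⟩
  have := List.all_eq_true.1 h.1.1 i (List.mem_range.2 hi)
  rw [Nat.beq_eq] at this
  exact this.symm.trans (he.1 i hi)

end CfsgLib.KnownB.M22Mult
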