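import Cfsg.Agent.Lib.KnownB.M22Mult.Code

/-! Generated data for the twelvefold cover of `M22`. -/

set_option autoImplicit false
set_option maxRecDepth 100000

namespace CfsgLib.KnownB.M22Mult

open CfsgLib.Chev

/-- the generators -/
def genC : List CO := [⟨961967136431496928234827247650549120, 1, 1⟩,
    ⟨984167617869569514546907228281656352, 2, 3⟩,
    ⟨956905560067691225043947938942356160, 1, 1⟩]

/-- labels of the generators for the part at three -/
def genA3 : List (Tr ℕ) := [(.node 1 (.node 1 (.node 0 (.node 0 (.node 2 (.node 0 (.node 0 (.node 0 .nil .nil) (.node 1 .nil .nil)) (.node 0 (.node 0 .nil .nil) (.node 0 .nil .nil))) (.node 2 (.node 1 (.node 1 .nil .nil) (.node 1 .nil .nil)) (.node 1 (.node 0 .nil .nil) .nil))) (.node 2 (.node 2 (.node 1 (.node 1 .nil .nil) (.node 1 .nil .nil)) (.node 2 (.node 1 .nil .nil) .nil)) (.node 1 (.node 0 (.node 0 .nil .nil) (.node 1 .nil .nil)) (.node 1 (.node 2 .nil .nil) .nil)))) (.node 2 (.node 0 (.node 0 (.node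 2 (.node 1 .nil .nil) (.node 2 .nil .nil)) (.node 0 (.node 2 .nil .nil) (.node 1 .nil .nil))) (.node 1 (.node 1 (.node 2 .nil .nil) (.node 0 .nil .nil)) (.node 1 (.node 0 .nil .nil) .nil))) (.node 2 (.node 2 (.node 1 (.node 0 .nil .nil) (.node 1 .nil .nil)) (.node 1 (.node 1 .nil .nil) .nil)) (.node 0 (.node 1 (.node 1 .nil .nil) (.node 1 .nil .nil)) (.node 1 (.node 1 .nil .nil) .nil))))) (.node 0 (.node 1 (.node 2 (.node 1 (.node 1 (.node 1 .nil .nil) (.node 1 .nil .nil)) (.node 2 (.node 1 .nil .nil) (.node 1 .nil .nil))) (.node 1 (.node 2 (.node 1 .nil .nil) (.node 1 .nil .nil)) (.node 1 (.node 1 .nil .nil) .nil))) (.node 2 (.node 2 (.node 2 (.node 0 .nil .nil) (.node 2 .nil .nil)) (.node 1 (.node 2 .nil .nil) .nil)) (.node 0 (.node 1 (.node 2 .nil .nil) (.node 1 .nil .nil)) (.node 1 (.node 2 .nil .nil) .nil)))) (.node 1 (.node 1 (.node 0 (.node 0 (.node 2 .nil .nil) (.node 1 .nil .nil)) (.node 1 (.node 1 .nil .nil) (.node 1 .nil .nil))) (.node 2 (.node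 0 (.node 1 .nil .nil) (.node 1 .nil .nil)) (.node 1 (.node 1 .nil .nil) .nil))) (.node 1 (.node 1 (.node 1 (.node 0 .nil .nil) (.node 2 .nil .nil)) (.node 1 (.node 2 .nil .nil) .nil)) (.node 1 (.node 0 (.node 1 .nil .nil) (.node 1 .nil .nil)) (.node 1 (.node 2 .nil .nil) .nil)))))) (.node 0 (.node 0 (.node 2 (.node 0 (.node 0 (.node 1 (.node 1 .nil .nil) (.node 1 .nil .nil)) (.node 2 (.node 0 .nil .nil) (.node 2 .nil .nil))) (.node 1 (.node 1 (.node 0 .nil .nil) (.node 0 .nil .nil)) (.node 1 (.node 0 .nil .nil) .nil))) (.node 2 (.node 1 (.node 0 (.node 1 .nil .nil) (.node 0 .nil .nil)) (.node 2 (.node 0 .nil .nil) .nil)) (.node 1 (.node 2 (.node 1 .nil .nil) (.node 1 .nil .nil)) (.node 1 (.node 1 .nil .nil) .nil)))) (.node 2 (.node 1 (.node 2 (.node 1 (.node 2 .nil .nil) (.node 0 .nil .nil)) (.node 1 (.node 1 .nil .nil) (.node 2 .nil .nil))) (.node 2 (.node 1 (.node 2 .nil .nil) (.node 1 .nil .nil)) (.node 1 (.node 1 .nil .nil) .nil))) (.node 0 (.node 1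 (.node 1 (.node 1 .nil .nil) (.node 0 .nil .nil)) (.node 0 (.node 1 .nil .nil) .nil)) (.node 2 (.node 2 (.node 2 .nil .nil) (.node 2 .nil .nil)) (.node 2 (.node 1 .nil .nil) .nil))))) (.node 2 (.node 0 (.node 1 (.node 1 (.node 0 (.node 2 .nil .nil) (.node 1 .nil .nil)) (.node 0 (.node 1 .nil .nil) (.node 1 .nil .nil))) (.node 0 (.node 0 (.node 1 .nil .nil) (.node 0 .nil .nil)) (.node 1 (.node 0 .nil .nil) .nil))) (.node 0 (.node 1 (.node 1 (.node 0 .nil .nil) (.node 2 .nil .nil)) (.node 2 (.node 1 .nil .nil) .nil)) (.node 0 (.node 1 (.node 2 .nil .nil) (.node 2 .nil .nil)) (.node 1 (.node 2 .nil .nil) .nil)))) (.node 1 (.node 2 (.node 1 (.node 1 (.node 1 .nil .nil) (.node 1 .nil .nil)) (.node 0 (.node 2 .nil .nil) (.node 1 .nil .nil))) (.node 1 (.node 1 (.node 1 .nil .nil) (.node 0 .nil .nil)) (.node 1 (.node 1 .nil .nil) .nil))) (.node 2 (.node 0 (.node 2 (.node 0 .nil .nil) (.node 1 .nil .nil)) (.node 1 (.node 2 .nil .nil) .nil)) (.node 1 (.node 0 (.node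 1 .nil .nil) (.node 0 .nil .nil)) (.node 2 (.node 0 .nil .nil) .nil))))))),
    (.node 2 (.node 0 (.node 1 (.node 0 (.node 1 (.node 0 (.node 0 (.node 1 .nil .nil) (.node 0 .nil .nil)) (.node 0 (.node 0 .nil .nil) (.node 0 .nil .nil))) (.node 0 (.node 0 (.node 1 .nil .nil) (.node 1 .nil .nil)) (.node 0 (.node 2 .nil .nil) .nil))) (.node 1 (.node 0 (.node 0 (.node 1 .nil .nil) (.node 1 .nil .nil)) (.node 0 (.node 0 .nil .nil) .nil)) (.node 1 (.node 0 (.node 1 .nil .nil) (.node 1 .nil .nil)) (.node 1 (.node 2 .nil .nil) .nil)))) (.node 0 (.node 1 (.node 2 (.node 1 (.node 1 .nil .nil) (.node 0 .nil .nil)) (.node 0 (.node 2 .nil .nil) (.node 1 .nil .nil))) (.node 1 (.node 1 (.node 1 .nil .nil) (.node 1 .nil .nil)) (.node 2 (.node 2 .nil .nil) .nil))) (.node 2 (.node 2 (.node 2 (.node 1 .nil .nil) (.node 0 .nil .nil)) (.node 2 (.node 2 .nil .nil) .nil)) (.node 0 (.node 2 (.node 0 .nil .nil) (.node 2 .nil .nil)) (.node 2 (.node 0 .nil .nil) .nil))))) (.node 0 (.node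 2 (.node 0 (.node 2 (.node 0 (.node 2 .nil .nil) (.node 1 .nil .nil)) (.node 1 (.node 0 .nil .nil) (.node 2 .nil .nil))) (.node 0 (.node 1 (.node 2 .nil .nil) (.node 0 .nil .nil)) (.node 1 (.node 2 .nil .nil) .nil))) (.node 2 (.node 2 (.node 2 (.node 2 .nil .nil) (.node 2 .nil .nil)) (.node 1 (.node 0 .nil .nil) .nil)) (.node 2 (.node 1 (.node 2 .nil .nil) (.node 0 .nil .nil)) (.node 1 (.node 0 .nil .nil) .nil)))) (.node 1 (.node 0 (.node 0 (.node 0 (.node 2 .nil .nil) (.node 2 .nil .nil)) (.node 1 (.node 1 .nil .nil) (.node 2 .nil .nil))) (.node 1 (.node 1 (.node 1 .nil .nil) (.node 2 .nil .nil)) (.node 2 (.node 0 .nil .nil) .nil))) (.node 2 (.node 1 (.node 2 (.node 1 .nil .nil) (.node 0 .nil .nil)) (.node 1 (.node 2 .nil .nil) .nil)) (.node 1 (.node 1 (.node 0 .nil .nil) (.node 0 .nil .nil)) (.node 1 (.node 0 .nil .nil) .nil)))))) (.node 1 (.node 0 (.node 2 (.node 2 (.node 2 (.node 1 (.node 0 .nil .nil) (.node 2 .nil .nil)) (.node 0 (.node 1 .nil .nil)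 (.node 2 .nil .nil))) (.node 2 (.node 0 (.node 1 .nil .nil) (.node 0 .nil .nil)) (.node 1 (.node 2 .nil .nil) .nil))) (.node 1 (.node 1 (.node 1 (.node 1 .nil .nil) (.node 2 .nil .nil)) (.node 0 (.node 0 .nil .nil) .nil)) (.node 2 (.node 0 (.node 1 .nil .nil) (.node 0 .nil .nil)) (.node 2 (.node 0 .nil .nil) .nil)))) (.node 0 (.node 2 (.node 0 (.node 1 (.node 0 .nil .nil) (.node 0 .nil .nil)) (.node 1 (.node 0 .nil .nil) (.node 2 .nil .nil))) (.node 0 (.node 1 (.node 1 .nil .nil) (.node 1 .nil .nil)) (.node 2 (.node 1 .nil .nil) .nil))) (.node 2 (.node 1 (.node 1 (.node 1 .nil .nil) (.node 0 .nil .nil)) (.node 2 (.node 2 .nil .nil) .nil)) (.node 0 (.node 2 (.node 1 .nil .nil) (.node 0 .nil .nil)) (.node 2 (.node 2 .nil .nil) .nil))))) (.node 1 (.node 1 (.node 1 (.node 1 (.node 2 (.node 2 .nil .nil) (.node 0 .nil .nil)) (.node 2 (.node 2 .nil .nil) (.node 0 .nil .nil))) (.node 0 (.node 1 (.node 1 .nil .nil) (.node 2 .nil .nil)) (.node 0 (.node 0 .nil .nil)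 .nil))) (.node 1 (.node 2 (.node 2 (.node 2 .nil .nil) (.node 1 .nil .nil)) (.node 2 (.node 1 .nil .nil) .nil)) (.node 0 (.node 2 (.node 2 .nil .nil) (.node 2 .nil .nil)) (.node 1 (.node 2 .nil .nil) .nil)))) (.node 0 (.node 2 (.node 0 (.node 0 (.node 2 .nil .nil) (.node 1 .nil .nil)) (.node 0 (.node 1 .nil .nil) (.node 0 .nil .nil))) (.node 0 (.node 0 (.node 0 .nil .nil) (.node 2 .nil .nil)) (.node 0 (.node 0 .nil .nil) .nil))) (.node 0 (.node 1 (.node 2 (.node 1 .nil .nil) (.node 0 .nil .nil)) (.node 2 (.node 1 .nil .nil) .nil)) (.node 0 (.node 2 (.node 2 .nil .nil) (.node 2 .nil .nil)) (.node 1 (.node 0 .nil .nil) .nil))))))),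
    (.node 1 (.node 2 (.node 1 (.node 2 (.node 0 (.node 2 (.node 1 (.node 0 .nil .nil) (.node 2 .nil .nil)) (.node 1 (.node 2 .nil .nil) (.node 0 .nil .nil))) (.node 2 (.node 1 (.node 2 .nil .nil) (.node 0 .nil .nil)) (.node 0 (.node 1 .nil .nil) .nil))) (.node 2 (.node 2 (.node 2 (.node 2 .nil .nil) (.node 1 .nil .nil)) (.node 0 (.node 0 .nil .nil) .nil)) (.node 0 (.node 0 (.node 1 .nil .nil) (.node 0 .nil .nil)) (.node 0 (.node 0 .nil .nil) .nil)))) (.node 2 (.node 1 (.node 0 (.node 1 (.node 0 .nil .nil) (.node 1 .nil .nil)) (.node 1 (.node 2 .nil .nil) (.node 1 .nil .nil))) (.node 1 (.node 1 (.node 0 .nil .nil) (.node 0 .nil .nil)) (.node 2 (.node 0 .nil .nil) .nil))) (.node 0 (.node 0 (.node 1 (.node 0 .nil .nil) (.node 0 .nil .nil)) (.node 2 (.node 1 .nil .nil) .nil)) (.node 1 (.node 2 (.node 2 .nil .nil) (.node 2 .nil .nil)) (.node 1 (.node 2 .nil .nil) .nil))))) (.node 2 (.node 1 (.node 1 (.node 2 (.node 1 (.node 1 .nil .nil) (.node 2 .nil .nil))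 (.node 2 (.node 0 .nil .nil) (.node 2 .nil .nil))) (.node 0 (.node 2 (.node 1 .nil .nil) (.node 1 .nil .nil)) (.node 0 (.node 1 .nil .nil) .nil))) (.node 2 (.node 1 (.node 1 (.node 2 .nil .nil) (.node 1 .nil .nil)) (.node 1 (.node 0 .nil .nil) .nil)) (.node 0 (.node 1 (.node 1 .nil .nil) (.node 0 .nil .nil)) (.node 1 (.node 1 .nil .nil) .nil)))) (.node 0 (.node 0 (.node 1 (.node 1 (.node 0 .nil .nil) (.node 0 .nil .nil)) (.node 2 (.node 2 .nil .nil) (.node 1 .nil .nil))) (.node 0 (.node 2 (.node 0 .nil .nil) (.node 0 .nil .nil)) (.node 0 (.node 0 .nil .nil) .nil))) (.node 1 (.node 1 (.node 1 (.node 0 .nil .nil) (.node 0 .nil .nil)) (.node 0 (.node 1 .nil .nil) .nil)) (.node 1 (.node 0 (.node 2 .nil .nil) (.node 2 .nil .nil)) (.node 2 (.node 2 .nil .nil) .nil)))))) (.node 1 (.node 0 (.node 1 (.node 0 (.node 1 (.node 1 (.node 0 .nil .nil) (.node 2 .nil .nil)) (.node 2 (.node 1 .nil .nil) (.node 0 .nil .nil))) (.node 2 (.node 2 (.node 2 .nil .nil) (.node 0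 .nil .nil)) (.node 0 (.node 2 .nil .nil) .nil))) (.node 1 (.node 0 (.node 1 (.node 2 .nil .nil) (.node 2 .nil .nil)) (.node 0 (.node 2 .nil .nil) .nil)) (.node 1 (.node 0 (.node 1 .nil .nil) (.node 1 .nil .nil)) (.node 1 (.node 2 .nil .nil) .nil)))) (.node 0 (.node 2 (.node 0 (.node 0 (.node 1 .nil .nil) (.node 0 .nil .nil)) (.node 0 (.node 2 .nil .nil) (.node 0 .nil .nil))) (.node 2 (.node 0 (.node 2 .nil .nil) (.node 0 .nil .nil)) (.node 2 (.node 2 .nil .nil) .nil))) (.node 0 (.node 2 (.node 1 (.node 0 .nil .nil) (.node 2 .nil .nil)) (.node 0 (.node 0 .nil .nil) .nil)) (.node 1 (.node 2 (.node 0 .nil .nil) (.node 0 .nil .nil)) (.node 2 (.node 1 .nil .nil) .nil))))) (.node 2 (.node 0 (.node 0 (.node 0 (.node 1 (.node 2 .nil .nil) (.node 2 .nil .nil)) (.node 1 (.node 1 .nil .nil) (.node 1 .nil .nil))) (.node 2 (.node 1 (.node 0 .nil .nil) (.node 0 .nil .nil)) (.node 2 (.node 1 .nil .nil) .nil))) (.node 1 (.node 0 (.node 1 (.node 1 .nil .nil) (.node 2 .nil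 .nil)) (.node 2 (.node 0 .nil .nil) .nil)) (.node 1 (.node 0 (.node 2 .nil .nil) (.node 1 .nil .nil)) (.node 0 (.node 2 .nil .nil) .nil)))) (.node 0 (.node 1 (.node 2 (.node 1 (.node 0 .nil .nil) (.node 2 .nil .nil)) (.node 2 (.node 2 .nil .nil) (.node 0 .nil .nil))) (.node 2 (.node 2 (.node 2 .nil .nil) (.node 0 .nil .nil)) (.node 2 (.node 1 .nil .nil) .nil))) (.node 2 (.node 1 (.node 1 (.node 1 .nil .nil) (.node 1 .nil .nil)) (.node 2 (.node 2 .nil .nil) .nil)) (.node 1 (.node 0 (.node 0 .nil .nil) (.node 1 .nil .nil)) (.node 1 (.node 2 .nil .nil) .nil)))))))]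

/-- labels of the generators for the part at four -/
def genA4 : List (Tr ℕ) := [(.node 1 (.node 2 (.node 2 (.node 1 (.node 1 (.node 3 (.node 3 (.node 3 (.node 0 (.node 3 (.node 3 .nil .nil) .nil) (.node 0 .nil .nil)) (.node 3 (.node 2 (.node 2 .nil .nil) .nil) (.node 2 .nil .nil))) (.node 2 (.node 2 (.node 3 (.node 0 .nil .nil) .nil) (.node 1 .nil .nil)) (.node 1 (.node 0 (.node 3 .nil .nil) .nil) (.node 2 .nil .nil)))) (.node 3 (.node 1 (.node 3 (.node 0 (.node 2 .nil .nil) .nil) (.node 3 .nil .nil)) (.node 0 (.node 0 (.node 1 .nil .nil) .nil) (.node 2 .nil .nil))) (.node 2 (.node 3 (.node 2 (.node 3 .nil .nil) .nil) (.node 3 .nil .nil)) (.node 3 (.node 3 .nil .nil) (.node 1 .nil .nil))))) (.node 2 (.node 2 (.node 1 (.node 2 (.node 3 (.node 1 .nil .nil) .nil) (.node 3 .nil .nil)) (.node 2 (.node 1 (.node 2 .nil .nil) .nil) (.node 3 .nil .nil))) (.node 3 (.node 3 (.node 0 (.node 1 .nil .nil) .nil) (.node 3 .nil .nil)) (.node 0 (.node 1 (.node 1 .nil .nil)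 .nil) (.node 0 .nil .nil)))) (.node 2 (.node 0 (.node 0 (.node 2 (.node 3 .nil .nil) .nil) (.node 2 .nil .nil)) (.node 0 (.node 2 (.node 0 .nil .nil) .nil) (.node 2 .nil .nil))) (.node 0 (.node 2 (.node 3 (.node 0 .nil .nil) .nil) (.node 3 .nil .nil)) (.node 1 (.node 0 .nil .nil) (.node 0 .nil .nil)))))) (.node 3 (.node 2 (.node 2 (.node 1 (.node 0 (.node 3 (.node 3 .nil .nil) .nil) (.node 3 .nil .nil)) (.node 0 (.node 0 (.node 2 .nil .nil) .nil) (.node 2 .nil .nil))) (.node 0 (.node 3 (.node 0 (.node 0 .nil .nil) .nil) (.node 0 .nil .nil)) (.node 3 (.node 0 (.node 2 .nil .nil) .nil) (.node 1 .nil .nil)))) (.node 0 (.node 1 (.node 1 (.node 1 (.node 0 .nil .nil) .nil) (.node 2 .nil .nil)) (.node 2 (.node 0 (.node 2 .nil .nil) .nil) (.node 1 .nil .nil))) (.node 1 (.node 2 (.node 2 (.node 1 .nil .nil) .nil) (.node 0 .nil .nil)) (.node 0 (.node 0 .nil .nil) (.node 2 .nil .nil))))) (.node 3 (.node 2 (.node 3 (.node 0 (.node 1 (.node 3 .nil .nil) .nil) (.node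 1 .nil .nil)) (.node 1 (.node 0 (.node 2 .nil .nil) .nil) (.node 3 .nil .nil))) (.node 1 (.node 3 (.node 1 (.node 0 .nil .nil) .nil) (.node 0 .nil .nil)) (.node 2 (.node 3 .nil .nil) (.node 0 .nil .nil)))) (.node 2 (.node 2 (.node 0 (.node 0 (.node 3 .nil .nil) .nil) (.node 1 .nil .nil)) (.node 3 (.node 0 (.node 1 .nil .nil) .nil) (.node 0 .nil .nil))) (.node 2 (.node 3 (.node 1 (.node 1 .nil .nil) .nil) (.node 1 .nil .nil)) (.node 0 (.node 2 .nil .nil) (.node 1 .nil .nil))))))) (.node 2 (.node 3 (.node 3 (.node 3 (.node 1 (.node 2 (.node 1 (.node 3 .nil .nil) .nil) (.node 3 .nil .nil)) (.node 0 (.node 2 (.node 1 .nil .nil) .nil) (.node 3 .nil .nil))) (.node 0 (.node 3 (.node 2 (.node 1 .nil .nil) .nil) (.node 1 .nil .nil)) (.node 2 (.node 0 (.node 3 .nil .nil) .nil) (.node 2 .nil .nil)))) (.node 3 (.node 2 (.node 0 (.node 3 (.node 1 .nil .nil) .nil) (.node 3 .nil .nil)) (.node 1 (.node 0 (.node 0 .nil .nil) .nil) (.node 1 .nil .nil))) (.node 2 (.node 3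 (.node 0 (.node 0 .nil .nil) .nil) (.node 2 .nil .nil)) (.node 0 (.node 1 .nil .nil) (.node 1 .nil .nil))))) (.node 1 (.node 1 (.node 0 (.node 2 (.node 0 (.node 0 .nil .nil) .nil) (.node 1 .nil .nil)) (.node 0 (.node 0 (.node 2 .nil .nil) .nil) (.node 0 .nil .nil))) (.node 3 (.node 3 (.node 0 (.node 3 .nil .nil) .nil) (.node 1 .nil .nil)) (.node 2 (.node 1 .nil .nil) (.node 1 .nil .nil)))) (.node 1 (.node 1 (.node 3 (.node 3 (.node 3 .nil .nil) .nil) (.node 1 .nil .nil)) (.node 0 (.node 1 (.node 0 .nil .nil) .nil) (.node 1 .nil .nil))) (.node 2 (.node 1 (.node 2 (.node 2 .nil .nil) .nil) (.node 1 .nil .nil)) (.node 0 (.node 0 .nil .nil) (.node 1 .nil .nil)))))) (.node 1 (.node 1 (.node 2 (.node 1 (.node 0 (.node 2 (.node 1 .nil .nil) .nil) (.node 0 .nil .nil)) (.node 0 (.node 2 (.node 1 .nil .nil) .nil) (.node 3 .nil .nil))) (.node 1 (.node 0 (.node 3 (.node 0 .nil .nil) .nil) (.node 2 .nil .nil)) (.node 3 (.node 1 (.node 3 .nil .nil) .nil) (.node 0 .nil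 .nil)))) (.node 3 (.node 3 (.node 0 (.node 0 (.node 2 .nil .nil) .nil) (.node 3 .nil .nil)) (.node 3 (.node 1 (.node 3 .nil .nil) .nil) (.node 3 .nil .nil))) (.node 1 (.node 1 (.node 0 (.node 3 .nil .nil) .nil) (.node 3 .nil .nil)) (.node 0 (.node 2 .nil .nil) (.node 0 .nil .nil))))) (.node 3 (.node 1 (.node 3 (.node 3 (.node 3 (.node 2 .nil .nil) .nil) (.node 2 .nil .nil)) (.node 3 (.node 0 (.node 0 .nil .nil) .nil) (.node 0 .nil .nil))) (.node 0 (.node 1 (.node 2 (.node 3 .nil .nil) .nil) (.node 2 .nil .nil)) (.node 1 (.node 0 .nil .nil) (.node 3 .nil .nil)))) (.node 0 (.node 3 (.node 2 (.node 0 (.node 3 .nil .nil) .nil) (.node 1 .nil .nil)) (.node 1 (.node 3 (.node 1 .nil .nil) .nil) (.node 2 .nil .nil))) (.node 0 (.node 0 (.node 1 (.node 2 .nil .nil) .nil) (.node 3 .nil .nil)) (.node 3 (.node 2 .nil .nil) (.node 0 .nil .nil)))))))) (.node 3 (.node 0 (.node 1 (.node 2 (.node 0 (.node 3 (.node 2 (.node 2 (.node 1 .nil .nil) .nil) (.node 1 .nil .nil)) (.node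 3 (.node 1 (.node 1 .nil .nil) .nil) (.node 1 .nil .nil))) (.node 2 (.node 1 (.node 1 (.node 0 .nil .nil) .nil) (.node 0 .nil .nil)) (.node 2 (.node 2 (.node 2 .nil .nil) .nil) (.node 1 .nil .nil)))) (.node 0 (.node 1 (.node 3 (.node 2 (.node 0 .nil .nil) .nil) (.node 2 .nil .nil)) (.node 0 (.node 0 (.node 2 .nil .nil) .nil) (.node 1 .nil .nil))) (.node 3 (.node 2 (.node 3 (.node 1 .nil .nil) .nil) (.node 3 .nil .nil)) (.node 3 (.node 0 .nil .nil) (.node 2 .nil .nil))))) (.node 0 (.node 3 (.node 0 (.node 1 (.node 3 (.node 2 .nil .nil) .nil) (.node 1 .nil .nil)) (.node 0 (.node 1 (.node 2 .nil .nil) .nil) (.node 1 .nil .nil))) (.node 0 (.node 0 (.node 0 (.node 0 .nil .nil) .nil) (.node 2 .nil .nil)) (.node 0 (.node 1 .nil .nil) (.node 1 .nil .nil)))) (.node 3 (.node 0 (.node 3 (.node 0 (.node 1 .nil .nil) .nil) (.node 2 .nil .nil)) (.node 1 (.node 3 (.node 3 .nil .nil) .nil) (.node 1 .nil .nil))) (.node 0 (.node 1 (.node 2 (.node 0 .nil .nil) .nil) (.node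 2 .nil .nil)) (.node 3 (.node 3 .nil .nil) (.node 3 .nil .nil)))))) (.node 2 (.node 2 (.node 0 (.node 0 (.node 0 (.node 3 (.node 2 .nil .nil) .nil) (.node 1 .nil .nil)) (.node 1 (.node 3 (.node 2 .nil .nil) .nil) (.node 1 .nil .nil))) (.node 0 (.node 3 (.node 1 (.node 1 .nil .nil) .nil) (.node 3 .nil .nil)) (.node 1 (.node 1 (.node 2 .nil .nil) .nil) (.node 1 .nil .nil)))) (.node 2 (.node 2 (.node 3 (.node 2 (.node 3 .nil .nil) .nil) (.node 3 .nil .nil)) (.node 1 (.node 2 (.node 2 .nil .nil) .nil) (.node 0 .nil .nil))) (.node 3 (.node 2 (.node 1 (.node 2 .nil .nil) .nil) (.node 0 .nil .nil)) (.node 2 (.node 2 .nil .nil) (.node 3 .nil .nil))))) (.node 2 (.node 1 (.node 2 (.node 3 (.node 2 (.node 0 .nil .nil) .nil) (.node 1 .nil .nil)) (.node 3 (.node 2 (.node 0 .nil .nil) .nil) (.node 0 .nil .nil))) (.node 3 (.node 0 (.node 3 (.node 1 .nil .nil) .nil) (.node 1 .nil .nil)) (.node 3 (.node 1 .nil .nil) (.node 2 .nil .nil)))) (.node 2 (.node 0 (.node 0 (.node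 3 (.node 2 .nil .nil) .nil) (.node 2 .nil .nil)) (.node 0 (.node 0 (.node 2 .nil .nil) .nil) (.node 0 .nil .nil))) (.node 3 (.node 3 (.node 1 (.node 3 .nil .nil) .nil) (.node 3 .nil .nil)) (.node 1 (.node 3 .nil .nil) (.node 3 .nil .nil))))))) (.node 0 (.node 3 (.node 3 (.node 3 (.node 2 (.node 2 (.node 1 (.node 2 .nil .nil) .nil) (.node 1 .nil .nil)) (.node 0 (.node 1 (.node 1 .nil .nil) .nil) (.node 3 .nil .nil))) (.node 1 (.node 2 (.node 2 (.node 2 .nil .nil) .nil) (.node 3 .nil .nil)) (.node 2 (.node 3 (.node 3 .nil .nil) .nil) (.node 1 .nil .nil)))) (.node 3 (.node 1 (.node 3 (.node 3 (.node 1 .nil .nil) .nil) (.node 3 .nil .nil)) (.node 2 (.node 2 (.node 2 .nil .nil) .nil) (.node 2 .nil .nil))) (.node 3 (.node 2 (.node 2 (.node 1 .nil .nil) .nil) (.node 0 .nil .nil)) (.node 1 (.node 2 .nil .nil) (.node 1 .nil .nil))))) (.node 3 (.node 0 (.node 1 (.node 2 (.node 2 (.node 2 .nil .nil) .nil) (.node 3 .nil .nil)) (.node 3 (.node 0 (.node 3 .nil .nil) .nil)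 (.node 1 .nil .nil))) (.node 1 (.node 2 (.node 0 (.node 3 .nil .nil) .nil) (.node 1 .nil .nil)) (.node 1 (.node 3 .nil .nil) (.node 1 .nil .nil)))) (.node 0 (.node 2 (.node 2 (.node 0 (.node 2 .nil .nil) .nil) (.node 1 .nil .nil)) (.node 1 (.node 0 (.node 3 .nil .nil) .nil) (.node 2 .nil .nil))) (.node 0 (.node 0 (.node 3 (.node 0 .nil .nil) .nil) (.node 1 .nil .nil)) (.node 0 (.node 1 .nil .nil) (.node 1 .nil .nil)))))) (.node 3 (.node 0 (.node 1 (.node 1 (.node 1 (.node 1 (.node 2 .nil .nil) .nil) (.node 1 .nil .nil)) (.node 2 (.node 3 (.node 0 .nil .nil) .nil) (.node 1 .nil .nil))) (.node 3 (.node 1 (.node 0 (.node 2 .nil .nil) .nil) (.node 0 .nil .nil)) (.node 1 (.node 2 (.node 2 .nil .nil) .nil) (.node 3 .nil .nil)))) (.node 2 (.node 1 (.node 1 (.node 2 (.node 1 .nil .nil) .nil) (.node 0 .nil .nil)) (.node 3 (.node 3 (.node 1 .nil .nil) .nil) (.node 2 .nil .nil))) (.node 1 (.node 2 (.node 1 (.node 0 .nil .nil) .nil) (.node 3 .nil .nil)) (.node 3 (.node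 2 .nil .nil) (.node 0 .nil .nil))))) (.node 3 (.node 1 (.node 3 (.node 3 (.node 2 (.node 2 .nil .nil) .nil) (.node 1 .nil .nil)) (.node 3 (.node 1 (.node 1 .nil .nil) .nil) (.node 1 .nil .nil))) (.node 1 (.node 1 (.node 0 (.node 2 .nil .nil) .nil) (.node 0 .nil .nil)) (.node 1 (.node 0 .nil .nil) (.node 3 .nil .nil)))) (.node 0 (.node 2 (.node 2 (.node 3 (.node 3 .nil .nil) .nil) (.node 3 .nil .nil)) (.node 1 (.node 3 (.node 0 .nil .nil) .nil) (.node 0 .nil .nil))) (.node 0 (.node 3 (.node 0 (.node 3 .nil .nil) .nil) (.node 2 .nil .nil)) (.node 1 (.node 1 .nil .nil) (.node 2 .nil .nil))))))))) (.node 1 (.node 3 (.node 3 (.node 1 (.node 2 (.node 3 (.node 3 (.node 0 (.node 1 (.node 3 .nil .nil) .nil) (.node 3 .nil .nil)) (.node 3 (.node 3 (.node 1 .nil .nil) .nil) (.node 0 .nil .nil))) (.node 2 (.node 2 (.node 1 (.node 3 .nil .nil) .nil) (.node 3 .nil .nil)) (.node 0 (.node 2 (.node 0 .nil .nil) .nil) (.node 1 .nil .nil)))) (.node 1 (.node 2 (.node 3 (.node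 0 (.node 2 .nil .nil) .nil) (.node 0 .nil .nil)) (.node 3 (.node 3 (.node 2 .nil .nil) .nil) (.node 3 .nil .nil))) (.node 1 (.node 0 (.node 0 (.node 2 .nil .nil) .nil) (.node 2 .nil .nil)) (.node 3 (.node 3 .nil .nil) (.node 3 .nil .nil))))) (.node 1 (.node 2 (.node 0 (.node 0 (.node 0 (.node 0 .nil .nil) .nil) (.node 0 .nil .nil)) (.node 1 (.node 2 (.node 1 .nil .nil) .nil) (.node 2 .nil .nil))) (.node 0 (.node 2 (.node 3 (.node 2 .nil .nil) .nil) (.node 1 .nil .nil)) (.node 3 (.node 1 .nil .nil) (.node 3 .nil .nil)))) (.node 2 (.node 2 (.node 2 (.node 3 (.node 3 .nil .nil) .nil) (.node 2 .nil .nil)) (.node 2 (.node 0 (.node 3 .nil .nil) .nil) (.node 0 .nil .nil))) (.node 0 (.node 0 (.node 3 (.node 0 .nil .nil) .nil) (.node 2 .nil .nil)) (.node 0 (.node 1 .nil .nil) (.node 1 .nil .nil)))))) (.node 1 (.node 2 (.node 2 (.node 1 (.node 2 (.node 2 (.node 3 .nil .nil) .nil) (.node 2 .nil .nil)) (.node 2 (.node 2 (.node 3 .nil .nil) .nil) (.node 1 .nil .nil)))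 (.node 0 (.node 0 (.node 0 (.node 3 .nil .nil) .nil) (.node 0 .nil .nil)) (.node 2 (.node 2 (.node 2 .nil .nil) .nil) (.node 1 .nil .nil)))) (.node 2 (.node 0 (.node 1 (.node 0 (.node 2 .nil .nil) .nil) (.node 0 .nil .nil)) (.node 3 (.node 2 (.node 0 .nil .nil) .nil) (.node 0 .nil .nil))) (.node 2 (.node 2 (.node 0 (.node 0 .nil .nil) .nil) (.node 3 .nil .nil)) (.node 2 (.node 3 .nil .nil) (.node 3 .nil .nil))))) (.node 3 (.node 1 (.node 1 (.node 2 (.node 0 (.node 3 .nil .nil) .nil) (.node 1 .nil .nil)) (.node 1 (.node 0 (.node 3 .nil .nil) .nil) (.node 0 .nil .nil))) (.node 3 (.node 3 (.node 0 (.node 2 .nil .nil) .nil) (.node 3 .nil .nil)) (.node 3 (.node 0 .nil .nil) (.node 2 .nil .nil)))) (.node 0 (.node 1 (.node 1 (.node 1 (.node 1 .nil .nil) .nil) (.node 1 .nil .nil)) (.node 3 (.node 2 (.node 0 .nil .nil) .nil) (.node 2 .nil .nil))) (.node 3 (.node 2 (.node 0 (.node 0 .nil .nil) .nil) (.node 1 .nil .nil)) (.node 2 (.node 3 .nil .nil) (.node 3 .nil .nil)))))))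 (.node 3 (.node 0 (.node 2 (.node 2 (.node 3 (.node 0 (.node 0 (.node 0 .nil .nil) .nil) (.node 3 .nil .nil)) (.node 1 (.node 0 (.node 3 .nil .nil) .nil) (.node 0 .nil .nil))) (.node 1 (.node 0 (.node 3 (.node 3 .nil .nil) .nil) (.node 0 .nil .nil)) (.node 2 (.node 3 (.node 2 .nil .nil) .nil) (.node 0 .nil .nil)))) (.node 1 (.node 1 (.node 2 (.node 1 (.node 1 .nil .nil) .nil) (.node 0 .nil .nil)) (.node 0 (.node 0 (.node 2 .nil .nil) .nil) (.node 2 .nil .nil))) (.node 1 (.node 3 (.node 3 (.node 2 .nil .nil) .nil) (.node 2 .nil .nil)) (.node 2 (.node 1 .nil .nil) (.node 2 .nil .nil))))) (.node 2 (.node 0 (.node 0 (.node 0 (.node 2 (.node 3 .nil .nil) .nil) (.node 1 .nil .nil)) (.node 0 (.node 2 (.node 2 .nil .nil) .nil) (.node 0 .nil .nil))) (.node 2 (.node 1 (.node 0 (.node 2 .nil .nil) .nil) (.node 1 .nil .nil)) (.node 2 (.node 0 .nil .nil) (.node 3 .nil .nil)))) (.node 3 (.node 0 (.node 3 (.node 2 (.node 0 .nil .nil) .nil) (.node 3 .nil .nil)) (.node 1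 (.node 2 (.node 0 .nil .nil) .nil) (.node 2 .nil .nil))) (.node 1 (.node 3 (.node 0 (.node 1 .nil .nil) .nil) (.node 3 .nil .nil)) (.node 3 (.node 2 .nil .nil) (.node 3 .nil .nil)))))) (.node 3 (.node 3 (.node 0 (.node 3 (.node 1 (.node 2 (.node 0 .nil .nil) .nil) (.node 2 .nil .nil)) (.node 1 (.node 1 (.node 3 .nil .nil) .nil) (.node 3 .nil .nil))) (.node 1 (.node 3 (.node 0 (.node 1 .nil .nil) .nil) (.node 1 .nil .nil)) (.node 1 (.node 3 (.node 3 .nil .nil) .nil) (.node 1 .nil .nil)))) (.node 1 (.node 0 (.node 3 (.node 0 (.node 1 .nil .nil) .nil) (.node 2 .nil .nil)) (.node 2 (.node 0 (.node 0 .nil .nil) .nil) (.node 2 .nil .nil))) (.node 1 (.node 0 (.node 1 (.node 0 .nil .nil) .nil) (.node 2 .nil .nil)) (.node 1 (.node 3 .nil .nil) (.node 2 .nil .nil))))) (.node 0 (.node 3 (.node 0 (.node 2 (.node 1 (.node 2 .nil .nil) .nil) (.node 1 .nil .nil)) (.node 3 (.node 3 (.node 2 .nil .nil) .nil) (.node 0 .nil .nil))) (.node 0 (.node 3 (.node 2 (.node 0 .nil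 .nil) .nil) (.node 1 .nil .nil)) (.node 2 (.node 2 .nil .nil) (.node 1 .nil .nil)))) (.node 3 (.node 0 (.node 1 (.node 2 (.node 1 .nil .nil) .nil) (.node 3 .nil .nil)) (.node 2 (.node 2 (.node 2 .nil .nil) .nil) (.node 3 .nil .nil))) (.node 2 (.node 3 (.node 2 (.node 3 .nil .nil) .nil) (.node 1 .nil .nil)) (.node 1 (.node 3 .nil .nil) (.node 2 .nil .nil)))))))) (.node 1 (.node 0 (.node 1 (.node 0 (.node 0 (.node 1 (.node 1 (.node 1 (.node 1 .nil .nil) .nil) (.node 3 .nil .nil)) (.node 3 (.node 0 (.node 3 .nil .nil) .nil) (.node 3 .nil .nil))) (.node 1 (.node 2 (.node 0 (.node 3 .nil .nil) .nil) (.node 2 .nil .nil)) (.node 2 (.node 3 (.node 1 .nil .nil) .nil) (.node 3 .nil .nil)))) (.node 3 (.node 0 (.node 2 (.node 1 (.node 2 .nil .nil) .nil) (.node 1 .nil .nil)) (.node 3 (.node 1 (.node 0 .nil .nil) .nil) (.node 3 .nil .nil))) (.node 2 (.node 3 (.node 2 (.node 0 .nil .nil) .nil) (.node 1 .nil .nil)) (.node 2 (.node 0 .nil .nil) (.node 2 .nil .nil))))) (.node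 3 (.node 2 (.node 3 (.node 3 (.node 2 (.node 1 .nil .nil) .nil) (.node 3 .nil .nil)) (.node 1 (.node 3 (.node 1 .nil .nil) .nil) (.node 2 .nil .nil))) (.node 2 (.node 2 (.node 2 (.node 2 .nil .nil) .nil) (.node 0 .nil .nil)) (.node 0 (.node 2 .nil .nil) (.node 1 .nil .nil)))) (.node 1 (.node 3 (.node 0 (.node 2 (.node 1 .nil .nil) .nil) (.node 3 .nil .nil)) (.node 0 (.node 3 (.node 1 .nil .nil) .nil) (.node 1 .nil .nil))) (.node 0 (.node 3 (.node 3 (.node 0 .nil .nil) .nil) (.node 1 .nil .nil)) (.node 1 (.node 1 .nil .nil) (.node 1 .nil .nil)))))) (.node 1 (.node 0 (.node 1 (.node 0 (.node 2 (.node 0 (.node 2 .nil .nil) .nil) (.node 1 .nil .nil)) (.node 2 (.node 3 (.node 2 .nil .nil) .nil) (.node 2 .nil .nil))) (.node 1 (.node 0 (.node 2 (.node 0 .nil .nil) .nil) (.node 0 .nil .nil)) (.node 2 (.node 1 (.node 0 .nil .nil) .nil) (.node 3 .nil .nil)))) (.node 1 (.node 2 (.node 1 (.node 2 (.node 0 .nil .nil) .nil) (.node 2 .nil .nil)) (.node 1 (.node 0 (.node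 2 .nil .nil) .nil) (.node 0 .nil .nil))) (.node 1 (.node 3 (.node 2 (.node 3 .nil .nil) .nil) (.node 2 .nil .nil)) (.node 0 (.node 1 .nil .nil) (.node 1 .nil .nil))))) (.node 3 (.node 0 (.node 0 (.node 0 (.node 0 (.node 0 .nil .nil) .nil) (.node 0 .nil .nil)) (.node 1 (.node 1 (.node 2 .nil .nil) .nil) (.node 0 .nil .nil))) (.node 1 (.node 3 (.node 0 (.node 0 .nil .nil) .nil) (.node 3 .nil .nil)) (.node 2 (.node 0 .nil .nil) (.node 1 .nil .nil)))) (.node 2 (.node 1 (.node 2 (.node 3 (.node 2 .nil .nil) .nil) (.node 3 .nil .nil)) (.node 2 (.node 1 (.node 3 .nil .nil) .nil) (.node 1 .nil .nil))) (.node 0 (.node 1 (.node 1 (.node 1 .nil .nil) .nil) (.node 2 .nil .nil)) (.node 2 (.node 3 .nil .nil) (.node 2 .nil .nil))))))) (.node 2 (.node 3 (.node 0 (.node 1 (.node 1 (.node 0 (.node 0 (.node 3 .nil .nil) .nil) (.node 1 .nil .nil)) (.node 2 (.node 0 (.node 1 .nil .nil) .nil) (.node 3 .nil .nil))) (.node 2 (.node 3 (.node 3 (.node 1 .nil .nil) .nil) (.node 3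 .nil .nil)) (.node 1 (.node 0 (.node 1 .nil .nil) .nil) (.node 1 .nil .nil)))) (.node 1 (.node 2 (.node 1 (.node 0 (.node 3 .nil .nil) .nil) (.node 1 .nil .nil)) (.node 2 (.node 1 (.node 2 .nil .nil) .nil) (.node 2 .nil .nil))) (.node 2 (.node 2 (.node 2 (.node 0 .nil .nil) .nil) (.node 1 .nil .nil)) (.node 0 (.node 1 .nil .nil) (.node 0 .nil .nil))))) (.node 3 (.node 0 (.node 0 (.node 2 (.node 0 (.node 2 .nil .nil) .nil) (.node 1 .nil .nil)) (.node 2 (.node 0 (.node 1 .nil .nil) .nil) (.node 0 .nil .nil))) (.node 2 (.node 1 (.node 3 (.node 2 .nil .nil) .nil) (.node 0 .nil .nil)) (.node 2 (.node 2 .nil .nil) (.node 3 .nil .nil)))) (.node 3 (.node 3 (.node 1 (.node 0 (.node 2 .nil .nil) .nil) (.node 2 .nil .nil)) (.node 1 (.node 1 (.node 0 .nil .nil) .nil) (.node 1 .nil .nil))) (.node 2 (.node 0 (.node 2 (.node 1 .nil .nil) .nil) (.node 0 .nil .nil)) (.node 3 (.node 1 .nil .nil) (.node 1 .nil .nil)))))) (.node 3 (.node 2 (.node 3 (.node 1 (.node 3 (.node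 1 (.node 1 .nil .nil) .nil) (.node 3 .nil .nil)) (.node 0 (.node 1 (.node 3 .nil .nil) .nil) (.node 3 .nil .nil))) (.node 0 (.node 3 (.node 3 (.node 2 .nil .nil) .nil) (.node 2 .nil .nil)) (.node 2 (.node 3 (.node 1 .nil .nil) .nil) (.node 0 .nil .nil)))) (.node 2 (.node 2 (.node 2 (.node 1 (.node 0 .nil .nil) .nil) (.node 2 .nil .nil)) (.node 2 (.node 2 (.node 1 .nil .nil) .nil) (.node 2 .nil .nil))) (.node 3 (.node 2 (.node 1 (.node 1 .nil .nil) .nil) (.node 0 .nil .nil)) (.node 1 (.node 1 .nil .nil) (.node 1 .nil .nil))))) (.node 3 (.node 3 (.node 1 (.node 3 (.node 3 (.node 2 .nil .nil) .nil) (.node 1 .nil .nil)) (.node 3 (.node 3 (.node 3 .nil .nil) .nil) (.node 0 .nil .nil))) (.node 2 (.node 3 (.node 1 (.node 0 .nil .nil) .nil) (.node 2 .nil .nil)) (.node 0 (.node 1 .nil .nil) (.node 3 .nil .nil)))) (.node 0 (.node 0 (.node 0 (.node 1 (.node 2 .nil .nil) .nil) (.node 0 .nil .nil)) (.node 1 (.node 1 (.node 2 .nil .nil) .nil) (.node 3 .nil .nil))) (.node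 2 (.node 3 (.node 3 (.node 0 .nil .nil) .nil) (.node 3 .nil .nil)) (.node 3 (.node 3 .nil .nil) (.node 3 .nil .nil)))))))))),
    (.node 3 (.node 2 (.node 2 (.node 0 (.node 2 (.node 0 (.node 3 (.node 3 (.node 2 (.node 1 (.node 0 .nil .nil) .nil) (.node 3 .nil .nil)) (.node 2 (.node 2 (.node 3 .nil .nil) .nil) (.node 1 .nil .nil))) (.node 0 (.node 1 (.node 1 (.node 2 .nil .nil) .nil) (.node 1 .nil .nil)) (.node 0 (.node 3 (.node 3 .nil .nil) .nil) (.node 2 .nil .nil)))) (.node 3 (.node 2 (.node 3 (.node 0 (.node 1 .nil .nil) .nil) (.node 2 .nil .nil)) (.node 3 (.node 2 (.node 2 .nil .nil) .nil) (.node 1 .nil .nil))) (.node 0 (.node 3 (.node 1 (.node 1 .nil .nil) .nil) (.node 0 .nil .nil)) (.node 0 (.node 1 .nil .nil) (.node 2 .nil .nil))))) (.node 0 (.node 1 (.node 3 (.node 3 (.node 1 (.node 0 .nil .nil) .nil) (.node 2 .nil .nil)) (.node 2 (.node 3 (.node 2 .nil .nil) .nil) (.node 3 .nil .nil))) (.node 0 (.node 2 (.node 2 (.node 1 .nil .nil) .nil) (.node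 1 .nil .nil)) (.node 1 (.node 2 (.node 3 .nil .nil) .nil) (.node 2 .nil .nil)))) (.node 3 (.node 0 (.node 0 (.node 2 (.node 1 .nil .nil) .nil) (.node 2 .nil .nil)) (.node 2 (.node 1 (.node 1 .nil .nil) .nil) (.node 0 .nil .nil))) (.node 0 (.node 0 (.node 1 (.node 1 .nil .nil) .nil) (.node 2 .nil .nil)) (.node 2 (.node 1 .nil .nil) (.node 2 .nil .nil)))))) (.node 0 (.node 3 (.node 2 (.node 2 (.node 1 (.node 0 (.node 0 .nil .nil) .nil) (.node 3 .nil .nil)) (.node 0 (.node 3 (.node 2 .nil .nil) .nil) (.node 1 .nil .nil))) (.node 1 (.node 3 (.node 1 (.node 1 .nil .nil) .nil) (.node 0 .nil .nil)) (.node 3 (.node 0 (.node 2 .nil .nil) .nil) (.node 1 .nil .nil)))) (.node 1 (.node 1 (.node 2 (.node 3 (.node 2 .nil .nil) .nil) (.node 0 .nil .nil)) (.node 1 (.node 1 (.node 0 .nil .nil) .nil) (.node 0 .nil .nil))) (.node 3 (.node 2 (.node 1 (.node 1 .nil .nil) .nil) (.node 1 .nil .nil)) (.node 0 (.node 1 .nil .nil) (.node 3 .nil .nil))))) (.node 1 (.node 1 (.node 0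 (.node 2 (.node 2 (.node 2 .nil .nil) .nil) (.node 0 .nil .nil)) (.node 1 (.node 2 (.node 1 .nil .nil) .nil) (.node 2 .nil .nil))) (.node 3 (.node 0 (.node 0 (.node 0 .nil .nil) .nil) (.node 0 .nil .nil)) (.node 0 (.node 1 .nil .nil) (.node 0 .nil .nil)))) (.node 1 (.node 3 (.node 0 (.node 2 (.node 0 .nil .nil) .nil) (.node 3 .nil .nil)) (.node 3 (.node 3 (.node 3 .nil .nil) .nil) (.node 0 .nil .nil))) (.node 2 (.node 3 (.node 0 (.node 0 .nil .nil) .nil) (.node 0 .nil .nil)) (.node 1 (.node 2 .nil .nil) (.node 3 .nil .nil))))))) (.node 2 (.node 1 (.node 1 (.node 3 (.node 3 (.node 0 (.node 3 (.node 1 .nil .nil) .nil) (.node 3 .nil .nil)) (.node 0 (.node 3 (.node 3 .nil .nil) .nil) (.node 3 .nil .nil))) (.node 3 (.node 3 (.node 1 (.node 0 .nil .nil) .nil) (.node 1 .nil .nil)) (.node 1 (.node 3 (.node 2 .nil .nil) .nil) (.node 3 .nil .nil)))) (.node 1 (.node 3 (.node 3 (.node 3 (.node 0 .nil .nil) .nil) (.node 1 .nil .nil)) (.node 3 (.node 0 (.node 2 .nil .nil)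 .nil) (.node 0 .nil .nil))) (.node 2 (.node 2 (.node 1 (.node 1 .nil .nil) .nil) (.node 3 .nil .nil)) (.node 1 (.node 3 .nil .nil) (.node 1 .nil .nil))))) (.node 0 (.node 0 (.node 1 (.node 3 (.node 1 (.node 2 .nil .nil) .nil) (.node 1 .nil .nil)) (.node 0 (.node 3 (.node 2 .nil .nil) .nil) (.node 3 .nil .nil))) (.node 3 (.node 2 (.node 1 (.node 2 .nil .nil) .nil) (.node 0 .nil .nil)) (.node 1 (.node 1 .nil .nil) (.node 2 .nil .nil)))) (.node 2 (.node 1 (.node 0 (.node 1 (.node 2 .nil .nil) .nil) (.node 1 .nil .nil)) (.node 2 (.node 2 (.node 0 .nil .nil) .nil) (.node 3 .nil .nil))) (.node 1 (.node 1 (.node 2 (.node 1 .nil .nil) .nil) (.node 3 .nil .nil)) (.node 3 (.node 2 .nil .nil) (.node 3 .nil .nil)))))) (.node 0 (.node 1 (.node 2 (.node 2 (.node 3 (.node 0 (.node 3 .nil .nil) .nil) (.node 2 .nil .nil)) (.node 0 (.node 0 (.node 1 .nil .nil) .nil) (.node 2 .nil .nil))) (.node 3 (.node 0 (.node 0 (.node 0 .nil .nil) .nil) (.node 0 .nil .nil)) (.node 1 (.node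 0 (.node 1 .nil .nil) .nil) (.node 1 .nil .nil)))) (.node 0 (.node 2 (.node 3 (.node 0 (.node 0 .nil .nil) .nil) (.node 2 .nil .nil)) (.node 0 (.node 0 (.node 0 .nil .nil) .nil) (.node 2 .nil .nil))) (.node 0 (.node 0 (.node 1 (.node 2 .nil .nil) .nil) (.node 3 .nil .nil)) (.node 3 (.node 1 .nil .nil) (.node 1 .nil .nil))))) (.node 0 (.node 1 (.node 0 (.node 2 (.node 2 (.node 2 .nil .nil) .nil) (.node 0 .nil .nil)) (.node 1 (.node 1 (.node 1 .nil .nil) .nil) (.node 0 .nil .nil))) (.node 0 (.node 0 (.node 1 (.node 1 .nil .nil) .nil) (.node 1 .nil .nil)) (.node 1 (.node 2 .nil .nil) (.node 3 .nil .nil)))) (.node 0 (.node 3 (.node 1 (.node 2 (.node 1 .nil .nil) .nil) (.node 0 .nil .nil)) (.node 1 (.node 3 (.node 3 .nil .nil) .nil) (.node 2 .nil .nil))) (.node 3 (.node 1 (.node 0 (.node 2 .nil .nil) .nil) (.node 0 .nil .nil)) (.node 3 (.node 1 .nil .nil) (.node 1 .nil .nil)))))))) (.node 0 (.node 2 (.node 0 (.node 0 (.node 0 (.node 3 (.node 1 (.node 2 (.node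 3 .nil .nil) .nil) (.node 0 .nil .nil)) (.node 1 (.node 3 (.node 3 .nil .nil) .nil) (.node 3 .nil .nil))) (.node 1 (.node 2 (.node 1 (.node 0 .nil .nil) .nil) (.node 0 .nil .nil)) (.node 3 (.node 0 (.node 2 .nil .nil) .nil) (.node 1 .nil .nil)))) (.node 2 (.node 0 (.node 1 (.node 0 (.node 0 .nil .nil) .nil) (.node 2 .nil .nil)) (.node 2 (.node 1 (.node 1 .nil .nil) .nil) (.node 0 .nil .nil))) (.node 2 (.node 2 (.node 1 (.node 0 .nil .nil) .nil) (.node 3 .nil .nil)) (.node 3 (.node 3 .nil .nil) (.node 1 .nil .nil))))) (.node 3 (.node 0 (.node 1 (.node 3 (.node 1 (.node 1 .nil .nil) .nil) (.node 1 .nil .nil)) (.node 1 (.node 1 (.node 2 .nil .nil) .nil) (.node 3 .nil .nil))) (.node 0 (.node 3 (.node 0 (.node 0 .nil .nil) .nil) (.node 0 .nil .nil)) (.node 0 (.node 3 .nil .nil) (.node 1 .nil .nil)))) (.node 2 (.node 0 (.node 1 (.node 0 (.node 2 .nil .nil) .nil) (.node 3 .nil .nil)) (.node 2 (.node 0 (.node 1 .nil .nil) .nil) (.node 0 .nil .nil))) (.node 1 (.node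 2 (.node 0 (.node 2 .nil .nil) .nil) (.node 1 .nil .nil)) (.node 1 (.node 0 .nil .nil) (.node 1 .nil .nil)))))) (.node 0 (.node 1 (.node 2 (.node 1 (.node 1 (.node 2 (.node 1 .nil .nil) .nil) (.node 0 .nil .nil)) (.node 0 (.node 1 (.node 0 .nil .nil) .nil) (.node 2 .nil .nil))) (.node 2 (.node 3 (.node 1 (.node 3 .nil .nil) .nil) (.node 2 .nil .nil)) (.node 0 (.node 2 (.node 0 .nil .nil) .nil) (.node 0 .nil .nil)))) (.node 2 (.node 1 (.node 2 (.node 3 (.node 3 .nil .nil) .nil) (.node 0 .nil .nil)) (.node 1 (.node 3 (.node 0 .nil .nil) .nil) (.node 3 .nil .nil))) (.node 2 (.node 0 (.node 3 (.node 3 .nil .nil) .nil) (.node 3 .nil .nil)) (.node 1 (.node 0 .nil .nil) (.node 1 .nil .nil))))) (.node 2 (.node 3 (.node 2 (.node 1 (.node 0 (.node 3 .nil .nil) .nil) (.node 3 .nil .nil)) (.node 3 (.node 2 (.node 2 .nil .nil) .nil) (.node 2 .nil .nil))) (.node 1 (.node 3 (.node 2 (.node 2 .nil .nil) .nil) (.node 1 .nil .nil)) (.node 0 (.node 2 .nil .nil) (.node 3 .nil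 .nil)))) (.node 1 (.node 3 (.node 3 (.node 1 (.node 2 .nil .nil) .nil) (.node 3 .nil .nil)) (.node 1 (.node 1 (.node 3 .nil .nil) .nil) (.node 0 .nil .nil))) (.node 1 (.node 2 (.node 2 (.node 2 .nil .nil) .nil) (.node 1 .nil .nil)) (.node 3 (.node 1 .nil .nil) (.node 0 .nil .nil))))))) (.node 0 (.node 2 (.node 1 (.node 3 (.node 3 (.node 3 (.node 1 (.node 1 .nil .nil) .nil) (.node 1 .nil .nil)) (.node 0 (.node 1 (.node 3 .nil .nil) .nil) (.node 2 .nil .nil))) (.node 2 (.node 1 (.node 3 (.node 0 .nil .nil) .nil) (.node 3 .nil .nil)) (.node 0 (.node 0 (.node 2 .nil .nil) .nil) (.node 1 .nil .nil)))) (.node 2 (.node 2 (.node 2 (.node 0 (.node 2 .nil .nil) .nil) (.node 3 .nil .nil)) (.node 2 (.node 3 (.node 0 .nil .nil) .nil) (.node 0 .nil .nil))) (.node 2 (.node 0 (.node 1 (.node 2 .nil .nil) .nil) (.node 3 .nil .nil)) (.node 3 (.node 3 .nil .nil) (.node 1 .nil .nil))))) (.node 0 (.node 3 (.node 3 (.node 2 (.node 2 (.node 2 .nil .nil) .nil) (.node 2 .nil .nil))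 (.node 2 (.node 2 (.node 2 .nil .nil) .nil) (.node 3 .nil .nil))) (.node 1 (.node 0 (.node 3 (.node 3 .nil .nil) .nil) (.node 3 .nil .nil)) (.node 2 (.node 2 .nil .nil) (.node 3 .nil .nil)))) (.node 3 (.node 0 (.node 0 (.node 2 (.node 2 .nil .nil) .nil) (.node 0 .nil .nil)) (.node 1 (.node 0 (.node 1 .nil .nil) .nil) (.node 2 .nil .nil))) (.node 1 (.node 0 (.node 0 (.node 3 .nil .nil) .nil) (.node 1 .nil .nil)) (.node 0 (.node 1 .nil .nil) (.node 0 .nil .nil)))))) (.node 0 (.node 3 (.node 3 (.node 0 (.node 0 (.node 2 (.node 2 .nil .nil) .nil) (.node 1 .nil .nil)) (.node 0 (.node 1 (.node 2 .nil .nil) .nil) (.node 0 .nil .nil))) (.node 2 (.node 3 (.node 3 (.node 0 .nil .nil) .nil) (.node 1 .nil .nil)) (.node 1 (.node 0 (.node 0 .nil .nil) .nil) (.node 1 .nil .nil)))) (.node 1 (.node 0 (.node 2 (.node 0 (.node 0 .nil .nil) .nil) (.node 2 .nil .nil)) (.node 1 (.node 3 (.node 3 .nil .nil) .nil) (.node 0 .nil .nil))) (.node 1 (.node 0 (.node 1 (.node 2 .nil .nil)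 .nil) (.node 0 .nil .nil)) (.node 2 (.node 1 .nil .nil) (.node 2 .nil .nil))))) (.node 2 (.node 1 (.node 2 (.node 2 (.node 0 (.node 2 .nil .nil) .nil) (.node 2 .nil .nil)) (.node 0 (.node 0 (.node 0 .nil .nil) .nil) (.node 0 .nil .nil))) (.node 2 (.node 1 (.node 3 (.node 3 .nil .nil) .nil) (.node 1 .nil .nil)) (.node 0 (.node 1 .nil .nil) (.node 1 .nil .nil)))) (.node 0 (.node 1 (.node 3 (.node 3 (.node 0 .nil .nil) .nil) (.node 1 .nil .nil)) (.node 0 (.node 0 (.node 3 .nil .nil) .nil) (.node 1 .nil .nil))) (.node 1 (.node 0 (.node 0 (.node 2 .nil .nil) .nil) (.node 1 .nil .nil)) (.node 0 (.node 0 .nil .nil) (.node 1 .nil .nil))))))))) (.node 2 (.node 2 (.node 3 (.node 2 (.node 3 (.node 3 (.node 3 (.node 1 (.node 3 (.node 1 .nil .nil) .nil) (.node 0 .nil .nil)) (.node 0 (.node 1 (.node 2 .nil .nil) .nil) (.node 0 .nil .nil))) (.node 2 (.node 3 (.node 3 (.node 0 .nil .nil) .nil) (.node 3 .nil .nil)) (.node 3 (.node 0 (.node 0 .nil .nil) .nil) (.node 3 .nil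 .nil)))) (.node 0 (.node 2 (.node 2 (.node 1 (.node 0 .nil .nil) .nil) (.node 3 .nil .nil)) (.node 1 (.node 3 (.node 0 .nil .nil) .nil) (.node 2 .nil .nil))) (.node 3 (.node 2 (.node 3 (.node 0 .nil .nil) .nil) (.node 1 .nil .nil)) (.node 1 (.node 2 .nil .nil) (.node 3 .nil .nil))))) (.node 3 (.node 1 (.node 3 (.node 3 (.node 2 (.node 2 .nil .nil) .nil) (.node 0 .nil .nil)) (.node 1 (.node 2 (.node 0 .nil .nil) .nil) (.node 1 .nil .nil))) (.node 2 (.node 3 (.node 0 (.node 3 .nil .nil) .nil) (.node 1 .nil .nil)) (.node 3 (.node 0 .nil .nil) (.node 2 .nil .nil)))) (.node 3 (.node 3 (.node 3 (.node 1 (.node 0 .nil .nil) .nil) (.node 0 .nil .nil)) (.node 0 (.node 1 (.node 1 .nil .nil) .nil) (.node 0 .nil .nil))) (.node 1 (.node 2 (.node 0 (.node 3 .nil .nil) .nil) (.node 3 .nil .nil)) (.node 1 (.node 3 .nil .nil) (.node 0 .nil .nil)))))) (.node 2 (.node 2 (.node 1 (.node 3 (.node 3 (.node 0 (.node 2 .nil .nil) .nil) (.node 0 .nil .nil)) (.node 0 (.node 3 (.node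 0 .nil .nil) .nil) (.node 1 .nil .nil))) (.node 2 (.node 3 (.node 2 (.node 0 .nil .nil) .nil) (.node 3 .nil .nil)) (.node 1 (.node 2 (.node 0 .nil .nil) .nil) (.node 2 .nil .nil)))) (.node 0 (.node 1 (.node 2 (.node 3 (.node 0 .nil .nil) .nil) (.node 2 .nil .nil)) (.node 1 (.node 1 (.node 2 .nil .nil) .nil) (.node 3 .nil .nil))) (.node 3 (.node 2 (.node 3 (.node 0 .nil .nil) .nil) (.node 2 .nil .nil)) (.node 3 (.node 2 .nil .nil) (.node 1 .nil .nil))))) (.node 0 (.node 1 (.node 0 (.node 2 (.node 1 (.node 2 .nil .nil) .nil) (.node 1 .nil .nil)) (.node 1 (.node 0 (.node 2 .nil .nil) .nil) (.node 3 .nil .nil))) (.node 2 (.node 1 (.node 2 (.node 2 .nil .nil) .nil) (.node 3 .nil .nil)) (.node 2 (.node 3 .nil .nil) (.node 3 .nil .nil)))) (.node 0 (.node 3 (.node 1 (.node 3 (.node 2 .nil .nil) .nil) (.node 1 .nil .nil)) (.node 0 (.node 3 (.node 3 .nil .nil) .nil) (.node 0 .nil .nil))) (.node 0 (.node 0 (.node 0 (.node 0 .nil .nil) .nil) (.node 2 .nil .nil)) (.node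 0 (.node 2 .nil .nil) (.node 0 .nil .nil))))))) (.node 1 (.node 3 (.node 2 (.node 1 (.node 0 (.node 3 (.node 2 (.node 1 .nil .nil) .nil) (.node 0 .nil .nil)) (.node 0 (.node 2 (.node 1 .nil .nil) .nil) (.node 1 .nil .nil))) (.node 2 (.node 0 (.node 1 (.node 0 .nil .nil) .nil) (.node 2 .nil .nil)) (.node 2 (.node 2 (.node 1 .nil .nil) .nil) (.node 0 .nil .nil)))) (.node 0 (.node 2 (.node 2 (.node 0 (.node 3 .nil .nil) .nil) (.node 2 .nil .nil)) (.node 1 (.node 3 (.node 3 .nil .nil) .nil) (.node 1 .nil .nil))) (.node 1 (.node 2 (.node 1 (.node 3 .nil .nil) .nil) (.node 3 .nil .nil)) (.node 2 (.node 1 .nil .nil) (.node 1 .nil .nil))))) (.node 3 (.node 3 (.node 0 (.node 2 (.node 1 (.node 0 .nil .nil) .nil) (.node 0 .nil .nil)) (.node 0 (.node 1 (.node 2 .nil .nil) .nil) (.node 1 .nil .nil))) (.node 0 (.node 3 (.node 0 (.node 1 .nil .nil) .nil) (.node 1 .nil .nil)) (.node 3 (.node 0 .nil .nil) (.node 2 .nil .nil)))) (.node 1 (.node 0 (.node 2 (.node 1 (.node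 2 .nil .nil) .nil) (.node 3 .nil .nil)) (.node 3 (.node 1 (.node 3 .nil .nil) .nil) (.node 0 .nil .nil))) (.node 3 (.node 3 (.node 0 (.node 0 .nil .nil) .nil) (.node 3 .nil .nil)) (.node 2 (.node 1 .nil .nil) (.node 0 .nil .nil)))))) (.node 2 (.node 0 (.node 1 (.node 2 (.node 3 (.node 0 (.node 2 .nil .nil) .nil) (.node 1 .nil .nil)) (.node 2 (.node 1 (.node 1 .nil .nil) .nil) (.node 3 .nil .nil))) (.node 2 (.node 0 (.node 0 (.node 2 .nil .nil) .nil) (.node 1 .nil .nil)) (.node 3 (.node 0 (.node 2 .nil .nil) .nil) (.node 1 .nil .nil)))) (.node 2 (.node 3 (.node 2 (.node 1 (.node 0 .nil .nil) .nil) (.node 0 .nil .nil)) (.node 0 (.node 3 (.node 1 .nil .nil) .nil) (.node 0 .nil .nil))) (.node 3 (.node 3 (.node 0 (.node 1 .nil .nil) .nil) (.node 1 .nil .nil)) (.node 2 (.node 2 .nil .nil) (.node 1 .nil .nil))))) (.node 1 (.node 3 (.node 3 (.node 2 (.node 2 (.node 0 .nil .nil) .nil) (.node 3 .nil .nil)) (.node 3 (.node 0 (.node 0 .nil .nil) .nil) (.node 1 .nil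 .nil))) (.node 2 (.node 3 (.node 3 (.node 3 .nil .nil) .nil) (.node 1 .nil .nil)) (.node 2 (.node 3 .nil .nil) (.node 3 .nil .nil)))) (.node 1 (.node 2 (.node 3 (.node 0 (.node 0 .nil .nil) .nil) (.node 1 .nil .nil)) (.node 1 (.node 1 (.node 3 .nil .nil) .nil) (.node 1 .nil .nil))) (.node 1 (.node 3 (.node 0 (.node 3 .nil .nil) .nil) (.node 1 .nil .nil)) (.node 2 (.node 1 .nil .nil) (.node 2 .nil .nil)))))))) (.node 2 (.node 0 (.node 2 (.node 1 (.node 1 (.node 0 (.node 3 (.node 3 (.node 0 .nil .nil) .nil) (.node 2 .nil .nil)) (.node 2 (.node 2 (.node 2 .nil .nil) .nil) (.node 3 .nil .nil))) (.node 1 (.node 3 (.node 3 (.node 0 .nil .nil) .nil) (.node 2 .nil .nil)) (.node 3 (.node 3 (.node 1 .nil .nil) .nil) (.node 3 .nil .nil)))) (.node 0 (.node 2 (.node 2 (.node 2 (.node 3 .nil .nil) .nil) (.node 2 .nil .nil)) (.node 3 (.node 3 (.node 3 .nil .nil) .nil) (.node 0 .nil .nil))) (.node 3 (.node 3 (.node 1 (.node 3 .nil .nil) .nil) (.node 3 .nil .nil)) (.node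 0 (.node 1 .nil .nil) (.node 0 .nil .nil))))) (.node 1 (.node 1 (.node 3 (.node 1 (.node 2 (.node 2 .nil .nil) .nil) (.node 0 .nil .nil)) (.node 3 (.node 1 (.node 0 .nil .nil) .nil) (.node 1 .nil .nil))) (.node 2 (.node 3 (.node 0 (.node 1 .nil .nil) .nil) (.node 1 .nil .nil)) (.node 1 (.node 0 .nil .nil) (.node 2 .nil .nil)))) (.node 3 (.node 2 (.node 3 (.node 3 (.node 0 .nil .nil) .nil) (.node 1 .nil .nil)) (.node 3 (.node 2 (.node 3 .nil .nil) .nil) (.node 1 .nil .nil))) (.node 1 (.node 0 (.node 0 (.node 3 .nil .nil) .nil) (.node 0 .nil .nil)) (.node 1 (.node 3 .nil .nil) (.node 0 .nil .nil)))))) (.node 1 (.node 1 (.node 1 (.node 3 (.node 1 (.node 0 (.node 3 .nil .nil) .nil) (.node 0 .nil .nil)) (.node 0 (.node 0 (.node 2 .nil .nil) .nil) (.node 0 .nil .nil))) (.node 2 (.node 1 (.node 0 (.node 2 .nil .nil) .nil) (.node 3 .nil .nil)) (.node 0 (.node 1 (.node 1 .nil .nil) .nil) (.node 3 .nil .nil)))) (.node 2 (.node 2 (.node 0 (.node 0 (.node 2 .nil .nil)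 .nil) (.node 0 .nil .nil)) (.node 1 (.node 3 (.node 1 .nil .nil) .nil) (.node 0 .nil .nil))) (.node 3 (.node 0 (.node 2 (.node 2 .nil .nil) .nil) (.node 2 .nil .nil)) (.node 0 (.node 2 .nil .nil) (.node 1 .nil .nil))))) (.node 3 (.node 3 (.node 3 (.node 0 (.node 1 (.node 3 .nil .nil) .nil) (.node 2 .nil .nil)) (.node 1 (.node 1 (.node 2 .nil .nil) .nil) (.node 0 .nil .nil))) (.node 0 (.node 3 (.node 3 (.node 0 .nil .nil) .nil) (.node 3 .nil .nil)) (.node 0 (.node 3 .nil .nil) (.node 0 .nil .nil)))) (.node 1 (.node 1 (.node 2 (.node 1 (.node 2 .nil .nil) .nil) (.node 1 .nil .nil)) (.node 0 (.node 1 (.node 3 .nil .nil) .nil) (.node 1 .nil .nil))) (.node 3 (.node 2 (.node 2 (.node 0 .nil .nil) .nil) (.node 3 .nil .nil)) (.node 2 (.node 1 .nil .nil) (.node 0 .nil .nil))))))) (.node 2 (.node 1 (.node 1 (.node 3 (.node 1 (.node 0 (.node 2 (.node 1 .nil .nil) .nil) (.node 3 .nil .nil)) (.node 1 (.node 3 (.node 2 .nil .nil) .nil) (.node 0 .nil .nil))) (.node 0 (.node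 0 (.node 3 (.node 0 .nil .nil) .nil) (.node 1 .nil .nil)) (.node 3 (.node 3 (.node 1 .nil .nil) .nil) (.node 3 .nil .nil)))) (.node 3 (.node 2 (.node 0 (.node 1 (.node 0 .nil .nil) .nil) (.node 0 .nil .nil)) (.node 3 (.node 2 (.node 0 .nil .nil) .nil) (.node 2 .nil .nil))) (.node 1 (.node 0 (.node 0 (.node 3 .nil .nil) .nil) (.node 1 .nil .nil)) (.node 3 (.node 1 .nil .nil) (.node 3 .nil .nil))))) (.node 0 (.node 1 (.node 1 (.node 0 (.node 3 (.node 2 .nil .nil) .nil) (.node 3 .nil .nil)) (.node 2 (.node 1 (.node 1 .nil .nil) .nil) (.node 1 .nil .nil))) (.node 0 (.node 3 (.node 2 (.node 3 .nil .nil) .nil) (.node 1 .nil .nil)) (.node 3 (.node 3 .nil .nil) (.node 1 .nil .nil)))) (.node 1 (.node 1 (.node 0 (.node 1 (.node 3 .nil .nil) .nil) (.node 2 .nil .nil)) (.node 1 (.node 3 (.node 3 .nil .nil) .nil) (.node 0 .nil .nil))) (.node 0 (.node 1 (.node 3 (.node 3 .nil .nil) .nil) (.node 2 .nil .nil)) (.node 3 (.node 3 .nil .nil) (.node 3 .nil .nil)))))) (.node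 0 (.node 1 (.node 0 (.node 3 (.node 2 (.node 2 (.node 3 .nil .nil) .nil) (.node 0 .nil .nil)) (.node 3 (.node 3 (.node 1 .nil .nil) .nil) (.node 2 .nil .nil))) (.node 3 (.node 0 (.node 2 (.node 1 .nil .nil) .nil) (.node 2 .nil .nil)) (.node 2 (.node 1 (.node 2 .nil .nil) .nil) (.node 3 .nil .nil)))) (.node 0 (.node 3 (.node 3 (.node 3 (.node 0 .nil .nil) .nil) (.node 0 .nil .nil)) (.node 1 (.node 3 (.node 0 .nil .nil) .nil) (.node 0 .nil .nil))) (.node 3 (.node 0 (.node 3 (.node 0 .nil .nil) .nil) (.node 2 .nil .nil)) (.node 2 (.node 3 .nil .nil) (.node 1 .nil .nil))))) (.node 0 (.node 2 (.node 0 (.node 3 (.node 3 (.node 3 .nil .nil) .nil) (.node 0 .nil .nil)) (.node 0 (.node 3 (.node 2 .nil .nil) .nil) (.node 2 .nil .nil))) (.node 0 (.node 0 (.node 3 (.node 3 .nil .nil) .nil) (.node 2 .nil .nil)) (.node 2 (.node 2 .nil .nil) (.node 1 .nil .nil)))) (.node 3 (.node 3 (.node 1 (.node 1 (.node 2 .nil .nil) .nil) (.node 2 .nil .nil)) (.node 2 (.node 0 (.node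 3 .nil .nil) .nil) (.node 0 .nil .nil))) (.node 3 (.node 3 (.node 0 (.node 2 .nil .nil) .nil) (.node 1 .nil .nil)) (.node 2 (.node 1 .nil .nil) (.node 0 .nil .nil)))))))))),
    (.node 1 (.node 2 (.node 0 (.node 0 (.node 0 (.node 1 (.node 1 (.node 3 (.node 3 (.node 0 (.node 1 .nil .nil) .nil) (.node 3 .nil .nil)) (.node 0 (.node 3 (.node 1 .nil .nil) .nil) (.node 1 .nil .nil))) (.node 0 (.node 1 (.node 1 (.node 0 .nil .nil) .nil) (.node 2 .nil .nil)) (.node 2 (.node 3 (.node 1 .nil .nil) .nil) (.node 3 .nil .nil)))) (.node 0 (.node 0 (.node 0 (.node 0 (.node 2 .nil .nil) .nil) (.node 2 .nil .nil)) (.node 2 (.node 3 (.node 3 .nil .nil) .nil) (.node 0 .nil .nil))) (.node 2 (.node 3 (.node 2 (.node 1 .nil .nil) .nil) (.node 3 .nil .nil)) (.node 1 (.node 0 .nil .nil) (.node 0 .nil .nil))))) (.node 0 (.node 0 (.node 3 (.node 1 (.node 3 (.node 1 .nil .nil) .nil) (.node 3 .nil .nil)) (.node 3 (.node 2 (.node 3 .nil .nil) .nil) (.node 2 .nil .nil))) (.node 1 (.node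 1 (.node 0 (.node 2 .nil .nil) .nil) (.node 0 .nil .nil)) (.node 0 (.node 0 (.node 2 .nil .nil) .nil) (.node 1 .nil .nil)))) (.node 1 (.node 0 (.node 3 (.node 3 (.node 3 .nil .nil) .nil) (.node 2 .nil .nil)) (.node 3 (.node 3 (.node 1 .nil .nil) .nil) (.node 2 .nil .nil))) (.node 0 (.node 3 (.node 1 (.node 0 .nil .nil) .nil) (.node 1 .nil .nil)) (.node 2 (.node 2 .nil .nil) (.node 1 .nil .nil)))))) (.node 0 (.node 2 (.node 2 (.node 2 (.node 1 (.node 2 (.node 0 .nil .nil) .nil) (.node 1 .nil .nil)) (.node 3 (.node 3 (.node 0 .nil .nil) .nil) (.node 1 .nil .nil))) (.node 0 (.node 3 (.node 2 (.node 1 .nil .nil) .nil) (.node 2 .nil .nil)) (.node 1 (.node 2 (.node 0 .nil .nil) .nil) (.node 2 .nil .nil)))) (.node 3 (.node 0 (.node 3 (.node 0 (.node 2 .nil .nil) .nil) (.node 3 .nil .nil)) (.node 1 (.node 0 (.node 2 .nil .nil) .nil) (.node 0 .nil .nil))) (.node 3 (.node 2 (.node 2 (.node 1 .nil .nil) .nil) (.node 0 .nil .nil)) (.node 1 (.node 0 .nil .nil) (.node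 0 .nil .nil))))) (.node 0 (.node 0 (.node 2 (.node 3 (.node 2 (.node 2 .nil .nil) .nil) (.node 0 .nil .nil)) (.node 3 (.node 2 (.node 3 .nil .nil) .nil) (.node 1 .nil .nil))) (.node 1 (.node 0 (.node 1 (.node 2 .nil .nil) .nil) (.node 3 .nil .nil)) (.node 0 (.node 2 .nil .nil) (.node 1 .nil .nil)))) (.node 3 (.node 2 (.node 2 (.node 3 (.node 3 .nil .nil) .nil) (.node 3 .nil .nil)) (.node 1 (.node 0 (.node 1 .nil .nil) .nil) (.node 0 .nil .nil))) (.node 1 (.node 3 (.node 1 (.node 2 .nil .nil) .nil) (.node 2 .nil .nil)) (.node 2 (.node 3 .nil .nil) (.node 2 .nil .nil))))))) (.node 0 (.node 1 (.node 1 (.node 3 (.node 3 (.node 3 (.node 2 (.node 1 .nil .nil) .nil) (.node 1 .nil .nil)) (.node 2 (.node 2 (.node 1 .nil .nil) .nil) (.node 2 .nil .nil))) (.node 2 (.node 2 (.node 2 (.node 2 .nil .nil) .nil) (.node 1 .nil .nil)) (.node 0 (.node 2 (.node 2 .nil .nil) .nil) (.node 1 .nil .nil)))) (.node 0 (.node 1 (.node 0 (.node 2 (.node 0 .nil .nil) .nil) (.node 3 .nil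 .nil)) (.node 2 (.node 3 (.node 3 .nil .nil) .nil) (.node 0 .nil .nil))) (.node 0 (.node 1 (.node 0 (.node 0 .nil .nil) .nil) (.node 0 .nil .nil)) (.node 3 (.node 2 .nil .nil) (.node 2 .nil .nil))))) (.node 2 (.node 1 (.node 2 (.node 3 (.node 3 (.node 1 .nil .nil) .nil) (.node 0 .nil .nil)) (.node 3 (.node 1 (.node 0 .nil .nil) .nil) (.node 2 .nil .nil))) (.node 0 (.node 2 (.node 0 (.node 1 .nil .nil) .nil) (.node 1 .nil .nil)) (.node 1 (.node 0 .nil .nil) (.node 2 .nil .nil)))) (.node 2 (.node 1 (.node 1 (.node 2 (.node 3 .nil .nil) .nil) (.node 3 .nil .nil)) (.node 2 (.node 1 (.node 3 .nil .nil) .nil) (.node 3 .nil .nil))) (.node 2 (.node 2 (.node 2 (.node 1 .nil .nil) .nil) (.node 1 .nil .nil)) (.node 0 (.node 0 .nil .nil) (.node 2 .nil .nil)))))) (.node 3 (.node 3 (.node 1 (.node 1 (.node 0 (.node 3 (.node 0 .nil .nil) .nil) (.node 3 .nil .nil)) (.node 2 (.node 0 (.node 3 .nil .nil) .nil) (.node 2 .nil .nil))) (.node 0 (.node 0 (.node 2 (.node 3 .nil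 .nil) .nil) (.node 0 .nil .nil)) (.node 3 (.node 1 (.node 3 .nil .nil) .nil) (.node 0 .nil .nil)))) (.node 2 (.node 2 (.node 1 (.node 1 (.node 3 .nil .nil) .nil) (.node 3 .nil .nil)) (.node 1 (.node 3 (.node 0 .nil .nil) .nil) (.node 0 .nil .nil))) (.node 2 (.node 3 (.node 1 (.node 3 .nil .nil) .nil) (.node 0 .nil .nil)) (.node 2 (.node 3 .nil .nil) (.node 2 .nil .nil))))) (.node 1 (.node 1 (.node 0 (.node 3 (.node 2 (.node 0 .nil .nil) .nil) (.node 1 .nil .nil)) (.node 0 (.node 2 (.node 0 .nil .nil) .nil) (.node 1 .nil .nil))) (.node 2 (.node 1 (.node 2 (.node 3 .nil .nil) .nil) (.node 0 .nil .nil)) (.node 2 (.node 3 .nil .nil) (.node 3 .nil .nil)))) (.node 0 (.node 3 (.node 3 (.node 3 (.node 2 .nil .nil) .nil) (.node 0 .nil .nil)) (.node 0 (.node 0 (.node 0 .nil .nil) .nil) (.node 0 .nil .nil))) (.node 3 (.node 1 (.node 2 (.node 1 .nil .nil) .nil) (.node 1 .nil .nil)) (.node 2 (.node 0 .nil .nil) (.node 1 .nil .nil)))))))) (.node 2 (.node 3 (.node 0 (.node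 3 (.node 2 (.node 3 (.node 1 (.node 0 (.node 2 .nil .nil) .nil) (.node 3 .nil .nil)) (.node 1 (.node 3 (.node 1 .nil .nil) .nil) (.node 0 .nil .nil))) (.node 1 (.node 3 (.node 0 (.node 0 .nil .nil) .nil) (.node 2 .nil .nil)) (.node 1 (.node 1 (.node 1 .nil .nil) .nil) (.node 0 .nil .nil)))) (.node 2 (.node 1 (.node 2 (.node 3 (.node 2 .nil .nil) .nil) (.node 2 .nil .nil)) (.node 0 (.node 0 (.node 2 .nil .nil) .nil) (.node 2 .nil .nil))) (.node 2 (.node 0 (.node 3 (.node 2 .nil .nil) .nil) (.node 0 .nil .nil)) (.node 2 (.node 2 .nil .nil) (.node 3 .nil .nil))))) (.node 3 (.node 2 (.node 1 (.node 2 (.node 3 (.node 2 .nil .nil) .nil) (.node 2 .nil .nil)) (.node 1 (.node 0 (.node 2 .nil .nil) .nil) (.node 0 .nil .nil))) (.node 2 (.node 0 (.node 2 (.node 3 .nil .nil) .nil) (.node 0 .nil .nil)) (.node 1 (.node 1 .nil .nil) (.node 0 .nil .nil)))) (.node 0 (.node 0 (.node 0 (.node 3 (.node 2 .nil .nil) .nil) (.node 0 .nil .nil)) (.node 1 (.node 1 (.node 3 .nil .nil)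 .nil) (.node 1 .nil .nil))) (.node 2 (.node 0 (.node 3 (.node 3 .nil .nil) .nil) (.node 0 .nil .nil)) (.node 0 (.node 3 .nil .nil) (.node 0 .nil .nil)))))) (.node 0 (.node 2 (.node 0 (.node 0 (.node 3 (.node 0 (.node 2 .nil .nil) .nil) (.node 1 .nil .nil)) (.node 0 (.node 2 (.node 3 .nil .nil) .nil) (.node 1 .nil .nil))) (.node 2 (.node 3 (.node 1 (.node 1 .nil .nil) .nil) (.node 2 .nil .nil)) (.node 2 (.node 2 (.node 0 .nil .nil) .nil) (.node 3 .nil .nil)))) (.node 3 (.node 3 (.node 0 (.node 1 (.node 2 .nil .nil) .nil) (.node 0 .nil .nil)) (.node 2 (.node 0 (.node 2 .nil .nil) .nil) (.node 2 .nil .nil))) (.node 2 (.node 1 (.node 0 (.node 0 .nil .nil) .nil) (.node 3 .nil .nil)) (.node 0 (.node 1 .nil .nil) (.node 3 .nil .nil))))) (.node 3 (.node 1 (.node 2 (.node 2 (.node 0 (.node 3 .nil .nil) .nil) (.node 2 .nil .nil)) (.node 0 (.node 2 (.node 1 .nil .nil) .nil) (.node 3 .nil .nil))) (.node 0 (.node 2 (.node 1 (.node 0 .nil .nil) .nil) (.node 2 .nil .nil))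 (.node 0 (.node 2 .nil .nil) (.node 3 .nil .nil)))) (.node 2 (.node 2 (.node 1 (.node 1 (.node 1 .nil .nil) .nil) (.node 3 .nil .nil)) (.node 2 (.node 1 (.node 1 .nil .nil) .nil) (.node 1 .nil .nil))) (.node 1 (.node 3 (.node 1 (.node 3 .nil .nil) .nil) (.node 0 .nil .nil)) (.node 2 (.node 3 .nil .nil) (.node 2 .nil .nil))))))) (.node 3 (.node 2 (.node 2 (.node 2 (.node 1 (.node 3 (.node 2 (.node 1 .nil .nil) .nil) (.node 1 .nil .nil)) (.node 0 (.node 3 (.node 3 .nil .nil) .nil) (.node 0 .nil .nil))) (.node 3 (.node 0 (.node 2 (.node 3 .nil .nil) .nil) (.node 2 .nil .nil)) (.node 1 (.node 3 (.node 2 .nil .nil) .nil) (.node 2 .nil .nil)))) (.node 2 (.node 0 (.node 2 (.node 3 (.node 1 .nil .nil) .nil) (.node 3 .nil .nil)) (.node 1 (.node 2 (.node 3 .nil .nil) .nil) (.node 3 .nil .nil))) (.node 2 (.node 3 (.node 2 (.node 1 .nil .nil) .nil) (.node 3 .nil .nil)) (.node 0 (.node 0 .nil .nil) (.node 0 .nil .nil))))) (.node 1 (.node 1 (.node 2 (.node 0 (.node 1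 (.node 1 .nil .nil) .nil) (.node 0 .nil .nil)) (.node 3 (.node 3 (.node 3 .nil .nil) .nil) (.node 1 .nil .nil))) (.node 0 (.node 1 (.node 1 (.node 1 .nil .nil) .nil) (.node 1 .nil .nil)) (.node 2 (.node 3 .nil .nil) (.node 1 .nil .nil)))) (.node 2 (.node 2 (.node 0 (.node 1 (.node 0 .nil .nil) .nil) (.node 3 .nil .nil)) (.node 2 (.node 1 (.node 3 .nil .nil) .nil) (.node 3 .nil .nil))) (.node 0 (.node 0 (.node 0 (.node 1 .nil .nil) .nil) (.node 3 .nil .nil)) (.node 2 (.node 0 .nil .nil) (.node 2 .nil .nil)))))) (.node 0 (.node 1 (.node 0 (.node 2 (.node 2 (.node 2 (.node 0 .nil .nil) .nil) (.node 1 .nil .nil)) (.node 1 (.node 1 (.node 0 .nil .nil) .nil) (.node 3 .nil .nil))) (.node 0 (.node 1 (.node 2 (.node 1 .nil .nil) .nil) (.node 1 .nil .nil)) (.node 3 (.node 2 (.node 3 .nil .nil) .nil) (.node 2 .nil .nil)))) (.node 3 (.node 1 (.node 0 (.node 1 (.node 1 .nil .nil) .nil) (.node 3 .nil .nil)) (.node 0 (.node 3 (.node 2 .nil .nil) .nil) (.node 2 .nil .nil)))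 (.node 0 (.node 3 (.node 2 (.node 0 .nil .nil) .nil) (.node 2 .nil .nil)) (.node 2 (.node 3 .nil .nil) (.node 2 .nil .nil))))) (.node 3 (.node 0 (.node 2 (.node 0 (.node 2 (.node 2 .nil .nil) .nil) (.node 3 .nil .nil)) (.node 1 (.node 2 (.node 0 .nil .nil) .nil) (.node 3 .nil .nil))) (.node 3 (.node 3 (.node 1 (.node 0 .nil .nil) .nil) (.node 1 .nil .nil)) (.node 3 (.node 2 .nil .nil) (.node 1 .nil .nil)))) (.node 0 (.node 2 (.node 3 (.node 3 (.node 0 .nil .nil) .nil) (.node 3 .nil .nil)) (.node 2 (.node 1 (.node 3 .nil .nil) .nil) (.node 1 .nil .nil))) (.node 2 (.node 2 (.node 3 (.node 1 .nil .nil) .nil) (.node 0 .nil .nil)) (.node 2 (.node 0 .nil .nil) (.node 2 .nil .nil))))))))) (.node 3 (.node 0 (.node 0 (.node 0 (.node 2 (.node 0 (.node 0 (.node 1 (.node 1 (.node 1 .nil .nil) .nil) (.node 3 .nil .nil)) (.node 3 (.node 2 (.node 2 .nil .nil) .nil) (.node 0 .nil .nil))) (.node 1 (.node 0 (.node 2 (.node 1 .nil .nil) .nil) (.node 0 .nil .nil)) (.node 1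 (.node 0 (.node 2 .nil .nil) .nil) (.node 0 .nil .nil)))) (.node 0 (.node 3 (.node 1 (.node 0 (.node 2 .nil .nil) .nil) (.node 0 .nil .nil)) (.node 1 (.node 3 (.node 3 .nil .nil) .nil) (.node 3 .nil .nil))) (.node 0 (.node 3 (.node 3 (.node 0 .nil .nil) .nil) (.node 0 .nil .nil)) (.node 3 (.node 2 .nil .nil) (.node 2 .nil .nil))))) (.node 3 (.node 2 (.node 0 (.node 2 (.node 0 (.node 0 .nil .nil) .nil) (.node 1 .nil .nil)) (.node 3 (.node 2 (.node 2 .nil .nil) .nil) (.node 2 .nil .nil))) (.node 1 (.node 1 (.node 3 (.node 3 .nil .nil) .nil) (.node 3 .nil .nil)) (.node 3 (.node 0 .nil .nil) (.node 2 .nil .nil)))) (.node 0 (.node 2 (.node 2 (.node 3 (.node 2 .nil .nil) .nil) (.node 3 .nil .nil)) (.node 2 (.node 3 (.node 1 .nil .nil) .nil) (.node 3 .nil .nil))) (.node 1 (.node 2 (.node 1 (.node 2 .nil .nil) .nil) (.node 1 .nil .nil)) (.node 0 (.node 2 .nil .nil) (.node 1 .nil .nil)))))) (.node 2 (.node 1 (.node 2 (.node 1 (.node 3 (.node 1 (.node 2 .nil .nil)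 .nil) (.node 0 .nil .nil)) (.node 3 (.node 1 (.node 0 .nil .nil) .nil) (.node 3 .nil .nil))) (.node 0 (.node 2 (.node 2 (.node 1 .nil .nil) .nil) (.node 0 .nil .nil)) (.node 0 (.node 3 (.node 2 .nil .nil) .nil) (.node 3 .nil .nil)))) (.node 1 (.node 0 (.node 1 (.node 2 (.node 2 .nil .nil) .nil) (.node 2 .nil .nil)) (.node 2 (.node 1 (.node 0 .nil .nil) .nil) (.node 3 .nil .nil))) (.node 2 (.node 2 (.node 2 (.node 0 .nil .nil) .nil) (.node 1 .nil .nil)) (.node 3 (.node 2 .nil .nil) (.node 2 .nil .nil))))) (.node 3 (.node 1 (.node 3 (.node 1 (.node 3 (.node 1 .nil .nil) .nil) (.node 3 .nil .nil)) (.node 2 (.node 2 (.node 2 .nil .nil) .nil) (.node 1 .nil .nil))) (.node 2 (.node 3 (.node 1 (.node 2 .nil .nil) .nil) (.node 3 .nil .nil)) (.node 3 (.node 1 .nil .nil) (.node 1 .nil .nil)))) (.node 1 (.node 2 (.node 0 (.node 3 (.node 3 .nil .nil) .nil) (.node 1 .nil .nil)) (.node 0 (.node 2 (.node 2 .nil .nil) .nil) (.node 2 .nil .nil))) (.node 1 (.node 0 (.node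 0 (.node 1 .nil .nil) .nil) (.node 2 .nil .nil)) (.node 3 (.node 2 .nil .nil) (.node 0 .nil .nil))))))) (.node 0 (.node 2 (.node 3 (.node 2 (.node 2 (.node 3 (.node 0 (.node 0 .nil .nil) .nil) (.node 1 .nil .nil)) (.node 3 (.node 2 (.node 2 .nil .nil) .nil) (.node 2 .nil .nil))) (.node 3 (.node 3 (.node 2 (.node 2 .nil .nil) .nil) (.node 2 .nil .nil)) (.node 2 (.node 2 (.node 0 .nil .nil) .nil) (.node 1 .nil .nil)))) (.node 2 (.node 2 (.node 2 (.node 0 (.node 3 .nil .nil) .nil) (.node 0 .nil .nil)) (.node 3 (.node 1 (.node 3 .nil .nil) .nil) (.node 2 .nil .nil))) (.node 2 (.node 2 (.node 1 (.node 2 .nil .nil) .nil) (.node 3 .nil .nil)) (.node 3 (.node 3 .nil .nil) (.node 2 .nil .nil))))) (.node 1 (.node 0 (.node 2 (.node 2 (.node 3 (.node 3 .nil .nil) .nil) (.node 0 .nil .nil)) (.node 0 (.node 1 (.node 0 .nil .nil) .nil) (.node 0 .nil .nil))) (.node 1 (.node 3 (.node 1 (.node 2 .nil .nil) .nil) (.node 1 .nil .nil)) (.node 0 (.node 3 .nil .nil) (.node 0 .nil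 .nil)))) (.node 0 (.node 2 (.node 3 (.node 1 (.node 2 .nil .nil) .nil) (.node 0 .nil .nil)) (.node 0 (.node 2 (.node 2 .nil .nil) .nil) (.node 2 .nil .nil))) (.node 0 (.node 2 (.node 3 (.node 0 .nil .nil) .nil) (.node 0 .nil .nil)) (.node 2 (.node 2 .nil .nil) (.node 2 .nil .nil)))))) (.node 0 (.node 0 (.node 2 (.node 2 (.node 3 (.node 2 (.node 1 .nil .nil) .nil) (.node 1 .nil .nil)) (.node 1 (.node 2 (.node 3 .nil .nil) .nil) (.node 3 .nil .nil))) (.node 3 (.node 3 (.node 2 (.node 1 .nil .nil) .nil) (.node 0 .nil .nil)) (.node 0 (.node 3 (.node 2 .nil .nil) .nil) (.node 1 .nil .nil)))) (.node 3 (.node 1 (.node 1 (.node 2 (.node 2 .nil .nil) .nil) (.node 1 .nil .nil)) (.node 0 (.node 2 (.node 0 .nil .nil) .nil) (.node 1 .nil .nil))) (.node 2 (.node 3 (.node 2 (.node 3 .nil .nil) .nil) (.node 1 .nil .nil)) (.node 0 (.node 0 .nil .nil) (.node 0 .nil .nil))))) (.node 3 (.node 3 (.node 1 (.node 1 (.node 0 (.node 1 .nil .nil) .nil) (.node 1 .nil .nil)) (.node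 3 (.node 1 (.node 2 .nil .nil) .nil) (.node 1 .nil .nil))) (.node 0 (.node 1 (.node 1 (.node 0 .nil .nil) .nil) (.node 3 .nil .nil)) (.node 0 (.node 1 .nil .nil) (.node 3 .nil .nil)))) (.node 2 (.node 2 (.node 2 (.node 0 (.node 2 .nil .nil) .nil) (.node 2 .nil .nil)) (.node 1 (.node 0 (.node 0 .nil .nil) .nil) (.node 3 .nil .nil))) (.node 0 (.node 2 (.node 1 (.node 0 .nil .nil) .nil) (.node 3 .nil .nil)) (.node 2 (.node 0 .nil .nil) (.node 3 .nil .nil)))))))) (.node 3 (.node 1 (.node 3 (.node 0 (.node 0 (.node 2 (.node 2 (.node 0 (.node 0 .nil .nil) .nil) (.node 1 .nil .nil)) (.node 1 (.node 3 (.node 2 .nil .nil) .nil) (.node 2 .nil .nil))) (.node 1 (.node 0 (.node 0 (.node 1 .nil .nil) .nil) (.node 2 .nil .nil)) (.node 1 (.node 0 (.node 2 .nil .nil) .nil) (.node 3 .nil .nil)))) (.node 3 (.node 1 (.node 1 (.node 0 (.node 3 .nil .nil) .nil) (.node 1 .nil .nil)) (.node 1 (.node 0 (.node 2 .nil .nil) .nil) (.node 1 .nil .nil))) (.node 1 (.node 3 (.node 2 (.node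 1 .nil .nil) .nil) (.node 1 .nil .nil)) (.node 0 (.node 0 .nil .nil) (.node 2 .nil .nil))))) (.node 1 (.node 3 (.node 0 (.node 2 (.node 3 (.node 0 .nil .nil) .nil) (.node 1 .nil .nil)) (.node 0 (.node 0 (.node 3 .nil .nil) .nil) (.node 2 .nil .nil))) (.node 2 (.node 1 (.node 2 (.node 2 .nil .nil) .nil) (.node 2 .nil .nil)) (.node 0 (.node 2 .nil .nil) (.node 3 .nil .nil)))) (.node 1 (.node 2 (.node 3 (.node 3 (.node 3 .nil .nil) .nil) (.node 3 .nil .nil)) (.node 2 (.node 1 (.node 2 .nil .nil) .nil) (.node 2 .nil .nil))) (.node 1 (.node 2 (.node 2 (.node 1 .nil .nil) .nil) (.node 3 .nil .nil)) (.node 2 (.node 3 .nil .nil) (.node 2 .nil .nil)))))) (.node 0 (.node 0 (.node 2 (.node 0 (.node 3 (.node 0 (.node 0 .nil .nil) .nil) (.node 1 .nil .nil)) (.node 2 (.node 1 (.node 3 .nil .nil) .nil) (.node 0 .nil .nil))) (.node 3 (.node 3 (.node 2 (.node 3 .nil .nil) .nil) (.node 3 .nil .nil)) (.node 0 (.node 1 (.node 1 .nil .nil) .nil) (.node 0 .nil .nil)))) (.node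 0 (.node 0 (.node 0 (.node 3 (.node 2 .nil .nil) .nil) (.node 1 .nil .nil)) (.node 3 (.node 0 (.node 3 .nil .nil) .nil) (.node 2 .nil .nil))) (.node 1 (.node 2 (.node 1 (.node 1 .nil .nil) .nil) (.node 1 .nil .nil)) (.node 1 (.node 1 .nil .nil) (.node 1 .nil .nil))))) (.node 2 (.node 3 (.node 3 (.node 0 (.node 2 (.node 0 .nil .nil) .nil) (.node 1 .nil .nil)) (.node 3 (.node 3 (.node 2 .nil .nil) .nil) (.node 2 .nil .nil))) (.node 3 (.node 3 (.node 3 (.node 0 .nil .nil) .nil) (.node 1 .nil .nil)) (.node 2 (.node 0 .nil .nil) (.node 0 .nil .nil)))) (.node 0 (.node 3 (.node 1 (.node 3 (.node 1 .nil .nil) .nil) (.node 1 .nil .nil)) (.node 1 (.node 0 (.node 2 .nil .nil) .nil) (.node 1 .nil .nil))) (.node 1 (.node 1 (.node 3 (.node 1 .nil .nil) .nil) (.node 3 .nil .nil)) (.node 2 (.node 3 .nil .nil) (.node 0 .nil .nil))))))) (.node 3 (.node 1 (.node 3 (.node 2 (.node 1 (.node 3 (.node 2 (.node 2 .nil .nil) .nil) (.node 1 .nil .nil)) (.node 3 (.node 1 (.node 2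 .nil .nil) .nil) (.node 0 .nil .nil))) (.node 3 (.node 1 (.node 0 (.node 0 .nil .nil) .nil) (.node 3 .nil .nil)) (.node 2 (.node 2 (.node 0 .nil .nil) .nil) (.node 0 .nil .nil)))) (.node 3 (.node 1 (.node 0 (.node 1 (.node 1 .nil .nil) .nil) (.node 3 .nil .nil)) (.node 2 (.node 3 (.node 1 .nil .nil) .nil) (.node 3 .nil .nil))) (.node 3 (.node 2 (.node 2 (.node 0 .nil .nil) .nil) (.node 2 .nil .nil)) (.node 1 (.node 1 .nil .nil) (.node 0 .nil .nil))))) (.node 2 (.node 2 (.node 1 (.node 1 (.node 2 (.node 1 .nil .nil) .nil) (.node 0 .nil .nil)) (.node 0 (.node 0 (.node 0 .nil .nil) .nil) (.node 2 .nil .nil))) (.node 3 (.node 2 (.node 1 (.node 1 .nil .nil) .nil) (.node 1 .nil .nil)) (.node 2 (.node 3 .nil .nil) (.node 3 .nil .nil)))) (.node 2 (.node 1 (.node 2 (.node 0 (.node 2 .nil .nil) .nil) (.node 0 .nil .nil)) (.node 1 (.node 1 (.node 3 .nil .nil) .nil) (.node 3 .nil .nil))) (.node 1 (.node 0 (.node 3 (.node 1 .nil .nil) .nil) (.node 0 .nil .nil)) (.node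 2 (.node 0 .nil .nil) (.node 2 .nil .nil)))))) (.node 0 (.node 0 (.node 2 (.node 0 (.node 3 (.node 2 (.node 0 .nil .nil) .nil) (.node 2 .nil .nil)) (.node 1 (.node 2 (.node 3 .nil .nil) .nil) (.node 2 .nil .nil))) (.node 2 (.node 3 (.node 2 (.node 3 .nil .nil) .nil) (.node 2 .nil .nil)) (.node 0 (.node 0 (.node 3 .nil .nil) .nil) (.node 1 .nil .nil)))) (.node 0 (.node 1 (.node 1 (.node 3 (.node 0 .nil .nil) .nil) (.node 2 .nil .nil)) (.node 0 (.node 3 (.node 2 .nil .nil) .nil) (.node 2 .nil .nil))) (.node 1 (.node 1 (.node 0 (.node 2 .nil .nil) .nil) (.node 1 .nil .nil)) (.node 2 (.node 3 .nil .nil) (.node 1 .nil .nil))))) (.node 1 (.node 0 (.node 0 (.node 3 (.node 1 (.node 0 .nil .nil) .nil) (.node 0 .nil .nil)) (.node 0 (.node 0 (.node 3 .nil .nil) .nil) (.node 0 .nil .nil))) (.node 2 (.node 1 (.node 1 (.node 3 .nil .nil) .nil) (.node 1 .nil .nil)) (.node 0 (.node 1 .nil .nil) (.node 1 .nil .nil)))) (.node 2 (.node 1 (.node 3 (.node 2 (.node 0 .nil .nil)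 .nil) (.node 1 .nil .nil)) (.node 2 (.node 2 (.node 3 .nil .nil) .nil) (.node 3 .nil .nil))) (.node 3 (.node 0 (.node 0 (.node 2 .nil .nil) .nil) (.node 1 .nil .nil)) (.node 2 (.node 1 .nil .nil) (.node 0 .nil .nil))))))))))]

/-- permutations of the generators for the part at three -/
def genQ3 : List (Tr ℕ) := [(.node 165 (.node 185 (.node 182 (.node 177 (.node 176 (.node 168 (.node 228 (.node 58 .nil .nil) (.node 132 .nil .nil)) (.node 16 (.node 50 .nil .nil) (.node 34 .nil .nil))) (.node 59 (.node 221 (.node 195 .nil .nil) (.node 140 .nil .nil)) (.node 223 (.node 60 .nil .nil) .nil))) (.node 172 (.node 29 (.node 218 (.node 214 .nil .nil) (.node 96 .nil .nil)) (.node 7 (.node 61 .nil .nil) .nil)) (.node 215 (.node 149 (.node 32 .nil .nil) (.node 89 .nil .nil)) (.node 216 (.node 113 .nil .nil) .nil)))) (.node 178 (.node 30 (.node 166 (.node 123 (.node 109 .nil .nil) (.node 97 .nil .nil)) (.node 2 (.node 21 .nil .nil) (.node 80 .nil .nil))) (.node 110 (.node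 74 (.node 186 .nil .nil) (.node 210 .nil .nil)) (.node 121 (.node 120 .nil .nil) .nil))) (.node 167 (.node 20 (.node 162 (.node 93 .nil .nil) (.node 147 .nil .nil)) (.node 6 (.node 71 .nil .nil) .nil)) (.node 94 (.node 136 (.node 52 .nil .nil) (.node 31 .nil .nil)) (.node 160 (.node 145 .nil .nil) .nil))))) (.node 181 (.node 67 (.node 129 (.node 141 (.node 57 (.node 124 .nil .nil) (.node 33 .nil .nil)) (.node 12 (.node 45 .nil .nil) (.node 127 .nil .nil))) (.node 125 (.node 199 (.node 144 .nil .nil) (.node 81 .nil .nil)) (.node 55 (.node 95 .nil .nil) .nil))) (.node 171 (.node 229 (.node 213 (.node 163 .nil .nil) (.node 24 .nil .nil)) (.node 11 (.node 72 .nil .nil) .nil)) (.node 164 (.node 191 (.node 41 .nil .nil) (.node 130 .nil .nil)) (.node 211 (.node 79 .nil .nil) .nil)))) (.node 142 (.node 175 (.node 128 (.node 108 (.node 219 .nil .nil) (.node 101 .nil .nil)) (.node 13 (.node 62 .nil .nil) (.node 82 .nil .nil))) (.node 220 (.node 206 (.node 131 .nil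 .nil) (.node 159 .nil .nil)) (.node 106 (.node 119 .nil .nil) .nil))) (.node 66 (.node 230 (.node 92 (.node 69 .nil .nil) (.node 146 .nil .nil)) (.node 0 (.node 65 .nil .nil) .nil)) (.node 18 (.node 37 (.node 46 .nil .nil) (.node 133 .nil .nil)) (.node 90 (.node 187 .nil .nil) .nil)))))) (.node 183 (.node 10 (.node 49 (.node 179 (.node 99 (.node 200 (.node 76 .nil .nil) (.node 157 .nil .nil)) (.node 19 (.node 53 .nil .nil) (.node 88 .nil .nil))) (.node 77 (.node 226 (.node 102 .nil .nil) (.node 27 .nil .nil)) (.node 198 (.node 118 .nil .nil) .nil))) (.node 9 (.node 83 (.node 192 (.node 138 .nil .nil) (.node 98 .nil .nil)) (.node 15 (.node 64 .nil .nil) .nil)) (.node 139 (.node 217 (.node 86 .nil .nil) (.node 188 .nil .nil)) (.node 190 (.node 25 .nil .nil) .nil)))) (.node 100 (.node 84 (.node 169 (.node 207 (.node 151 .nil .nil) (.node 105 .nil .nil)) (.node 5 (.node 42 .nil .nil) (.node 28 .nil .nil))) (.node 152 (.node 122 (.node 196 .nil .nil) (.node 134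 .nil .nil)) (.node 205 (.node 116 .nil .nil) .nil))) (.node 48 (.node 224 (.node 38 (.node 51 .nil .nil) (.node 143 .nil .nil)) (.node 8 (.node 63 .nil .nil) .nil)) (.node 225 (.node 161 (.node 43 .nil .nil) (.node 85 .nil .nil)) (.node 36 (.node 204 .nil .nil) .nil))))) (.node 184 (.node 115 (.node 154 (.node 170 (.node 75 (.node 208 .nil .nil) (.node 87 .nil .nil)) (.node 1 (.node 47 .nil .nil) (.node 26 .nil .nil))) (.node 209 (.node 56 (.node 197 .nil .nil) (.node 189 .nil .nil)) (.node 73 (.node 112 .nil .nil) .nil))) (.node 174 (.node 227 (.node 137 (.node 39 .nil .nil) (.node 78 .nil .nil)) (.node 14 (.node 68 .nil .nil) .nil)) (.node 40 (.node 212 (.node 44 .nil .nil) (.node 155 .nil .nil)) (.node 135 (.node 103 .nil .nil) .nil)))) (.node 180 (.node 173 (.node 153 (.node 150 (.node 193 .nil .nil) (.node 104 .nil .nil)) (.node 4 (.node 70 .nil .nil) (.node 23 .nil .nil))) (.node 194 (.node 107 (.node 156 .nil .nil) (.node 35 .nil .nil)) (.node 148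 (.node 111 .nil .nil) .nil))) (.node 114 (.node 202 (.node 17 (.node 117 .nil .nil) (.node 126 .nil .nil)) (.node 3 (.node 22 .nil .nil) .nil)) (.node 222 (.node 91 (.node 54 .nil .nil) (.node 158 .nil .nil)) (.node 201 (.node 203 .nil .nil) .nil))))))),
    (.node 19 (.node 18 (.node 6 (.node 5 (.node 14 (.node 208 (.node 47 (.node 28 .nil .nil) (.node 168 .nil .nil)) (.node 143 (.node 34 .nil .nil) (.node 86 .nil .nil))) (.node 38 (.node 130 (.node 118 .nil .nil) (.node 107 .nil .nil)) (.node 155 (.node 77 .nil .nil) .nil))) (.node 138 (.node 93 (.node 49 (.node 156 .nil .nil) (.node 170 .nil .nil)) (.node 97 (.node 72 .nil .nil) .nil)) (.node 200 (.node 96 (.node 79 .nil .nil) (.node 185 .nil .nil)) (.node 176 (.node 221 .nil .nil) .nil)))) (.node 13 (.node 3 (.node 214 (.node 55 (.node 159 .nil .nil) (.node 105 .nil .nil)) (.node 64 (.node 23 .nil .nil) (.node 175 .nil .nil))) (.node 218 (.node 63 (.node 119 .nil .nil) (.node 177 .nil .nil)) (.node 190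 (.node 181 .nil .nil) .nil))) (.node 124 (.node 150 (.node 56 (.node 164 .nil .nil) (.node 100 .nil .nil)) (.node 141 (.node 69 .nil .nil) .nil)) (.node 229 (.node 128 (.node 33 .nil .nil) (.node 88 .nil .nil)) (.node 191 (.node 103 .nil .nil) .nil))))) (.node 11 (.node 2 (.node 9 (.node 109 (.node 21 (.node 160 .nil .nil) (.node 87 .nil .nil)) (.node 112 (.node 29 .nil .nil) (.node 172 .nil .nil))) (.node 222 (.node 111 (.node 95 .nil .nil) (.node 110 .nil .nil)) (.node 31 (.node 216 .nil .nil) .nil))) (.node 193 (.node 57 (.node 51 (.node 161 .nil .nil) (.node 89 .nil .nil)) (.node 146 (.node 67 .nil .nil) .nil)) (.node 225 (.node 133 (.node 22 .nil .nil) (.node 169 .nil .nil)) (.node 186 (.node 224 .nil .nil) .nil)))) (.node 4 (.node 228 (.node 174 (.node 54 (.node 154 .nil .nil) (.node 210 .nil .nil)) (.node 145 (.node 73 .nil .nil) (.node 227 .nil .nil))) (.node 183 (.node 132 (.node 114 .nil .nil) (.node 182 .nil .nil)) (.node 189 (.node 198 .nil .nil)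 .nil))) (.node 76 (.node 162 (.node 59 (.node 62 .nil .nil) (.node 102 .nil .nil)) (.node 81 (.node 74 .nil .nil) .nil)) (.node 46 (.node 80 (.node 24 .nil .nil) (.node 167 .nil .nil)) (.node 194 (.node 203 .nil .nil) .nil)))))) (.node 1 (.node 7 (.node 0 (.node 12 (.node 219 (.node 44 (.node 65 .nil .nil) (.node 206 .nil .nil)) (.node 140 (.node 32 .nil .nil) (.node 202 .nil .nil))) (.node 75 (.node 127 (.node 120 .nil .nil) (.node 78 .nil .nil)) (.node 116 (.node 205 .nil .nil) .nil))) (.node 151 (.node 230 (.node 53 (.node 153 .nil .nil) (.node 217 .nil .nil)) (.node 142 (.node 61 .nil .nil) .nil)) (.node 173 (.node 129 (.node 125 .nil .nil) (.node 196 .nil .nil)) (.node 188 (.node 90 .nil .nil) .nil)))) (.node 15 (.node 20 (.node 201 (.node 52 (.node 98 .nil .nil) (.node 180 .nil .nil)) (.node 148 (.node 40 .nil .nil) (.node 91 .nil .nil))) (.node 108 (.node 135 (.node 117 .nil .nil) (.node 165 .nil .nil)) (.node 187 (.node 211 .nil .nil) .nil))) (.node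 39 (.node 192 (.node 42 (.node 25 .nil .nil) (.node 104 .nil .nil)) (.node 149 (.node 66 .nil .nil) .nil)) (.node 45 (.node 136 (.node 35 .nil .nil) (.node 215 .nil .nil)) (.node 85 (.node 178 .nil .nil) .nil))))) (.node 8 (.node 16 (.node 17 (.node 184 (.node 41 (.node 157 .nil .nil) (.node 209 .nil .nil)) (.node 27 (.node 37 .nil .nil) (.node 83 .nil .nil))) (.node 207 (.node 26 (.node 115 .nil .nil) (.node 179 .nil .nil)) (.node 68 (.node 106 .nil .nil) .nil))) (.node 163 (.node 137 (.node 48 (.node 82 .nil .nil) (.node 220 .nil .nil)) (.node 144 (.node 71 .nil .nil) .nil)) (.node 92 (.node 131 (.node 36 .nil .nil) (.node 212 .nil .nil)) (.node 166 (.node 204 .nil .nil) .nil)))) (.node 10 (.node 58 (.node 226 (.node 43 (.node 158 .nil .nil) (.node 197 .nil .nil)) (.node 147 (.node 70 .nil .nil) (.node 94 .nil .nil))) (.node 213 (.node 134 (.node 122 .nil .nil) (.node 84 .nil .nil)) (.node 101 (.node 171 .nil .nil) .nil))) (.node 223 (.node 123 (.node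 126 (.node 121 .nil .nil) (.node 99 .nil .nil)) (.node 152 (.node 60 .nil .nil) .nil)) (.node 50 (.node 139 (.node 30 .nil .nil) (.node 199 .nil .nil)) (.node 113 (.node 195 .nil .nil) .nil))))))),
    (.node 40 (.node 224 (.node 164 (.node 209 (.node 227 (.node 31 (.node 214 (.node 138 .nil .nil) (.node 176 .nil .nil)) (.node 112 (.node 136 .nil .nil) (.node 83 .nil .nil))) (.node 135 (.node 140 (.node 187 .nil .nil) (.node 105 .nil .nil)) (.node 151 (.node 12 .nil .nil) .nil))) (.node 28 (.node 23 (.node 71 (.node 174 .nil .nil) (.node 49 .nil .nil)) (.node 95 (.node 51 .nil .nil) .nil)) (.node 171 (.node 98 (.node 87 .nil .nil) (.node 2 .nil .nil)) (.node 64 (.node 218 .nil .nil) .nil)))) (.node 194 (.node 94 (.node 37 (.node 213 (.node 58 .nil .nil) (.node 43 .nil .nil)) (.node 117 (.node 80 .nil .nil) (.node 10 .nil .nil))) (.node 55 (.node 156 (.node 206 .nil .nil) (.node 66 .nil .nil)) (.node 150 (.node 75 .nil .nil) .nil))) (.node 33 (.node 121 (.node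 210 (.node 19 .nil .nil) (.node 61 .nil .nil)) (.node 115 (.node 167 .nil .nil) .nil)) (.node 16 (.node 154 (.node 130 .nil .nil) (.node 91 .nil .nil)) (.node 147 (.node 101 .nil .nil) .nil))))) (.node 152 (.node 202 (.node 185 (.node 24 (.node 133 (.node 228 .nil .nil) (.node 85 .nil .nil)) (.node 118 (.node 129 .nil .nil) (.node 180 .nil .nil))) (.node 222 (.node 157 (.node 103 .nil .nil) (.node 4 .nil .nil)) (.node 126 (.node 57 .nil .nil) .nil))) (.node 27 (.node 211 (.node 169 (.node 219 .nil .nil) (.node 42 .nil .nil)) (.node 122 (.node 69 .nil .nil) .nil)) (.node 216 (.node 161 (.node 131 .nil .nil) (.node 182 .nil .nil)) (.node 141 (.node 18 .nil .nil) .nil)))) (.node 110 (.node 36 (.node 30 (.node 53 (.node 76 .nil .nil) (.node 56 .nil .nil)) (.node 116 (.node 200 .nil .nil) (.node 15 .nil .nil))) (.node 73 (.node 155 (.node 178 .nil .nil) (.node 72 .nil .nil)) (.node 46 (.node 173 .nil .nil) .nil))) (.node 32 (.node 223 (.node 14 (.node 195 .nil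 .nil) (.node 99 .nil .nil)) (.node 79 (.node 197 .nil .nil) .nil)) (.node 119 (.node 82 (.node 96 .nil .nil) (.node 165 .nil .nil)) (.node 7 (.node 191 .nil .nil) .nil)))))) (.node 215 (.node 125 (.node 139 (.node 175 (.node 21 (.node 203 (.node 201 .nil .nil) (.node 189 .nil .nil)) (.node 124 (.node 128 .nil .nil) (.node 9 .nil .nil))) (.node 198 (.node 163 (.node 52 .nil .nil) (.node 78 .nil .nil)) (.node 145 (.node 192 .nil .nil) .nil))) (.node 25 (.node 0 (.node 212 (.node 184 .nil .nil) (.node 54 .nil .nil)) (.node 62 (.node 102 .nil .nil) .nil)) (.node 181 (.node 65 (.node 13 .nil .nil) (.node 172 .nil .nil)) (.node 149 (.node 92 .nil .nil) .nil)))) (.node 59 (.node 20 (.node 29 (.node 188 (.node 109 .nil .nil) (.node 41 .nil .nil)) (.node 123 (.node 6 .nil .nil) (.node 89 .nil .nil))) (.node 106 (.node 162 (.node 168 .nil .nil) (.node 67 .nil .nil)) (.node 143 (.node 225 .nil .nil) .nil))) (.node 26 (.node 148 (.node 88 (.node 132 .nil .nil) (.node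 107 .nil .nil)) (.node 120 (.node 177 .nil .nil) .nil)) (.node 158 (.node 159 (.node 45 .nil .nil) (.node 17 .nil .nil)) (.node 81 (.node 68 .nil .nil) .nil))))) (.node 230 (.node 229 (.node 220 (.node 22 (.node 196 (.node 193 .nil .nil) (.node 11 .nil .nil)) (.node 111 (.node 134 .nil .nil) (.node 84 .nil .nil))) (.node 190 (.node 127 (.node 70 .nil .nil) (.node 74 .nil .nil)) (.node 144 (.node 108 .nil .nil) .nil))) (.node 39 (.node 160 (.node 179 (.node 93 .nil .nil) (.node 1 .nil .nil)) (.node 114 (.node 199 .nil .nil) .nil)) (.node 90 (.node 153 (.node 137 .nil .nil) (.node 217 .nil .nil)) (.node 142 (.node 50 .nil .nil) .nil)))) (.node 77 (.node 34 (.node 35 (.node 104 (.node 226 .nil .nil) (.node 48 .nil .nil)) (.node 44 (.node 186 .nil .nil) (.node 3 .nil .nil))) (.node 221 (.node 47 (.node 204 .nil .nil) (.node 60 .nil .nil)) (.node 97 (.node 183 .nil .nil) .nil))) (.node 38 (.node 205 (.node 113 (.node 207 .nil .nil) (.node 100 .nil .nil)) (.node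 5 (.node 86 .nil .nil) .nil)) (.node 146 (.node 8 (.node 63 .nil .nil) (.node 170 .nil .nil)) (.node 208 (.node 166 .nil .nil) .nil)))))))]

/-- permutations of the generators for the part at four -/
def genQ4 : List (Tr ℕ) := [(.node 599 (.node 607 (.node 606 (.node 594 (.node 593 (.node 1154 (.node 884 (.node 130 (.node 115 (.node 979 (.node 513 .nil .nil) .nil) (.node 387 .nil .nil)) (.node 1188 (.node 18 (.node 289 .nil .nil) .nil) (.node 83 .nil .nil))) (.node 435 (.node 547 (.node 194 (.node 945 .nil .nil) .nil) (.node 995 .nil .nil)) (.node 100 (.node 578 (.node 614 .nil .nil) .nil) (.node 1201 .nil .nil)))) (.node 771 (.node 1044 (.node 1028 (.node 307 (.node 48 .nil .nil) .nil) (.node 210 .nil .nil)) (.node 419 (.node 338 (.node 149 .nil .nil) .nil) (.node 1120 .nil .nil))) (.node 691 (.node 452 (.node 1091 (.node 929 .nil .nil) .nil) (.node 482 .nil .nil)) (.node 260 (.node 243 .nil .nil) (.node 225 .nil .nil))))) (.node 914 (.node 1011 (.node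 467 (.node 274 (.node 628 (.node 177 .nil .nil) .nil) (.node 961 .nil .nil)) (.node 163 (.node 1219 (.node 901 .nil .nil) .nil) (.node 401 .nil .nil))) (.node 1107 (.node 1059 (.node 564 (.node 833 .nil .nil) .nil) (.node 1074 .nil .nil)) (.node 738 (.node 66 (.node 3 .nil .nil) .nil) (.node 529 .nil .nil)))) (.node 724 (.node 851 (.node 819 (.node 1172 (.node 673 .nil .nil) .nil) (.node 641 .nil .nil)) (.node 867 (.node 786 (.node 759 .nil .nil) .nil) (.node 321 .nil .nil))) (.node 1140 (.node 371 (.node 804 (.node 352 .nil .nil) .nil) (.node 707 .nil .nil)) (.node 35 (.node 498 .nil .nil) (.node 656 .nil .nil)))))) (.node 1155 (.node 921 (.node 1013 (.node 473 (.node 273 (.node 627 (.node 190 .nil .nil) .nil) (.node 960 .nil .nil)) (.node 162 (.node 1227 (.node 897 .nil .nil) .nil) (.node 410 .nil .nil))) (.node 1106 (.node 1061 (.node 563 (.node 834 .nil .nil) .nil) (.node 1076 .nil .nil)) (.node 746 (.node 72 (.node 7 .nil .nil) .nil) (.node 531 .nil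 .nil)))) (.node 722 (.node 850 (.node 821 (.node 1170 (.node 675 .nil .nil) .nil) (.node 648 .nil .nil)) (.node 866 (.node 785 (.node 753 .nil .nil) .nil) (.node 329 .nil .nil))) (.node 1139 (.node 370 (.node 803 (.node 354 .nil .nil) .nil) (.node 705 .nil .nil)) (.node 37 (.node 497 .nil .nil) (.node 658 .nil .nil))))) (.node 892 (.node 772 (.node 1045 (.node 1030 (.node 312 (.node 56 .nil .nil) .nil) (.node 212 .nil .nil)) (.node 418 (.node 340 (.node 144 .nil .nil) .nil) (.node 1123 .nil .nil))) (.node 698 (.node 450 (.node 1093 (.node 930 .nil .nil) .nil) (.node 480 .nil .nil)) (.node 258 (.node 241 .nil .nil) (.node 227 .nil .nil)))) (.node 129 (.node 434 (.node 549 (.node 206 (.node 946 .nil .nil) .nil) (.node 1002 .nil .nil)) (.node 105 (.node 577 (.node 609 .nil .nil) .nil) (.node 1204 .nil .nil))) (.node 114 (.node 1187 (.node 23 (.node 297 .nil .nil) .nil) (.node 94 .nil .nil)) (.node 978 (.node 385 .nil .nil) (.node 514 .nil .nil))))))) (.node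 603 (.node 1165 (.node 925 (.node 1008 (.node 476 (.node 285 (.node 624 (.node 189 .nil .nil) .nil) (.node 973 .nil .nil)) (.node 172 (.node 1230 (.node 896 .nil .nil) .nil) (.node 400 .nil .nil))) (.node 1104 (.node 1069 (.node 560 (.node 846 .nil .nil) .nil) (.node 1072 .nil .nil)) (.node 750 (.node 76 (.node 12 .nil .nil) .nil) (.node 540 .nil .nil)))) (.node 734 (.node 862 (.node 830 (.node 1182 (.node 685 .nil .nil) .nil) (.node 654 .nil .nil)) (.node 878 (.node 798 (.node 766 .nil .nil) .nil) (.node 333 .nil .nil))) (.node 1150 (.node 368 (.node 800 (.node 364 .nil .nil) .nil) (.node 717 .nil .nil)) (.node 32 (.node 496 .nil .nil) (.node 669 .nil .nil))))) (.node 891 (.node 781 (.node 1055 (.node 1024 (.node 317 (.node 61 .nil .nil) .nil) (.node 222 .nil .nil)) (.node 429 (.node 336 (.node 157 .nil .nil) .nil) (.node 1135 .nil .nil))) (.node 688 (.node 448 (.node 1101 (.node 941 .nil .nil) .nil) (.node 493 .nil .nil)) (.node 268 (.node 253 .nil .nil)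 (.node 236 .nil .nil)))) (.node 140 (.node 445 (.node 557 (.node 205 (.node 944 .nil .nil) .nil) (.node 1005 .nil .nil)) (.node 108 (.node 589 (.node 608 .nil .nil) .nil) (.node 1200 .nil .nil))) (.node 124 (.node 1198 (.node 29 (.node 301 .nil .nil) .nil) (.node 93 .nil .nil)) (.node 988 (.node 384 .nil .nil) (.node 525 .nil .nil)))))) (.node 1163 (.node 922 (.node 1019 (.node 474 (.node 280 (.node 634 (.node 186 .nil .nil) .nil) (.node 965 .nil .nil)) (.node 166 (.node 1226 (.node 907 .nil .nil) .nil) (.node 409 .nil .nil))) (.node 1116 (.node 1065 (.node 568 (.node 844 .nil .nil) .nil) (.node 1085 .nil .nil)) (.node 745 (.node 74 (.node 4 .nil .nil) .nil) (.node 537 .nil .nil)))) (.node 731 (.node 859 (.node 828 (.node 1180 (.node 683 .nil .nil) .nil) (.node 651 .nil .nil)) (.node 870 (.node 792 (.node 758 .nil .nil) .nil) (.node 328 .nil .nil))) (.node 1147 (.node 376 (.node 812 (.node 358 .nil .nil) .nil) (.node 708 .nil .nil)) (.node 39 (.node 507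 .nil .nil) (.node 667 .nil .nil))))) (.node 893 (.node 780 (.node 1051 (.node 1035 (.node 315 (.node 58 .nil .nil) .nil) (.node 219 .nil .nil)) (.node 428 (.node 345 (.node 148 .nil .nil) .nil) (.node 1129 .nil .nil))) (.node 696 (.node 455 (.node 1100 (.node 935 .nil .nil) .nil) (.node 491 .nil .nil)) (.node 264 (.node 251 .nil .nil) (.node 235 .nil .nil)))) (.node 138 (.node 444 (.node 554 (.node 198 (.node 949 .nil .nil) .nil) (.node 997 .nil .nil)) (.node 101 (.node 585 (.node 611 .nil .nil) .nil) (.node 1210 .nil .nil))) (.node 121 (.node 1197 (.node 20 (.node 298 .nil .nil) .nil) (.node 84 .nil .nil)) (.node 984 (.node 388 .nil .nil) (.node 523 .nil .nil)))))))) (.node 595 (.node 604 (.node 1167 (.node 918 (.node 1022 (.node 479 (.node 278 (.node 632 (.node 183 .nil .nil) .nil) (.node 967 .nil .nil)) (.node 175 (.node 1231 (.node 910 .nil .nil) .nil) (.node 415 .nil .nil))) (.node 1112 (.node 1063 (.node 575 (.node 838 .nil .nil) .nil) (.node 1079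 .nil .nil)) (.node 743 (.node 79 (.node 15 .nil .nil) .nil) (.node 541 .nil .nil)))) (.node 728 (.node 856 (.node 825 (.node 1175 (.node 687 .nil .nil) .nil) (.node 645 .nil .nil)) (.node 872 (.node 790 (.node 760 .nil .nil) .nil) (.node 326 .nil .nil))) (.node 1145 (.node 383 (.node 815 (.node 367 .nil .nil) .nil) (.node 719 .nil .nil)) (.node 45 (.node 511 .nil .nil) (.node 671 .nil .nil))))) (.node 895 (.node 783 (.node 1040 (.node 1038 (.node 310 (.node 53 .nil .nil) .nil) (.node 221 .nil .nil)) (.node 423 (.node 351 (.node 150 .nil .nil) .nil) (.node 1127 .nil .nil))) (.node 702 (.node 463 (.node 1102 (.node 936 .nil .nil) .nil) (.node 486 .nil .nil)) (.node 271 (.node 247 .nil .nil) (.node 239 .nil .nil)))) (.node 143 (.node 441 (.node 552 (.node 199 (.node 958 .nil .nil) .nil) (.node 999 .nil .nil)) (.node 111 (.node 583 (.node 615 .nil .nil) .nil) (.node 1208 .nil .nil))) (.node 127 (.node 1192 (.node 21 (.node 294 .nil .nil) .nil) (.node 86 .nil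 .nil)) (.node 990 (.node 399 .nil .nil) (.node 519 .nil .nil)))))) (.node 1164 (.node 923 (.node 1020 (.node 470 (.node 275 (.node 635 (.node 178 .nil .nil) .nil) (.node 970 .nil .nil)) (.node 169 (.node 1223 (.node 905 .nil .nil) .nil) (.node 406 .nil .nil))) (.node 1115 (.node 1060 (.node 571 (.node 835 .nil .nil) .nil) (.node 1075 .nil .nil)) (.node 742 (.node 67 (.node 2 .nil .nil) .nil) (.node 532 .nil .nil)))) (.node 725 (.node 854 (.node 820 (.node 1173 (.node 681 .nil .nil) .nil) (.node 649 .nil .nil)) (.node 876 (.node 788 (.node 756 .nil .nil) .nil) (.node 323 .nil .nil))) (.node 1143 (.node 372 (.node 805 (.node 362 .nil .nil) .nil) (.node 709 .nil .nil)) (.node 36 (.node 506 .nil .nil) (.node 665 .nil .nil))))) (.node 894 (.node 774 (.node 1047 (.node 1029 (.node 313 (.node 50 .nil .nil) .nil) (.node 211 .nil .nil)) (.node 427 (.node 342 (.node 153 .nil .nil) .nil) (.node 1125 .nil .nil))) (.node 694 (.node 457 (.node 1092 (.node 933 .nil .nil)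 .nil) (.node 484 .nil .nil)) (.node 262 (.node 244 .nil .nil) (.node 226 .nil .nil)))) (.node 137 (.node 436 (.node 550 (.node 196 (.node 954 .nil .nil) .nil) (.node 994 .nil .nil)) (.node 99 (.node 579 (.node 612 .nil .nil) .nil) (.node 1203 .nil .nil))) (.node 118 (.node 1189 (.node 19 (.node 291 .nil .nil) .nil) (.node 82 .nil .nil)) (.node 980 (.node 389 .nil .nil) (.node 522 .nil .nil))))))) (.node 598 (.node 1153 (.node 924 (.node 1018 (.node 465 (.node 286 (.node 638 (.node 176 .nil .nil) .nil) (.node 975 .nil .nil)) (.node 171 (.node 1218 (.node 911 .nil .nil) .nil) (.node 402 .nil .nil))) (.node 1119 (.node 1057 (.node 570 (.node 845 .nil .nil) .nil) (.node 1082 .nil .nil)) (.node 737 (.node 75 (.node 11 .nil .nil) .nil) (.node 538 .nil .nil)))) (.node 720 (.node 861 (.node 829 (.node 1181 (.node 684 .nil .nil) .nil) (.node 640 .nil .nil)) (.node 875 (.node 793 (.node 752 .nil .nil) .nil) (.node 332 .nil .nil))) (.node 1148 (.node 382 (.node 810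 (.node 361 .nil .nil) .nil) (.node 716 .nil .nil)) (.node 46 (.node 510 .nil .nil) (.node 664 .nil .nil))))) (.node 883 (.node 778 (.node 1042 (.node 1026 (.node 316 (.node 59 .nil .nil) .nil) (.node 208 .nil .nil)) (.node 430 (.node 350 (.node 155 .nil .nil) .nil) (.node 1121 .nil .nil))) (.node 697 (.node 462 (.node 1097 (.node 940 .nil .nil) .nil) (.node 494 .nil .nil)) (.node 270 (.node 240 .nil .nil) (.node 238 .nil .nil)))) (.node 142 (.node 443 (.node 558 (.node 192 (.node 959 .nil .nil) .nil) (.node 1004 .nil .nil)) (.node 107 (.node 590 (.node 622 .nil .nil) .nil) (.node 1211 .nil .nil))) (.node 126 (.node 1194 (.node 27 (.node 288 .nil .nil) .nil) (.node 80 .nil .nil)) (.node 985 (.node 398 .nil .nil) (.node 524 .nil .nil)))))) (.node 1159 (.node 917 (.node 1015 (.node 471 (.node 277 (.node 630 (.node 180 .nil .nil) .nil) (.node 964 .nil .nil)) (.node 167 (.node 1222 (.node 906 .nil .nil) .nil) (.node 405 .nil .nil))) (.node 1111 (.node 1062 (.node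 567 (.node 843 .nil .nil) .nil) (.node 1084 .nil .nil)) (.node 741 (.node 68 (.node 6 .nil .nil) .nil) (.node 534 .nil .nil)))) (.node 727 (.node 855 (.node 824 (.node 1174 (.node 682 .nil .nil) .nil) (.node 650 .nil .nil)) (.node 871 (.node 787 (.node 762 .nil .nil) .nil) (.node 324 .nil .nil))) (.node 1144 (.node 374 (.node 811 (.node 360 .nil .nil) .nil) (.node 715 .nil .nil)) (.node 38 (.node 500 .nil .nil) (.node 661 .nil .nil))))) (.node 888 (.node 775 (.node 1048 (.node 1033 (.node 309 (.node 57 .nil .nil) .nil) (.node 218 .nil .nil)) (.node 422 (.node 341 (.node 154 .nil .nil) .nil) (.node 1124 .nil .nil))) (.node 695 (.node 453 (.node 1099 (.node 938 .nil .nil) .nil) (.node 490 .nil .nil)) (.node 261 (.node 245 .nil .nil) (.node 228 .nil .nil)))) (.node 133 (.node 440 (.node 551 (.node 197 (.node 952 .nil .nil) .nil) (.node 1003 .nil .nil)) (.node 103 (.node 580 (.node 620 .nil .nil) .nil) (.node 1205 .nil .nil))) (.node 119 (.node 1191 (.node 25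 (.node 296 .nil .nil) .nil) (.node 90 .nil .nil)) (.node 981 (.node 390 .nil .nil) (.node 517 .nil .nil))))))))) (.node 605 (.node 601 (.node 597 (.node 1160 (.node 919 (.node 1016 (.node 472 (.node 279 (.node 633 (.node 184 .nil .nil) .nil) (.node 968 .nil .nil)) (.node 168 (.node 1225 (.node 902 .nil .nil) .nil) (.node 408 .nil .nil))) (.node 1113 (.node 1064 (.node 569 (.node 839 .nil .nil) .nil) (.node 1080 .nil .nil)) (.node 744 (.node 71 (.node 5 .nil .nil) .nil) (.node 543 .nil .nil)))) (.node 729 (.node 857 (.node 826 (.node 1176 (.node 679 .nil .nil) .nil) (.node 646 .nil .nil)) (.node 873 (.node 791 (.node 761 .nil .nil) .nil) (.node 327 .nil .nil))) (.node 1146 (.node 375 (.node 808 (.node 359 .nil .nil) .nil) (.node 712 .nil .nil)) (.node 47 (.node 503 .nil .nil) (.node 663 .nil .nil))))) (.node 889 (.node 776 (.node 1054 (.node 1034 (.node 311 (.node 54 .nil .nil) .nil) (.node 223 .nil .nil)) (.node 424 (.node 344 (.node 151 .nil .nil) .nil)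 (.node 1128 .nil .nil))) (.node 703 (.node 454 (.node 1095 (.node 937 .nil .nil) .nil) (.node 487 .nil .nil)) (.node 263 (.node 248 .nil .nil) (.node 231 .nil .nil)))) (.node 134 (.node 442 (.node 553 (.node 200 (.node 951 .nil .nil) .nil) (.node 1000 .nil .nil)) (.node 104 (.node 584 (.node 616 .nil .nil) .nil) (.node 1209 .nil .nil))) (.node 120 (.node 1193 (.node 22 (.node 295 .nil .nil) .nil) (.node 87 .nil .nil)) (.node 983 (.node 392 .nil .nil) (.node 520 .nil .nil)))))) (.node 1158 (.node 916 (.node 1012 (.node 468 (.node 282 (.node 629 (.node 185 .nil .nil) .nil) (.node 963 .nil .nil)) (.node 165 (.node 1220 (.node 898 .nil .nil) .nil) (.node 404 .nil .nil))) (.node 1109 (.node 1066 (.node 566 (.node 842 .nil .nil) .nil) (.node 1083 .nil .nil)) (.node 739 (.node 65 (.node 1 .nil .nil) .nil) (.node 533 .nil .nil)))) (.node 723 (.node 852 (.node 827 (.node 1171 (.node 676 .nil .nil) .nil) (.node 643 .nil .nil)) (.node 869 (.node 794 (.node 754 .nil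 .nil) .nil) (.node 322 .nil .nil))) (.node 1141 (.node 378 (.node 806 (.node 356 .nil .nil) .nil) (.node 706 .nil .nil)) (.node 40 (.node 499 .nil .nil) (.node 660 .nil .nil))))) (.node 885 (.node 779 (.node 1050 (.node 1036 (.node 306 (.node 49 .nil .nil) .nil) (.node 217 .nil .nil)) (.node 420 (.node 339 (.node 146 .nil .nil) .nil) (.node 1131 .nil .nil))) (.node 692 (.node 451 (.node 1098 (.node 931 .nil .nil) .nil) (.node 481 .nil .nil)) (.node 259 (.node 242 .nil .nil) (.node 233 .nil .nil)))) (.node 131 (.node 437 (.node 548 (.node 202 (.node 948 .nil .nil) .nil) (.node 993 .nil .nil)) (.node 98 (.node 587 (.node 610 .nil .nil) .nil) (.node 1212 .nil .nil))) (.node 116 (.node 1195 (.node 17 (.node 290 .nil .nil) .nil) (.node 81 .nil .nil)) (.node 986 (.node 386 .nil .nil) (.node 516 .nil .nil))))))) (.node 596 (.node 1162 (.node 912 (.node 1023 (.node 478 (.node 284 (.node 637 (.node 188 .nil .nil) .nil) (.node 972 .nil .nil)) (.node 160 (.node 1217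 (.node 908 .nil .nil) .nil) (.node 414 .nil .nil))) (.node 1117 (.node 1071 (.node 574 (.node 832 .nil .nil) .nil) (.node 1087 .nil .nil)) (.node 749 (.node 64 (.node 0 .nil .nil) .nil) (.node 542 .nil .nil)))) (.node 733 (.node 848 (.node 816 (.node 1168 (.node 672 .nil .nil) .nil) (.node 653 .nil .nil)) (.node 877 (.node 797 (.node 765 .nil .nil) .nil) (.node 320 .nil .nil))) (.node 1151 (.node 380 (.node 813 (.node 366 .nil .nil) .nil) (.node 704 .nil .nil)) (.node 43 (.node 508 .nil .nil) (.node 668 .nil .nil))))) (.node 882 (.node 768 (.node 1049 (.node 1039 (.node 304 (.node 60 .nil .nil) .nil) (.node 216 .nil .nil)) (.node 416 (.node 348 (.node 156 .nil .nil) .nil) (.node 1130 .nil .nil))) (.node 700 (.node 460 (.node 1103 (.node 928 .nil .nil) .nil) (.node 492 .nil .nil)) (.node 256 (.node 252 .nil .nil) (.node 224 .nil .nil)))) (.node 139 (.node 446 (.node 544 (.node 204 (.node 956 .nil .nil) .nil) (.node 992 .nil .nil)) (.node 96 (.node 576 (.node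 621 .nil .nil) .nil) (.node 1214 .nil .nil))) (.node 123 (.node 1184 (.node 28 (.node 300 .nil .nil) .nil) (.node 92 .nil .nil)) (.node 991 (.node 396 .nil .nil) (.node 512 .nil .nil)))))) (.node 1157 (.node 915 (.node 1014 (.node 469 (.node 276 (.node 636 (.node 181 .nil .nil) .nil) (.node 971 .nil .nil)) (.node 170 (.node 1228 (.node 903 .nil .nil) .nil) (.node 411 .nil .nil))) (.node 1110 (.node 1067 (.node 572 (.node 840 .nil .nil) .nil) (.node 1081 .nil .nil)) (.node 747 (.node 73 (.node 10 .nil .nil) .nil) (.node 539 .nil .nil)))) (.node 726 (.node 853 (.node 822 (.node 1177 (.node 680 .nil .nil) .nil) (.node 647 .nil .nil)) (.node 874 (.node 795 (.node 764 .nil .nil) .nil) (.node 330 .nil .nil))) (.node 1142 (.node 379 (.node 809 (.node 363 .nil .nil) .nil) (.node 711 .nil .nil)) (.node 41 (.node 504 .nil .nil) (.node 666 .nil .nil))))) (.node 887 (.node 773 (.node 1046 (.node 1031 (.node 314 (.node 55 .nil .nil) .nil) (.node 215 .nil .nil)) (.node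 425 (.node 346 (.node 152 .nil .nil) .nil) (.node 1132 .nil .nil))) (.node 693 (.node 458 (.node 1096 (.node 939 .nil .nil) .nil) (.node 488 .nil .nil)) (.node 266 (.node 250 .nil .nil) (.node 234 .nil .nil)))) (.node 132 (.node 438 (.node 555 (.node 201 (.node 955 .nil .nil) .nil) (.node 1001 .nil .nil)) (.node 106 (.node 588 (.node 613 .nil .nil) .nil) (.node 1213 .nil .nil))) (.node 117 (.node 1196 (.node 26 (.node 292 .nil .nil) .nil) (.node 85 .nil .nil)) (.node 987 (.node 393 .nil .nil) (.node 521 .nil .nil)))))))) (.node 602 (.node 600 (.node 1166 (.node 926 (.node 1021 (.node 477 (.node 287 (.node 639 (.node 191 .nil .nil) .nil) (.node 974 .nil .nil)) (.node 173 (.node 1216 (.node 909 .nil .nil) .nil) (.node 413 .nil .nil))) (.node 1118 (.node 1070 (.node 573 (.node 847 .nil .nil) .nil) (.node 1086 .nil .nil)) (.node 751 (.node 77 (.node 13 .nil .nil) .nil) (.node 528 .nil .nil)))) (.node 735 (.node 863 (.node 831 (.node 1183 (.node 686 .nil .nil)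 .nil) (.node 655 .nil .nil)) (.node 879 (.node 799 (.node 767 .nil .nil) .nil) (.node 335 .nil .nil))) (.node 1136 (.node 381 (.node 814 (.node 365 .nil .nil) .nil) (.node 718 .nil .nil)) (.node 44 (.node 509 .nil .nil) (.node 670 .nil .nil))))) (.node 880 (.node 782 (.node 1053 (.node 1037 (.node 319 (.node 63 .nil .nil) .nil) (.node 220 .nil .nil)) (.node 431 (.node 349 (.node 159 .nil .nil) .nil) (.node 1134 .nil .nil))) (.node 701 (.node 461 (.node 1088 (.node 942 .nil .nil) .nil) (.node 495 .nil .nil)) (.node 269 (.node 255 .nil .nil) (.node 237 .nil .nil)))) (.node 141 (.node 447 (.node 559 (.node 207 (.node 957 .nil .nil) .nil) (.node 1006 .nil .nil)) (.node 109 (.node 591 (.node 623 .nil .nil) .nil) (.node 1215 .nil .nil))) (.node 125 (.node 1199 (.node 31 (.node 303 .nil .nil) .nil) (.node 95 .nil .nil)) (.node 989 (.node 397 .nil .nil) (.node 527 .nil .nil)))))) (.node 1161 (.node 920 (.node 1017 (.node 475 (.node 283 (.node 631 (.node 179 .nil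 .nil) .nil) (.node 962 .nil .nil)) (.node 164 (.node 1229 (.node 899 .nil .nil) .nil) (.node 412 .nil .nil))) (.node 1108 (.node 1068 (.node 565 (.node 837 .nil .nil) .nil) (.node 1078 .nil .nil)) (.node 748 (.node 69 (.node 8 .nil .nil) .nil) (.node 535 .nil .nil)))) (.node 730 (.node 860 (.node 823 (.node 1179 (.node 677 .nil .nil) .nil) (.node 642 .nil .nil)) (.node 868 (.node 796 (.node 755 .nil .nil) .nil) (.node 331 .nil .nil))) (.node 1149 (.node 373 (.node 807 (.node 355 .nil .nil) .nil) (.node 714 .nil .nil)) (.node 42 (.node 501 .nil .nil) (.node 659 .nil .nil))))) (.node 890 (.node 777 (.node 1052 (.node 1032 (.node 308 (.node 51 .nil .nil) .nil) (.node 213 .nil .nil)) (.node 421 (.node 347 (.node 145 .nil .nil) .nil) (.node 1133 .nil .nil))) (.node 699 (.node 459 (.node 1094 (.node 932 .nil .nil) .nil) (.node 483 .nil .nil)) (.node 267 (.node 249 .nil .nil) (.node 229 .nil .nil)))) (.node 135 (.node 439 (.node 556 (.node 195 (.node 947 .nil .nil)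 .nil) (.node 996 .nil .nil)) (.node 102 (.node 581 (.node 618 .nil .nil) .nil) (.node 1206 .nil .nil))) (.node 122 (.node 1190 (.node 24 (.node 293 .nil .nil) .nil) (.node 89 .nil .nil)) (.node 982 (.node 395 .nil .nil) (.node 515 .nil .nil))))))) (.node 592 (.node 1156 (.node 927 (.node 1010 (.node 466 (.node 281 (.node 626 (.node 187 .nil .nil) .nil) (.node 969 .nil .nil)) (.node 174 (.node 1221 (.node 904 .nil .nil) .nil) (.node 403 .nil .nil))) (.node 1114 (.node 1058 (.node 562 (.node 841 .nil .nil) .nil) (.node 1073 .nil .nil)) (.node 740 (.node 78 (.node 14 .nil .nil) .nil) (.node 530 .nil .nil)))) (.node 732 (.node 858 (.node 818 (.node 1178 (.node 674 .nil .nil) .nil) (.node 652 .nil .nil)) (.node 865 (.node 784 (.node 763 .nil .nil) .nil) (.node 334 .nil .nil))) (.node 1138 (.node 377 (.node 802 (.node 353 .nil .nil) .nil) (.node 713 .nil .nil)) (.node 34 (.node 505 .nil .nil) (.node 657 .nil .nil))))) (.node 886 (.node 770 (.node 1043 (.node 1027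 (.node 318 (.node 62 .nil .nil) .nil) (.node 209 .nil .nil)) (.node 426 (.node 337 (.node 158 .nil .nil) .nil) (.node 1122 .nil .nil))) (.node 690 (.node 456 (.node 1090 (.node 943 .nil .nil) .nil) (.node 489 .nil .nil)) (.node 265 (.node 254 .nil .nil) (.node 232 .nil .nil)))) (.node 136 (.node 433 (.node 546 (.node 203 (.node 953 .nil .nil) .nil) (.node 1007 .nil .nil)) (.node 110 (.node 586 (.node 617 .nil .nil) .nil) (.node 1202 .nil .nil))) (.node 113 (.node 1186 (.node 30 (.node 302 .nil .nil) .nil) (.node 91 .nil .nil)) (.node 977 (.node 394 .nil .nil) (.node 526 .nil .nil)))))) (.node 1152 (.node 913 (.node 1009 (.node 464 (.node 272 (.node 625 (.node 182 .nil .nil) .nil) (.node 966 .nil .nil)) (.node 161 (.node 1224 (.node 900 .nil .nil) .nil) (.node 407 .nil .nil))) (.node 1105 (.node 1056 (.node 561 (.node 836 .nil .nil) .nil) (.node 1077 .nil .nil)) (.node 736 (.node 70 (.node 9 .nil .nil) .nil) (.node 536 .nil .nil)))) (.node 721 (.node 849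 (.node 817 (.node 1169 (.node 678 .nil .nil) .nil) (.node 644 .nil .nil)) (.node 864 (.node 789 (.node 757 .nil .nil) .nil) (.node 325 .nil .nil))) (.node 1137 (.node 369 (.node 801 (.node 357 .nil .nil) .nil) (.node 710 .nil .nil)) (.node 33 (.node 502 .nil .nil) (.node 662 .nil .nil))))) (.node 881 (.node 769 (.node 1041 (.node 1025 (.node 305 (.node 52 .nil .nil) .nil) (.node 214 .nil .nil)) (.node 417 (.node 343 (.node 147 .nil .nil) .nil) (.node 1126 .nil .nil))) (.node 689 (.node 449 (.node 1089 (.node 934 .nil .nil) .nil) (.node 485 .nil .nil)) (.node 257 (.node 246 .nil .nil) (.node 230 .nil .nil)))) (.node 128 (.node 432 (.node 545 (.node 193 (.node 950 .nil .nil) .nil) (.node 998 .nil .nil)) (.node 97 (.node 582 (.node 619 .nil .nil) .nil) (.node 1207 .nil .nil))) (.node 112 (.node 1185 (.node 16 (.node 299 .nil .nil) .nil) (.node 88 .nil .nil)) (.node 976 (.node 391 .nil .nil) (.node 518 .nil .nil)))))))))),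
    (.node 640 (.node 654 (.node 644 (.node 651 (.node 655 (.node 495 (.node 31 (.node 143 (.node 735 (.node 895 (.node 914 .nil .nil) .nil) (.node 687 .nil .nil)) (.node 575 (.node 399 (.node 1044 .nil .nil) .nil) (.node 415 .nil .nil))) (.node 111 (.node 79 (.node 351 (.node 1219 .nil .nil) .nil) (.node 543 .nil .nil)) (.node 127 (.node 239 (.node 957 .nil .nil) .nil) (.node 1091 .nil .nil)))) (.node 719 (.node 879 (.node 479 (.node 431 (.node 1011 .nil .nil) .nil) (.node 671 .nil .nil)) (.node 175 (.node 63 (.node 909 .nil .nil) .nil) (.node 1107 .nil .nil))) (.node 751 (.node 783 (.node 607 (.node 1140 .nil .nil) .nil) (.node 335 .nil .nil)) (.node 447 (.node 191 .nil .nil) (.node 961 .nil .nil))))) (.node 591 (.node 863 (.node 287 (.node 255 (.node 383 (.node 1028 .nil .nil) .nil) (.node 527 .nil .nil)) (.node 703 (.node 847 (.node 1134 .nil .nil) .nil) (.node 1188 .nil .nil))) (.node 511 (.node 463 (.node 831 (.node 1074 .nil .nil) .nil) (.node 623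 .nil .nil)) (.node 319 (.node 767 (.node 1208 .nil .nil) .nil) (.node 1154 .nil .nil)))) (.node 271 (.node 207 (.node 95 (.node 639 (.node 979 .nil .nil) .nil) (.node 15 .nil .nil)) (.node 47 (.node 303 (.node 941 .nil .nil) .nil) (.node 995 .nil .nil))) (.node 559 (.node 223 (.node 815 (.node 1059 .nil .nil) .nil) (.node 367 .nil .nil)) (.node 799 (.node 159 .nil .nil) (.node 1172 .nil .nil)))))) (.node 491 (.node 587 (.node 861 (.node 282 (.node 242 (.node 370 (.node 1033 .nil .nil) .nil) (.node 513 .nil .nil)) (.node 689 (.node 842 (.node 1120 .nil .nil) .nil) (.node 1195 .nil .nil))) (.node 497 (.node 460 (.node 818 (.node 1073 .nil .nil) .nil) (.node 621 .nil .nil)) (.node 313 (.node 756 (.node 1204 .nil .nil) .nil) (.node 1153 .nil .nil)))) (.node 257 (.node 193 (.node 91 (.node 625 (.node 978 .nil .nil) .nil) (.node 2 .nil .nil)) (.node 34 (.node 291 (.node 929 .nil .nil) .nil) (.node 996 .nil .nil))) (.node 546 (.node 209 (.node 803 (.node 1058 .nil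 .nil) .nil) (.node 352 .nil .nil)) (.node 797 (.node 144 .nil .nil) (.node 1171 .nil .nil))))) (.node 24 (.node 716 (.node 877 (.node 476 (.node 420 (.node 1013 .nil .nil) .nil) (.node 668 .nil .nil)) (.node 161 (.node 59 (.node 898 .nil .nil) .nil) (.node 1117 .nil .nil))) (.node 746 (.node 769 (.node 605 (.node 1137 .nil .nil) .nil) (.node 321 .nil .nil)) (.node 432 (.node 177 .nil .nil) (.node 972 .nil .nil)))) (.node 128 (.node 99 (.node 75 (.node 343 (.node 1218 .nil .nil) .nil) (.node 533 .nil .nil)) (.node 116 (.node 225 (.node 945 .nil .nil) .nil) (.node 1101 .nil .nil))) (.node 723 (.node 563 (.node 389 (.node 1045 .nil .nil) .nil) (.node 407 .nil .nil)) (.node 883 (.node 673 .nil .nil) (.node 913 .nil .nil))))))) (.node 648 (.node 488 (.node 580 (.node 854 (.node 280 (.node 241 (.node 373 (.node 1026 .nil .nil) .nil) (.node 517 .nil .nil)) (.node 693 (.node 840 (.node 1125 .nil .nil) .nil) (.node 1190 .nil .nil))) (.node 501 (.node 455 (.node 823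 (.node 1077 .nil .nil) .nil) (.node 613 .nil .nil)) (.node 306 (.node 757 (.node 1205 .nil .nil) .nil) (.node 1161 .nil .nil)))) (.node 258 (.node 197 (.node 81 (.node 630 (.node 981 .nil .nil) .nil) (.node 1 .nil .nil)) (.node 38 (.node 290 (.node 930 .nil .nil) .nil) (.node 993 .nil .nil))) (.node 554 (.node 213 (.node 807 (.node 1065 .nil .nil) .nil) (.node 357 .nil .nil)) (.node 788 (.node 148 .nil .nil) (.node 1174 .nil .nil))))) (.node 19 (.node 710 (.node 871 (.node 470 (.node 418 (.node 1010 .nil .nil) .nil) (.node 662 .nil .nil)) (.node 162 (.node 51 (.node 897 .nil .nil) .nil) (.node 1111 .nil .nil))) (.node 742 (.node 774 (.node 600 (.node 1142 .nil .nil) .nil) (.node 324 .nil .nil)) (.node 438 (.node 178 .nil .nil) (.node 964 .nil .nil)))) (.node 132 (.node 98 (.node 68 (.node 337 (.node 1223 .nil .nil) .nil) (.node 534 .nil .nil)) (.node 117 (.node 228 (.node 949 .nil .nil) .nil) (.node 1094 .nil .nil))) (.node 726 (.node 567 (.node 385 (.node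 1042 .nil .nil) .nil) (.node 402 .nil .nil)) (.node 890 (.node 677 .nil .nil) (.node 915 .nil .nil)))))) (.node 489 (.node 586 (.node 858 (.node 281 (.node 250 (.node 379 (.node 1036 .nil .nil) .nil) (.node 515 .nil .nil)) (.node 692 (.node 843 (.node 1128 .nil .nil) .nil) (.node 1196 .nil .nil))) (.node 505 (.node 458 (.node 820 (.node 1080 .nil .nil) .nil) (.node 616 .nil .nil)) (.node 314 (.node 761 (.node 1203 .nil .nil) .nil) (.node 1163 .nil .nil)))) (.node 265 (.node 202 (.node 87 (.node 633 (.node 983 .nil .nil) .nil) (.node 5 .nil .nil)) (.node 36 (.node 299 (.node 932 .nil .nil) .nil) (.node 1003 .nil .nil))) (.node 555 (.node 218 (.node 808 (.node 1060 .nil .nil) .nil) (.node 363 .nil .nil)) (.node 795 (.node 151 .nil .nil) (.node 1176 .nil .nil))))) (.node 23 (.node 713 (.node 875 (.node 474 (.node 424 (.node 1016 .nil .nil) .nil) (.node 663 .nil .nil)) (.node 168 (.node 57 (.node 899 .nil .nil) .nil) (.node 1116 .nil .nil))) (.node 747 (.node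 780 (.node 599 (.node 1141 .nil .nil) .nil) (.node 327 .nil .nil)) (.node 444 (.node 184 .nil .nil) (.node 968 .nil .nil)))) (.node 136 (.node 105 (.node 73 (.node 339 (.node 1220 .nil .nil) .nil) (.node 532 .nil .nil)) (.node 122 (.node 234 (.node 955 .nil .nil) .nil) (.node 1099 .nil .nil))) (.node 731 (.node 569 (.node 388 (.node 1050 .nil .nil) .nil) (.node 412 .nil .nil)) (.node 893 (.node 683 .nil .nil) (.node 919 .nil .nil)))))))) (.node 652 (.node 646 (.node 480 (.node 590 (.node 850 (.node 285 (.node 254 (.node 382 (.node 1039 .nil .nil) .nil) (.node 526 .nil .nil)) (.node 702 (.node 836 (.node 1121 .nil .nil) .nil) (.node 1199 .nil .nil))) (.node 510 (.node 462 (.node 830 (.node 1087 .nil .nil) .nil) (.node 622 .nil .nil)) (.node 318 (.node 766 (.node 1215 .nil .nil) .nil) (.node 1157 .nil .nil)))) (.node 270 (.node 206 (.node 94 (.node 638 (.node 990 .nil .nil) .nil) (.node 14 .nil .nil)) (.node 46 (.node 302 (.node 943 .nil .nil) .nil) (.node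 1007 .nil .nil))) (.node 558 (.node 221 (.node 814 (.node 1070 .nil .nil) .nil) (.node 365 .nil .nil)) (.node 784 (.node 157 .nil .nil) (.node 1183 .nil .nil))))) (.node 29 (.node 718 (.node 870 (.node 465 (.node 430 (.node 1023 .nil .nil) .nil) (.node 657 .nil .nil)) (.node 174 (.node 61 (.node 911 .nil .nil) .nil) (.node 1119 .nil .nil))) (.node 737 (.node 782 (.node 596 (.node 1151 .nil .nil) .nil) (.node 334 .nil .nil)) (.node 445 (.node 190 .nil .nil) (.node 974 .nil .nil)))) (.node 141 (.node 110 (.node 78 (.node 350 (.node 1217 .nil .nil) .nil) (.node 542 .nil .nil)) (.node 125 (.node 238 (.node 959 .nil .nil) .nil) (.node 1103 .nil .nil))) (.node 734 (.node 574 (.node 398 (.node 1055 .nil .nil) .nil) (.node 414 .nil .nil)) (.node 882 (.node 686 .nil .nil) (.node 927 .nil .nil)))))) (.node 487 (.node 584 (.node 857 (.node 275 (.node 251 (.node 378 (.node 1025 .nil .nil) .nil) (.node 522 .nil .nil)) (.node 698 (.node 835 (.node 1131 .nil .nil) .nil)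 (.node 1189 .nil .nil))) (.node 506 (.node 459 (.node 827 (.node 1085 .nil .nil) .nil) (.node 620 .nil .nil)) (.node 308 (.node 764 (.node 1214 .nil .nil) .nil) (.node 1164 .nil .nil)))) (.node 267 (.node 195 (.node 90 (.node 637 (.node 986 .nil .nil) .nil) (.node 8 .nil .nil)) (.node 40 (.node 292 (.node 940 .nil .nil) .nil) (.node 1004 .nil .nil))) (.node 548 (.node 219 (.node 812 (.node 1066 .nil .nil) .nil) (.node 364 .nil .nil)) (.node 796 (.node 153 .nil .nil) (.node 1179 .nil .nil))))) (.node 22 (.node 708 (.node 868 (.node 475 (.node 427 (.node 1020 .nil .nil) .nil) (.node 667 .nil .nil)) (.node 169 (.node 50 (.node 905 .nil .nil) .nil) (.node 1108 .nil .nil))) (.node 739 (.node 779 (.node 604 (.node 1150 .nil .nil) .nil) (.node 332 .nil .nil)) (.node 436 (.node 187 .nil .nil) (.node 971 .nil .nil)))) (.node 137 (.node 106 (.node 67 (.node 348 (.node 1227 .nil .nil) .nil) (.node 531 .nil .nil)) (.node 114 (.node 235 (.node 956 .nil .nil) .nil) (.node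 1100 .nil .nil))) (.node 725 (.node 572 (.node 396 (.node 1043 .nil .nil) .nil) (.node 403 .nil .nil)) (.node 894 (.node 684 .nil .nil) (.node 921 .nil .nil))))))) (.node 653 (.node 481 (.node 585 (.node 852 (.node 272 (.node 246 (.node 374 (.node 1032 .nil .nil) .nil) (.node 518 .nil .nil)) (.node 696 (.node 834 (.node 1126 .nil .nil) .nil) (.node 1185 .nil .nil))) (.node 502 (.node 449 (.node 821 (.node 1081 .nil .nil) .nil) (.node 612 .nil .nil)) (.node 305 (.node 762 (.node 1210 .nil .nil) .nil) (.node 1156 .nil .nil)))) (.node 262 (.node 201 (.node 88 (.node 634 (.node 984 .nil .nil) .nil) (.node 4 .nil .nil)) (.node 37 (.node 293 (.node 935 .nil .nil) .nil) (.node 1001 .nil .nil))) (.node 549 (.node 214 (.node 806 (.node 1061 .nil .nil) .nil) (.node 360 .nil .nil)) (.node 789 (.node 149 .nil .nil) (.node 1173 .nil .nil))))) (.node 17 (.node 709 (.node 864 (.node 464 (.node 425 (.node 1017 .nil .nil) .nil) (.node 656 .nil .nil)) (.node 167 (.node 52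 (.node 903 .nil .nil) .nil) (.node 1105 .nil .nil))) (.node 740 (.node 775 (.node 595 (.node 1147 .nil .nil) .nil) (.node 325 .nil .nil)) (.node 440 (.node 181 .nil .nil) (.node 966 .nil .nil)))) (.node 133 (.node 102 (.node 70 (.node 342 (.node 1224 .nil .nil) .nil) (.node 537 .nil .nil)) (.node 121 (.node 230 (.node 950 .nil .nil) .nil) (.node 1093 .nil .nil))) (.node 727 (.node 566 (.node 393 (.node 1047 .nil .nil) .nil) (.node 406 .nil .nil)) (.node 886 (.node 678 .nil .nil) (.node 920 .nil .nil)))))) (.node 493 (.node 589 (.node 862 (.node 284 (.node 252 (.node 375 (.node 1034 .nil .nil) .nil) (.node 519 .nil .nil)) (.node 701 (.node 838 (.node 1130 .nil .nil) .nil) (.node 1192 .nil .nil))) (.node 509 (.node 461 (.node 825 (.node 1082 .nil .nil) .nil) (.node 617 .nil .nil)) (.node 310 (.node 760 (.node 1213 .nil .nil) .nil) (.node 1160 .nil .nil)))) (.node 268 (.node 204 (.node 92 (.node 632 (.node 985 .nil .nil) .nil) (.node 7 .nil .nil)) (.node 44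 (.node 294 (.node 938 .nil .nil) .nil) (.node 999 .nil .nil))) (.node 557 (.node 220 (.node 810 (.node 1067 .nil .nil) .nil) (.node 361 .nil .nil)) (.node 790 (.node 150 .nil .nil) (.node 1175 .nil .nil))))) (.node 28 (.node 717 (.node 878 (.node 477 (.node 423 (.node 1018 .nil .nil) .nil) (.node 664 .nil .nil)) (.node 172 (.node 53 (.node 904 .nil .nil) .nil) (.node 1112 .nil .nil))) (.node 749 (.node 781 (.node 601 (.node 1148 .nil .nil) .nil) (.node 329 .nil .nil)) (.node 441 (.node 183 .nil .nil) (.node 967 .nil .nil)))) (.node 140 (.node 108 (.node 76 (.node 344 (.node 1228 .nil .nil) .nil) (.node 538 .nil .nil)) (.node 124 (.node 231 (.node 951 .nil .nil) .nil) (.node 1095 .nil .nil))) (.node 733 (.node 573 (.node 394 (.node 1051 .nil .nil) .nil) (.node 408 .nil .nil)) (.node 889 (.node 679 .nil .nil) (.node 918 .nil .nil))))))))) (.node 647 (.node 643 (.node 642 (.node 494 (.node 576 (.node 848 (.node 286 (.node 240 (.node 368 (.node 1024 .nil .nil)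 .nil) (.node 512 .nil .nil)) (.node 688 (.node 832 (.node 1135 .nil .nil) .nil) (.node 1184 .nil .nil))) (.node 496 (.node 448 (.node 816 (.node 1072 .nil .nil) .nil) (.node 608 .nil .nil)) (.node 304 (.node 752 (.node 1200 .nil .nil) .nil) (.node 1167 .nil .nil)))) (.node 256 (.node 192 (.node 80 (.node 624 (.node 991 .nil .nil) .nil) (.node 0 .nil .nil)) (.node 32 (.node 288 (.node 928 .nil .nil) .nil) (.node 992 .nil .nil))) (.node 544 (.node 222 (.node 800 (.node 1071 .nil .nil) .nil) (.node 366 .nil .nil)) (.node 798 (.node 158 .nil .nil) (.node 1168 .nil .nil))))) (.node 30 (.node 704 (.node 865 (.node 478 (.node 416 (.node 1008 .nil .nil) .nil) (.node 670 .nil .nil)) (.node 160 (.node 62 (.node 896 .nil .nil) .nil) (.node 1104 .nil .nil))) (.node 750 (.node 768 (.node 606 (.node 1136 .nil .nil) .nil) (.node 320 .nil .nil)) (.node 446 (.node 176 .nil .nil) (.node 975 .nil .nil)))) (.node 142 (.node 96 (.node 64 (.node 336 (.node 1216 .nil .nil) .nil)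 (.node 528 .nil .nil)) (.node 126 (.node 224 (.node 944 .nil .nil) .nil) (.node 1088 .nil .nil))) (.node 720 (.node 560 (.node 384 (.node 1040 .nil .nil) .nil) (.node 400 .nil .nil)) (.node 880 (.node 672 .nil .nil) (.node 912 .nil .nil)))))) (.node 483 (.node 579 (.node 860 (.node 283 (.node 249 (.node 380 (.node 1030 .nil .nil) .nil) (.node 524 .nil .nil)) (.node 700 (.node 844 (.node 1122 .nil .nil) .nil) (.node 1197 .nil .nil))) (.node 508 (.node 457 (.node 829 (.node 1083 .nil .nil) .nil) (.node 618 .nil .nil)) (.node 315 (.node 754 (.node 1201 .nil .nil) .nil) (.node 1165 .nil .nil)))) (.node 259 (.node 203 (.node 89 (.node 627 (.node 988 .nil .nil) .nil) (.node 11 .nil .nil)) (.node 43 (.node 298 (.node 931 .nil .nil) .nil) (.node 994 .nil .nil))) (.node 556 (.node 217 (.node 813 (.node 1069 .nil .nil) .nil) (.node 354 .nil .nil)) (.node 794 (.node 155 .nil .nil) (.node 1181 .nil .nil))))) (.node 26 (.node 714 (.node 876 (.node 473 (.node 417 (.node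 1009 .nil .nil) .nil) (.node 665 .nil .nil)) (.node 171 (.node 58 (.node 908 .nil .nil) .nil) (.node 1115 .nil .nil))) (.node 748 (.node 770 (.node 602 (.node 1139 .nil .nil) .nil) (.node 322 .nil .nil)) (.node 434 (.node 179 .nil .nil) (.node 970 .nil .nil)))) (.node 139 (.node 107 (.node 74 (.node 340 (.node 1230 .nil .nil) .nil) (.node 529 .nil .nil)) (.node 112 (.node 233 (.node 946 .nil .nil) .nil) (.node 1098 .nil .nil))) (.node 732 (.node 571 (.node 386 (.node 1041 .nil .nil) .nil) (.node 401 .nil .nil)) (.node 892 (.node 675 .nil .nil) (.node 924 .nil .nil))))))) (.node 645 (.node 484 (.node 581 (.node 855 (.node 277 (.node 245 (.node 376 (.node 1031 .nil .nil) .nil) (.node 521 .nil .nil)) (.node 694 (.node 833 (.node 1129 .nil .nil) .nil) (.node 1191 .nil .nil))) (.node 504 (.node 453 (.node 824 (.node 1078 .nil .nil) .nil) (.node 614 .nil .nil)) (.node 309 (.node 758 (.node 1206 .nil .nil) .nil) (.node 1159 .nil .nil)))) (.node 261 (.node 198 (.node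 85 (.node 631 (.node 982 .nil .nil) .nil) (.node 3 .nil .nil)) (.node 39 (.node 296 (.node 934 .nil .nil) .nil) (.node 997 .nil .nil))) (.node 551 (.node 215 (.node 809 (.node 1062 .nil .nil) .nil) (.node 358 .nil .nil)) (.node 792 (.node 152 .nil .nil) (.node 1177 .nil .nil))))) (.node 16 (.node 711 (.node 869 (.node 471 (.node 421 (.node 1014 .nil .nil) .nil) (.node 660 .nil .nil)) (.node 166 (.node 55 (.node 900 .nil .nil) .nil) (.node 1109 .nil .nil))) (.node 745 (.node 777 (.node 598 (.node 1143 .nil .nil) .nil) (.node 328 .nil .nil)) (.node 439 (.node 180 .nil .nil) (.node 965 .nil .nil)))) (.node 135 (.node 103 (.node 69 (.node 341 (.node 1226 .nil .nil) .nil) (.node 535 .nil .nil)) (.node 118 (.node 229 (.node 952 .nil .nil) .nil) (.node 1096 .nil .nil))) (.node 730 (.node 568 (.node 390 (.node 1046 .nil .nil) .nil) (.node 405 .nil .nil)) (.node 888 (.node 680 .nil .nil) (.node 916 .nil .nil)))))) (.node 486 (.node 583 (.node 856 (.node 278 (.node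 247 (.node 377 (.node 1029 .nil .nil) .nil) (.node 520 .nil .nil)) (.node 697 (.node 841 (.node 1132 .nil .nil) .nil) (.node 1194 .nil .nil))) (.node 503 (.node 456 (.node 826 (.node 1084 .nil .nil) .nil) (.node 619 .nil .nil)) (.node 312 (.node 763 (.node 1209 .nil .nil) .nil) (.node 1162 .nil .nil)))) (.node 263 (.node 199 (.node 86 (.node 636 (.node 987 .nil .nil) .nil) (.node 9 .nil .nil)) (.node 41 (.node 297 (.node 937 .nil .nil) .nil) (.node 1002 .nil .nil))) (.node 552 (.node 216 (.node 811 (.node 1064 .nil .nil) .nil) (.node 355 .nil .nil)) (.node 793 (.node 154 .nil .nil) (.node 1178 .nil .nil))))) (.node 21 (.node 712 (.node 872 (.node 472 (.node 426 (.node 1019 .nil .nil) .nil) (.node 666 .nil .nil)) (.node 170 (.node 56 (.node 906 .nil .nil) .nil) (.node 1114 .nil .nil))) (.node 743 (.node 778 (.node 603 (.node 1146 .nil .nil) .nil) (.node 330 .nil .nil)) (.node 443 (.node 185 .nil .nil) (.node 969 .nil .nil)))) (.node 134 (.node 104 (.node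 72 (.node 346 (.node 1225 .nil .nil) .nil) (.node 539 .nil .nil)) (.node 120 (.node 232 (.node 947 .nil .nil) .nil) (.node 1097 .nil .nil))) (.node 728 (.node 570 (.node 392 (.node 1052 .nil .nil) .nil) (.node 404 .nil .nil)) (.node 891 (.node 682 .nil .nil) (.node 922 .nil .nil)))))))) (.node 649 (.node 650 (.node 485 (.node 577 (.node 853 (.node 276 (.node 253 (.node 381 (.node 1038 .nil .nil) .nil) (.node 514 .nil .nil)) (.node 690 (.node 837 (.node 1124 .nil .nil) .nil) (.node 1186 .nil .nil))) (.node 500 (.node 450 (.node 822 (.node 1086 .nil .nil) .nil) (.node 609 .nil .nil)) (.node 317 (.node 753 (.node 1202 .nil .nil) .nil) (.node 1158 .nil .nil)))) (.node 269 (.node 205 (.node 93 (.node 626 (.node 977 .nil .nil) .nil) (.node 13 .nil .nil)) (.node 45 (.node 301 (.node 942 .nil .nil) .nil) (.node 1006 .nil .nil))) (.node 550 (.node 208 (.node 802 (.node 1057 .nil .nil) .nil) (.node 353 .nil .nil)) (.node 787 (.node 147 .nil .nil) (.node 1170 .nil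 .nil))))) (.node 20 (.node 705 (.node 874 (.node 469 (.node 429 (.node 1022 .nil .nil) .nil) (.node 661 .nil .nil)) (.node 173 (.node 49 (.node 910 .nil .nil) .nil) (.node 1110 .nil .nil))) (.node 741 (.node 773 (.node 597 (.node 1138 .nil .nil) .nil) (.node 333 .nil .nil)) (.node 433 (.node 189 .nil .nil) (.node 960 .nil .nil)))) (.node 129 (.node 109 (.node 77 (.node 349 (.node 1222 .nil .nil) .nil) (.node 530 .nil .nil)) (.node 113 (.node 237 (.node 958 .nil .nil) .nil) (.node 1090 .nil .nil))) (.node 722 (.node 562 (.node 397 (.node 1054 .nil .nil) .nil) (.node 413 .nil .nil)) (.node 887 (.node 674 .nil .nil) (.node 926 .nil .nil)))))) (.node 490 (.node 588 (.node 859 (.node 279 (.node 248 (.node 372 (.node 1027 .nil .nil) .nil) (.node 523 .nil .nil)) (.node 699 (.node 839 (.node 1133 .nil .nil) .nil) (.node 1193 .nil .nil))) (.node 507 (.node 454 (.node 828 (.node 1075 .nil .nil) .nil) (.node 611 .nil .nil)) (.node 311 (.node 755 (.node 1212 .nil .nil)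 .nil) (.node 1155 .nil .nil)))) (.node 266 (.node 200 (.node 84 (.node 635 (.node 980 .nil .nil) .nil) (.node 10 .nil .nil)) (.node 42 (.node 295 (.node 939 .nil .nil) .nil) (.node 1000 .nil .nil))) (.node 553 (.node 211 (.node 805 (.node 1068 .nil .nil) .nil) (.node 362 .nil .nil)) (.node 791 (.node 145 .nil .nil) (.node 1180 .nil .nil))))) (.node 25 (.node 715 (.node 873 (.node 468 (.node 428 (.node 1012 .nil .nil) .nil) (.node 659 .nil .nil)) (.node 164 (.node 54 (.node 907 .nil .nil) .nil) (.node 1113 .nil .nil))) (.node 744 (.node 776 (.node 594 (.node 1149 .nil .nil) .nil) (.node 331 .nil .nil)) (.node 442 (.node 186 .nil .nil) (.node 962 .nil .nil)))) (.node 138 (.node 101 (.node 71 (.node 347 (.node 1229 .nil .nil) .nil) (.node 540 .nil .nil)) (.node 123 (.node 226 (.node 954 .nil .nil) .nil) (.node 1092 .nil .nil))) (.node 729 (.node 565 (.node 395 (.node 1053 .nil .nil) .nil) (.node 410 .nil .nil)) (.node 885 (.node 681 .nil .nil) (.node 923 .nil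 .nil))))))) (.node 641 (.node 492 (.node 582 (.node 849 (.node 273 (.node 244 (.node 369 (.node 1035 .nil .nil) .nil) (.node 516 .nil .nil)) (.node 695 (.node 845 (.node 1123 .nil .nil) .nil) (.node 1187 .nil .nil))) (.node 499 (.node 451 (.node 817 (.node 1076 .nil .nil) .nil) (.node 610 .nil .nil)) (.node 316 (.node 759 (.node 1207 .nil .nil) .nil) (.node 1152 .nil .nil)))) (.node 264 (.node 196 (.node 82 (.node 629 (.node 976 .nil .nil) .nil) (.node 6 .nil .nil)) (.node 33 (.node 289 (.node 933 .nil .nil) .nil) (.node 998 .nil .nil))) (.node 545 (.node 212 (.node 801 (.node 1056 .nil .nil) .nil) (.node 356 .nil .nil)) (.node 785 (.node 146 .nil .nil) (.node 1169 .nil .nil))))) (.node 27 (.node 706 (.node 866 (.node 466 (.node 422 (.node 1015 .nil .nil) .nil) (.node 658 .nil .nil)) (.node 165 (.node 48 (.node 901 .nil .nil) .nil) (.node 1106 .nil .nil))) (.node 736 (.node 772 (.node 592 (.node 1144 .nil .nil) .nil) (.node 323 .nil .nil)) (.node 437 (.node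 182 .nil .nil) (.node 963 .nil .nil)))) (.node 131 (.node 97 (.node 65 (.node 345 (.node 1221 .nil .nil) .nil) (.node 536 .nil .nil)) (.node 119 (.node 227 (.node 948 .nil .nil) .nil) (.node 1089 .nil .nil))) (.node 721 (.node 561 (.node 391 (.node 1048 .nil .nil) .nil) (.node 409 .nil .nil)) (.node 881 (.node 676 .nil .nil) (.node 917 .nil .nil)))))) (.node 482 (.node 578 (.node 851 (.node 274 (.node 243 (.node 371 (.node 1037 .nil .nil) .nil) (.node 525 .nil .nil)) (.node 691 (.node 846 (.node 1127 .nil .nil) .nil) (.node 1198 .nil .nil))) (.node 498 (.node 452 (.node 819 (.node 1079 .nil .nil) .nil) (.node 615 .nil .nil)) (.node 307 (.node 765 (.node 1211 .nil .nil) .nil) (.node 1166 .nil .nil)))) (.node 260 (.node 194 (.node 83 (.node 628 (.node 989 .nil .nil) .nil) (.node 12 .nil .nil)) (.node 35 (.node 300 (.node 936 .nil .nil) .nil) (.node 1005 .nil .nil))) (.node 547 (.node 210 (.node 804 (.node 1063 .nil .nil) .nil) (.node 359 .nil .nil)) (.node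 786 (.node 156 .nil .nil) (.node 1182 .nil .nil))))) (.node 18 (.node 707 (.node 867 (.node 467 (.node 419 (.node 1021 .nil .nil) .nil) (.node 669 .nil .nil)) (.node 163 (.node 60 (.node 902 .nil .nil) .nil) (.node 1118 .nil .nil))) (.node 738 (.node 771 (.node 593 (.node 1145 .nil .nil) .nil) (.node 326 .nil .nil)) (.node 435 (.node 188 .nil .nil) (.node 973 .nil .nil)))) (.node 130 (.node 100 (.node 66 (.node 338 (.node 1231 .nil .nil) .nil) (.node 541 .nil .nil)) (.node 115 (.node 236 (.node 953 .nil .nil) .nil) (.node 1102 .nil .nil))) (.node 724 (.node 564 (.node 387 (.node 1049 .nil .nil) .nil) (.node 411 .nil .nil)) (.node 884 (.node 685 .nil .nil) (.node 925 .nil .nil)))))))))),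
    (.node 95 (.node 91 (.node 94 (.node 81 (.node 80 (.node 1184 (.node 1168 (.node 912 (.node 64 (.node 576 (.node 115 .nil .nil) .nil) (.node 0 .nil .nil)) (.node 880 (.node 368 (.node 130 .nil .nil) .nil) (.node 528 .nil .nil))) (.node 304 (.node 96 (.node 160 (.node 210 .nil .nil) .nil) (.node 224 .nil .nil)) (.node 1040 (.node 512 (.node 363 .nil .nil) .nil) (.node 738 .nil .nil)))) (.node 640 (.node 1072 (.node 1008 (.node 624 (.node 467 .nil .nil) .nil) (.node 896 .nil .nil)) (.node 32 (.node 928 (.node 58 .nil .nil) .nil) (.node 274 .nil .nil))) (.node 1216 (.node 496 (.node 1024 (.node 435 .nil .nil) .nil) (.node 176 .nil .nil)) (.node 1104 (.node 320 .nil .nil) (.node 1059 .nil .nil))))) (.node 544 (.node 240 (.node 1136 (.node 448 (.node 192 (.node 593 .nil .nil) .nil) (.node 400 .nil .nil)) (.node 336 (.node 752 (.node 1133 .nil .nil) .nil) (.node 482 .nil .nil))) (.node 416 (.node 256 (.node 384 (.node 867 .nil .nil) .nil) (.node 288 .nil .nil))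 (.node 720 (.node 608 (.node 151 .nil .nil) .nil) (.node 961 .nil .nil)))) (.node 848 (.node 816 (.node 800 (.node 768 (.node 1154 .nil .nil) .nil) (.node 672 .nil .nil)) (.node 688 (.node 832 (.node 667 .nil .nil) .nil) (.node 18 .nil .nil))) (.node 560 (.node 1088 (.node 704 (.node 979 .nil .nil) .nil) (.node 1200 .nil .nil)) (.node 992 (.node 944 .nil .nil) (.node 786 .nil .nil)))))) (.node 1186 (.node 554 (.node 253 (.node 1147 (.node 456 (.node 202 (.node 606 .nil .nil) .nil) (.node 405 .nil .nil)) (.node 341 (.node 762 (.node 1124 .nil .nil) .nil) (.node 488 .nil .nil))) (.node 426 (.node 269 (.node 394 (.node 875 .nil .nil) .nil) (.node 301 .nil .nil)) (.node 730 (.node 618 (.node 153 .nil .nil) .nil) (.node 969 .nil .nil)))) (.node 853 (.node 822 (.node 814 (.node 773 (.node 1162 .nil .nil) .nil) (.node 681 .nil .nil)) (.node 697 (.node 841 (.node 661 .nil .nil) .nil) (.node 24 .nil .nil))) (.node 570 (.node 1097 (.node 713 (.node 985 .nil .nil)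 .nil) (.node 1205 .nil .nil)) (.node 1006 (.node 953 .nil .nil) (.node 793 .nil .nil))))) (.node 1177 (.node 654 (.node 1086 (.node 1022 (.node 635 (.node 473 .nil .nil) .nil) (.node 910 .nil .nil)) (.node 38 (.node 942 (.node 56 .nil .nil) .nil) (.node 285 .nil .nil))) (.node 1226 (.node 500 (.node 1038 (.node 438 .nil .nil) .nil) (.node 180 .nil .nil)) (.node 1110 (.node 324 .nil .nil) (.node 1070 .nil .nil)))) (.node 915 (.node 312 (.node 109 (.node 174 (.node 216 .nil .nil) .nil) (.node 233 .nil .nil)) (.node 1050 (.node 517 (.node 357 .nil .nil) .nil) (.node 750 .nil .nil))) (.node 72 (.node 891 (.node 378 (.node 137 .nil .nil) .nil) (.node 542 .nil .nil)) (.node 586 (.node 3 .nil .nil) (.node 117 .nil .nil))))))) (.node 86 (.node 1190 (.node 551 (.node 244 (.node 1143 (.node 458 (.node 196 (.node 603 .nil .nil) .nil) (.node 407 .nil .nil)) (.node 343 (.node 758 (.node 1123 .nil .nil) .nil) (.node 484 .nil .nil))) (.node 420 (.node 262 (.node 389 (.node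 871 .nil .nil) .nil) (.node 293 .nil .nil)) (.node 731 (.node 614 (.node 149 .nil .nil) .nil) (.node 965 .nil .nil)))) (.node 859 (.node 824 (.node 811 (.node 775 (.node 1159 .nil .nil) .nil) (.node 682 .nil .nil)) (.node 695 (.node 843 (.node 666 .nil .nil) .nil) (.node 25 .nil .nil))) (.node 568 (.node 1093 (.node 709 (.node 982 .nil .nil) .nil) (.node 1207 .nil .nil)) (.node 996 (.node 948 .nil .nil) (.node 789 .nil .nil))))) (.node 1179 (.node 644 (.node 1087 (.node 1013 (.node 636 (.node 474 .nil .nil) .nil) (.node 911 .nil .nil)) (.node 41 (.node 933 (.node 57 .nil .nil) .nil) (.node 286 .nil .nil))) (.node 1221 (.node 499 (.node 1032 (.node 440 .nil .nil) .nil) (.node 182 .nil .nil)) (.node 1111 (.node 330 .nil .nil) (.node 1062 .nil .nil)))) (.node 917 (.node 314 (.node 103 (.node 170 (.node 212 .nil .nil) .nil) (.node 230 .nil .nil)) (.node 1048 (.node 518 (.node 356 .nil .nil) .nil) (.node 740 .nil .nil))) (.node 70 (.node 888 (.node 379 (.node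 138 .nil .nil) .nil) (.node 539 .nil .nil)) (.node 581 (.node 2 .nil .nil) (.node 119 .nil .nil)))))) (.node 1192 (.node 552 (.node 247 (.node 1145 (.node 461 (.node 204 (.node 600 .nil .nil) .nil) (.node 404 .nil .nil)) (.node 339 (.node 765 (.node 1122 .nil .nil) .nil) (.node 493 .nil .nil))) (.node 423 (.node 268 (.node 388 (.node 866 .nil .nil) .nil) (.node 291 .nil .nil)) (.node 733 (.node 610 (.node 145 .nil .nil) .nil) (.node 973 .nil .nil)))) (.node 856 (.node 825 (.node 803 (.node 770 (.node 1153 .nil .nil) .nil) (.node 675 .nil .nil)) (.node 692 (.node 846 (.node 659 .nil .nil) .nil) (.node 28 .nil .nil))) (.node 573 (.node 1102 (.node 706 (.node 980 .nil .nil) .nil) (.node 1202 .nil .nil)) (.node 1005 (.node 946 .nil .nil) (.node 785 .nil .nil))))) (.node 1175 (.node 645 (.node 1079 (.node 1021 (.node 627 (.node 466 .nil .nil) .nil) (.node 898 .nil .nil)) (.node 34 (.node 941 (.node 50 .nil .nil) .nil) (.node 284 .nil .nil))) (.node 1231 (.node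 509 (.node 1027 (.node 436 .nil .nil) .nil) (.node 179 .nil .nil)) (.node 1118 (.node 322 .nil .nil) (.node 1058 .nil .nil)))) (.node 918 (.node 310 (.node 108 (.node 164 (.node 211 .nil .nil) .nil) (.node 226 .nil .nil)) (.node 1042 (.node 525 (.node 353 .nil .nil) .nil) (.node 749 .nil .nil))) (.node 76 (.node 883 (.node 372 (.node 135 .nil .nil) .nil) (.node 530 .nil .nil)) (.node 589 (.node 1 .nil .nil) (.node 114 .nil .nil)))))))) (.node 93 (.node 82 (.node 1196 (.node 545 (.node 250 (.node 1150 (.node 449 (.node 193 (.node 592 .nil .nil) .nil) (.node 401 .nil .nil)) (.node 348 (.node 759 (.node 1132 .nil .nil) .nil) (.node 492 .nil .nil))) (.node 417 (.node 257 (.node 396 (.node 864 .nil .nil) .nil) (.node 289 .nil .nil)) (.node 721 (.node 621 (.node 155 .nil .nil) .nil) (.node 966 .nil .nil)))) (.node 849 (.node 817 (.node 801 (.node 769 (.node 1165 .nil .nil) .nil) (.node 673 .nil .nil)) (.node 689 (.node 833 (.node 656 .nil .nil) .nil) (.node 16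 .nil .nil))) (.node 561 (.node 1101 (.node 716 (.node 988 .nil .nil) .nil) (.node 1214 .nil .nil)) (.node 1003 (.node 956 .nil .nil) (.node 797 .nil .nil))))) (.node 1181 (.node 652 (.node 1076 (.node 1019 (.node 625 (.node 464 .nil .nil) .nil) (.node 906 .nil .nil)) (.node 33 (.node 940 (.node 48 .nil .nil) .nil) (.node 272 .nil .nil))) (.node 1228 (.node 508 (.node 1033 (.node 432 .nil .nil) .nil) (.node 177 .nil .nil)) (.node 1117 (.node 321 .nil .nil) (.node 1069 .nil .nil)))) (.node 924 (.node 305 (.node 97 (.node 161 (.node 218 .nil .nil) .nil) (.node 225 .nil .nil)) (.node 1053 (.node 513 (.node 352 .nil .nil) .nil) (.node 736 .nil .nil))) (.node 75 (.node 881 (.node 369 (.node 128 .nil .nil) .nil) (.node 529 .nil .nil)) (.node 588 (.node 11 .nil .nil) (.node 112 .nil .nil)))))) (.node 1187 (.node 546 (.node 242 (.node 1141 (.node 450 (.node 201 (.node 596 .nil .nil) .nil) (.node 409 .nil .nil)) (.node 345 (.node 755 (.node 1129 .nil .nil) .nil) (.node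 483 .nil .nil))) (.node 425 (.node 258 (.node 393 (.node 865 .nil .nil) .nil) (.node 290 .nil .nil)) (.node 725 (.node 609 (.node 157 .nil .nil) .nil) (.node 960 .nil .nil)))) (.node 850 (.node 820 (.node 802 (.node 782 (.node 1161 .nil .nil) .nil) (.node 680 .nil .nil)) (.node 696 (.node 835 (.node 670 .nil .nil) .nil) (.node 29 .nil .nil))) (.node 565 (.node 1090 (.node 705 (.node 984 .nil .nil) .nil) (.node 1215 .nil .nil)) (.node 993 (.node 952 .nil .nil) (.node 792 .nil .nil))))) (.node 1171 (.node 642 (.node 1075 (.node 1010 (.node 634 (.node 465 .nil .nil) .nil) (.node 897 .nil .nil)) (.node 39 (.node 932 (.node 55 .nil .nil) .nil) (.node 275 .nil .nil))) (.node 1220 (.node 504 (.node 1026 (.node 445 .nil .nil) .nil) (.node 189 .nil .nil)) (.node 1108 (.node 333 .nil .nil) (.node 1057 .nil .nil)))) (.node 920 (.node 306 (.node 101 (.node 173 (.node 215 .nil .nil) .nil) (.node 232 .nil .nil)) (.node 1049 (.node 514 (.node 365 .nil .nil) .nil) (.node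 737 .nil .nil))) (.node 67 (.node 882 (.node 381 (.node 136 .nil .nil) .nil) (.node 538 .nil .nil)) (.node 577 (.node 13 .nil .nil) (.node 121 .nil .nil))))))) (.node 90 (.node 1194 (.node 550 (.node 249 (.node 1142 (.node 462 (.node 206 (.node 595 .nil .nil) .nil) (.node 414 .nil .nil)) (.node 342 (.node 763 (.node 1135 .nil .nil) .nil) (.node 485 .nil .nil))) (.node 430 (.node 261 (.node 395 (.node 870 .nil .nil) .nil) (.node 298 .nil .nil)) (.node 726 (.node 613 (.node 148 .nil .nil) .nil) (.node 970 .nil .nil)))) (.node 852 (.node 823 (.node 807 (.node 774 (.node 1158 .nil .nil) .nil) (.node 676 .nil .nil)) (.node 698 (.node 842 (.node 660 .nil .nil) .nil) (.node 20 .nil .nil))) (.node 571 (.node 1103 (.node 714 (.node 986 .nil .nil) .nil) (.node 1206 .nil .nil)) (.node 1007 (.node 959 .nil .nil) (.node 794 .nil .nil))))) (.node 1178 (.node 649 (.node 1077 (.node 1014 (.node 631 (.node 470 .nil .nil) .nil) (.node 900 .nil .nil)) (.node 46 (.node 943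 (.node 51 .nil .nil) .nil) (.node 276 .nil .nil))) (.node 1227 (.node 510 (.node 1036 (.node 439 .nil .nil) .nil) (.node 190 .nil .nil)) (.node 1119 (.node 323 .nil .nil) (.node 1071 .nil .nil)))) (.node 927 (.node 313 (.node 110 (.node 165 (.node 222 .nil .nil) .nil) (.node 229 .nil .nil)) (.node 1047 (.node 526 (.node 366 .nil .nil) .nil) (.node 746 .nil .nil))) (.node 78 (.node 892 (.node 373 (.node 131 .nil .nil) .nil) (.node 533 .nil .nil)) (.node 587 (.node 14 .nil .nil) (.node 118 .nil .nil)))))) (.node 1197 (.node 556 (.node 251 (.node 1149 (.node 459 (.node 200 (.node 599 .nil .nil) .nil) (.node 408 .nil .nil)) (.node 347 (.node 761 (.node 1127 .nil .nil) .nil) (.node 487 .nil .nil))) (.node 428 (.node 267 (.node 392 (.node 872 .nil .nil) .nil) (.node 294 .nil .nil)) (.node 729 (.node 616 (.node 156 .nil .nil) .nil) (.node 968 .nil .nil)))) (.node 860 (.node 828 (.node 812 (.node 776 (.node 1160 .nil .nil) .nil) (.node 679 .nil .nil)) (.node 699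 (.node 839 (.node 669 .nil .nil) .nil) (.node 22 .nil .nil))) (.node 572 (.node 1100 (.node 712 (.node 989 .nil .nil) .nil) (.node 1208 .nil .nil)) (.node 1000 (.node 951 .nil .nil) (.node 791 .nil .nil))))) (.node 1180 (.node 651 (.node 1085 (.node 1020 (.node 633 (.node 472 .nil .nil) .nil) (.node 902 .nil .nil)) (.node 42 (.node 937 (.node 53 .nil .nil) .nil) (.node 279 .nil .nil))) (.node 1229 (.node 507 (.node 1034 (.node 441 .nil .nil) .nil) (.node 183 .nil .nil)) (.node 1113 (.node 327 .nil .nil) (.node 1064 .nil .nil)))) (.node 923 (.node 315 (.node 106 (.node 168 (.node 220 .nil .nil) .nil) (.node 231 .nil .nil)) (.node 1052 (.node 520 (.node 354 .nil .nil) .nil) (.node 744 .nil .nil))) (.node 74 (.node 894 (.node 375 (.node 140 .nil .nil) .nil) (.node 531 .nil .nil)) (.node 584 (.node 5 .nil .nil) (.node 120 .nil .nil))))))))) (.node 85 (.node 89 (.node 84 (.node 1185 (.node 559 (.node 255 (.node 1137 (.node 463 (.node 207 (.node 607 .nil .nil)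 .nil) (.node 415 .nil .nil)) (.node 351 (.node 767 (.node 1120 .nil .nil) .nil) (.node 495 .nil .nil))) (.node 431 (.node 271 (.node 399 (.node 879 .nil .nil) .nil) (.node 303 .nil .nil)) (.node 735 (.node 623 (.node 159 .nil .nil) .nil) (.node 972 .nil .nil)))) (.node 863 (.node 831 (.node 815 (.node 783 (.node 1152 .nil .nil) .nil) (.node 687 .nil .nil)) (.node 703 (.node 847 (.node 671 .nil .nil) .nil) (.node 31 .nil .nil))) (.node 575 (.node 1089 (.node 719 (.node 976 .nil .nil) .nil) (.node 1201 .nil .nil)) (.node 1004 (.node 945 .nil .nil) (.node 799 .nil .nil))))) (.node 1169 (.node 655 (.node 1084 (.node 1009 (.node 639 (.node 479 .nil .nil) .nil) (.node 908 .nil .nil)) (.node 47 (.node 929 (.node 63 .nil .nil) .nil) (.node 287 .nil .nil))) (.node 1230 (.node 511 (.node 1025 (.node 447 .nil .nil) .nil) (.node 191 .nil .nil)) (.node 1105 (.node 335 .nil .nil) (.node 1056 .nil .nil)))) (.node 913 (.node 319 (.node 111 (.node 175 (.node 223 .nil .nil)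 .nil) (.node 239 .nil .nil)) (.node 1041 (.node 527 (.node 367 .nil .nil) .nil) (.node 751 .nil .nil))) (.node 79 (.node 895 (.node 383 (.node 143 .nil .nil) .nil) (.node 543 .nil .nil)) (.node 591 (.node 15 .nil .nil) (.node 127 .nil .nil)))))) (.node 1189 (.node 548 (.node 241 (.node 1138 (.node 455 (.node 205 (.node 602 .nil .nil) .nil) (.node 413 .nil .nil)) (.node 349 (.node 753 (.node 1130 .nil .nil) .nil) (.node 480 .nil .nil))) (.node 429 (.node 264 (.node 397 (.node 874 .nil .nil) .nil) (.node 296 .nil .nil)) (.node 722 (.node 617 (.node 147 .nil .nil) .nil) (.node 974 .nil .nil)))) (.node 858 (.node 830 (.node 809 (.node 778 (.node 1167 .nil .nil) .nil) (.node 686 .nil .nil)) (.node 702 (.node 840 (.node 664 .nil .nil) .nil) (.node 23 .nil .nil))) (.node 562 (.node 1096 (.node 718 (.node 990 .nil .nil) .nil) (.node 1211 .nil .nil)) (.node 1001 (.node 958 .nil .nil) (.node 798 .nil .nil))))) (.node 1170 (.node 647 (.node 1081 (.node 1017 (.node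 630 (.node 469 .nil .nil) .nil) (.node 903 .nil .nil)) (.node 45 (.node 930 (.node 61 .nil .nil) .nil) (.node 280 .nil .nil))) (.node 1217 (.node 505 (.node 1035 (.node 443 .nil .nil) .nil) (.node 185 .nil .nil)) (.node 1114 (.node 329 .nil .nil) (.node 1065 .nil .nil)))) (.node 926 (.node 317 (.node 98 (.node 169 (.node 221 .nil .nil) .nil) (.node 228 .nil .nil)) (.node 1046 (.node 521 (.node 361 .nil .nil) .nil) (.node 745 .nil .nil))) (.node 77 (.node 890 (.node 377 (.node 132 .nil .nil) .nil) (.node 534 .nil .nil)) (.node 585 (.node 7 .nil .nil) (.node 125 .nil .nil))))))) (.node 87 (.node 1195 (.node 549 (.node 254 (.node 1151 (.node 453 (.node 198 (.node 598 .nil .nil) .nil) (.node 406 .nil .nil)) (.node 340 (.node 757 (.node 1125 .nil .nil) .nil) (.node 494 .nil .nil))) (.node 421 (.node 270 (.node 398 (.node 869 .nil .nil) .nil) (.node 302 .nil .nil)) (.node 727 (.node 612 (.node 146 .nil .nil) .nil) (.node 975 .nil .nil)))) (.node 855 (.node 821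 (.node 806 (.node 772 (.node 1156 .nil .nil) .nil) (.node 678 .nil .nil)) (.node 694 (.node 837 (.node 662 .nil .nil) .nil) (.node 19 .nil .nil))) (.node 574 (.node 1094 (.node 711 (.node 991 .nil .nil) .nil) (.node 1204 .nil .nil)) (.node 997 (.node 949 .nil .nil) (.node 788 .nil .nil))))) (.node 1174 (.node 643 (.node 1083 (.node 1023 (.node 629 (.node 471 .nil .nil) .nil) (.node 905 .nil .nil)) (.node 37 (.node 935 (.node 52 .nil .nil) .nil) (.node 282 .nil .nil))) (.node 1223 (.node 501 (.node 1039 (.node 437 .nil .nil) .nil) (.node 181 .nil .nil)) (.node 1109 (.node 325 .nil .nil) (.node 1061 .nil .nil)))) (.node 916 (.node 318 (.node 102 (.node 167 (.node 213 .nil .nil) .nil) (.node 227 .nil .nil)) (.node 1045 (.node 516 (.node 358 .nil .nil) .nil) (.node 742 .nil .nil))) (.node 69 (.node 886 (.node 374 (.node 133 .nil .nil) .nil) (.node 536 .nil .nil)) (.node 590 (.node 4 .nil .nil) (.node 116 .nil .nil)))))) (.node 1193 (.node 553 (.node 248 (.node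 1146 (.node 454 (.node 199 (.node 594 .nil .nil) .nil) (.node 403 .nil .nil)) (.node 344 (.node 760 (.node 1134 .nil .nil) .nil) (.node 486 .nil .nil))) (.node 424 (.node 263 (.node 386 (.node 878 .nil .nil) .nil) (.node 300 .nil .nil)) (.node 728 (.node 615 (.node 144 .nil .nil) .nil) (.node 967 .nil .nil)))) (.node 857 (.node 826 (.node 808 (.node 781 (.node 1166 .nil .nil) .nil) (.node 685 .nil .nil)) (.node 701 (.node 838 (.node 658 .nil .nil) .nil) (.node 21 .nil .nil))) (.node 569 (.node 1095 (.node 717 (.node 978 .nil .nil) .nil) (.node 1203 .nil .nil)) (.node 999 (.node 957 .nil .nil) (.node 790 .nil .nil))))) (.node 1176 (.node 646 (.node 1080 (.node 1016 (.node 632 (.node 477 .nil .nil) .nil) (.node 909 .nil .nil)) (.node 44 (.node 936 (.node 60 .nil .nil) .nil) (.node 278 .nil .nil))) (.node 1225 (.node 503 (.node 1037 (.node 434 .nil .nil) .nil) (.node 188 .nil .nil)) (.node 1112 (.node 326 .nil .nil) (.node 1063 .nil .nil)))) (.node 919 (.node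 311 (.node 104 (.node 172 (.node 209 .nil .nil) .nil) (.node 236 .nil .nil)) (.node 1043 (.node 519 (.node 355 .nil .nil) .nil) (.node 743 .nil .nil))) (.node 71 (.node 889 (.node 370 (.node 129 .nil .nil) .nil) (.node 532 .nil .nil)) (.node 583 (.node 12 .nil .nil) (.node 124 .nil .nil)))))))) (.node 88 (.node 92 (.node 1191 (.node 555 (.node 246 (.node 1144 (.node 460 (.node 203 (.node 605 .nil .nil) .nil) (.node 411 .nil .nil)) (.node 346 (.node 756 (.node 1126 .nil .nil) .nil) (.node 490 .nil .nil))) (.node 422 (.node 266 (.node 391 (.node 877 .nil .nil) .nil) (.node 299 .nil .nil)) (.node 732 (.node 619 (.node 154 .nil .nil) .nil) (.node 963 .nil .nil)))) (.node 861 (.node 829 (.node 813 (.node 780 (.node 1163 .nil .nil) .nil) (.node 684 .nil .nil)) (.node 700 (.node 845 (.node 668 .nil .nil) .nil) (.node 27 .nil .nil))) (.node 566 (.node 1099 (.node 715 (.node 987 .nil .nil) .nil) (.node 1213 .nil .nil)) (.node 998 (.node 950 .nil .nil) (.node 795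 .nil .nil))))) (.node 1173 (.node 650 (.node 1078 (.node 1015 (.node 637 (.node 476 .nil .nil) .nil) (.node 901 .nil .nil)) (.node 43 (.node 938 (.node 59 .nil .nil) .nil) (.node 277 .nil .nil))) (.node 1224 (.node 502 (.node 1030 (.node 444 .nil .nil) .nil) (.node 187 .nil .nil)) (.node 1116 (.node 332 .nil .nil) (.node 1067 .nil .nil)))) (.node 922 (.node 316 (.node 107 (.node 171 (.node 214 .nil .nil) .nil) (.node 234 .nil .nil)) (.node 1051 (.node 524 (.node 364 .nil .nil) .nil) (.node 747 .nil .nil))) (.node 73 (.node 893 (.node 380 (.node 139 .nil .nil) .nil) (.node 540 .nil .nil)) (.node 582 (.node 9 .nil .nil) (.node 123 .nil .nil)))))) (.node 1198 (.node 557 (.node 252 (.node 1139 (.node 451 (.node 195 (.node 601 .nil .nil) .nil) (.node 402 .nil .nil)) (.node 337 (.node 754 (.node 1121 .nil .nil) .nil) (.node 481 .nil .nil))) (.node 418 (.node 259 (.node 385 (.node 868 .nil .nil) .nil) (.node 292 .nil .nil)) (.node 723 (.node 611 (.node 152 .nil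 .nil) .nil) (.node 962 .nil .nil)))) (.node 862 (.node 818 (.node 805 (.node 777 (.node 1155 .nil .nil) .nil) (.node 674 .nil .nil)) (.node 690 (.node 834 (.node 657 .nil .nil) .nil) (.node 17 .nil .nil))) (.node 563 (.node 1092 (.node 708 (.node 977 .nil .nil) .nil) (.node 1210 .nil .nil)) (.node 994 (.node 947 .nil .nil) (.node 784 .nil .nil))))) (.node 1182 (.node 653 (.node 1073 (.node 1012 (.node 626 (.node 468 .nil .nil) .nil) (.node 899 .nil .nil)) (.node 36 (.node 931 (.node 49 .nil .nil) .nil) (.node 273 .nil .nil))) (.node 1218 (.node 497 (.node 1029 (.node 433 .nil .nil) .nil) (.node 178 .nil .nil)) (.node 1106 (.node 328 .nil .nil) (.node 1060 .nil .nil)))) (.node 925 (.node 308 (.node 99 (.node 162 (.node 208 .nil .nil) .nil) (.node 237 .nil .nil)) (.node 1054 (.node 515 (.node 360 .nil .nil) .nil) (.node 739 .nil .nil))) (.node 65 (.node 885 (.node 376 (.node 141 .nil .nil) .nil) (.node 537 .nil .nil)) (.node 579 (.node 6 .nil .nil) (.node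 113 .nil .nil))))))) (.node 83 (.node 1199 (.node 558 (.node 245 (.node 1148 (.node 457 (.node 197 (.node 597 .nil .nil) .nil) (.node 410 .nil .nil)) (.node 350 (.node 766 (.node 1131 .nil .nil) .nil) (.node 489 .nil .nil))) (.node 427 (.node 265 (.node 390 (.node 876 .nil .nil) .nil) (.node 297 .nil .nil)) (.node 734 (.node 622 (.node 158 .nil .nil) .nil) (.node 964 .nil .nil)))) (.node 854 (.node 827 (.node 810 (.node 779 (.node 1157 .nil .nil) .nil) (.node 677 .nil .nil)) (.node 693 (.node 836 (.node 665 .nil .nil) .nil) (.node 30 .nil .nil))) (.node 567 (.node 1098 (.node 710 (.node 981 .nil .nil) .nil) (.node 1212 .nil .nil)) (.node 1002 (.node 954 .nil .nil) (.node 787 .nil .nil))))) (.node 1183 (.node 648 (.node 1082 (.node 1018 (.node 638 (.node 478 .nil .nil) .nil) (.node 904 .nil .nil)) (.node 40 (.node 934 (.node 62 .nil .nil) .nil) (.node 281 .nil .nil))) (.node 1222 (.node 506 (.node 1031 (.node 446 .nil .nil) .nil) (.node 186 .nil .nil)) (.node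 1115 (.node 334 .nil .nil) (.node 1066 .nil .nil)))) (.node 921 (.node 309 (.node 105 (.node 166 (.node 217 .nil .nil) .nil) (.node 238 .nil .nil)) (.node 1055 (.node 522 (.node 362 .nil .nil) .nil) (.node 741 .nil .nil))) (.node 68 (.node 887 (.node 382 (.node 142 .nil .nil) .nil) (.node 535 .nil .nil)) (.node 580 (.node 8 .nil .nil) (.node 126 .nil .nil)))))) (.node 1188 (.node 547 (.node 243 (.node 1140 (.node 452 (.node 194 (.node 604 .nil .nil) .nil) (.node 412 .nil .nil)) (.node 338 (.node 764 (.node 1128 .nil .nil) .nil) (.node 491 .nil .nil))) (.node 419 (.node 260 (.node 387 (.node 873 .nil .nil) .nil) (.node 295 .nil .nil)) (.node 724 (.node 620 (.node 150 .nil .nil) .nil) (.node 971 .nil .nil)))) (.node 851 (.node 819 (.node 804 (.node 771 (.node 1164 .nil .nil) .nil) (.node 683 .nil .nil)) (.node 691 (.node 844 (.node 663 .nil .nil) .nil) (.node 26 .nil .nil))) (.node 564 (.node 1091 (.node 707 (.node 983 .nil .nil) .nil) (.node 1209 .nil .nil))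 (.node 995 (.node 955 .nil .nil) (.node 796 .nil .nil))))) (.node 1172 (.node 641 (.node 1074 (.node 1011 (.node 628 (.node 475 .nil .nil) .nil) (.node 907 .nil .nil)) (.node 35 (.node 939 (.node 54 .nil .nil) .nil) (.node 283 .nil .nil))) (.node 1219 (.node 498 (.node 1028 (.node 442 .nil .nil) .nil) (.node 184 .nil .nil)) (.node 1107 (.node 331 .nil .nil) (.node 1068 .nil .nil)))) (.node 914 (.node 307 (.node 100 (.node 163 (.node 219 .nil .nil) .nil) (.node 235 .nil .nil)) (.node 1044 (.node 523 (.node 359 .nil .nil) .nil) (.node 748 .nil .nil))) (.node 66 (.node 884 (.node 371 (.node 134 .nil .nil) .nil) (.node 541 .nil .nil)) (.node 578 (.node 10 .nil .nil) (.node 122 .nil .nil))))))))))]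

/-- a pair with inverses -/
def comX : CO := ⟨978066399602949556096520137846642816, 0, 2⟩

/-- the inverse -/
def comX' : CO := ⟨958649882082228219871572067324767808, 0, 0⟩

/-- the second element -/
def comY : CO := ⟨961959492110618559668036733630847584, 1, 0⟩

/-- the inverse -/
def comY' : CO := ⟨962131645230609556417792757280986336, 2, 2⟩

/-- the exponent -/
def comN : ℕ := 5

/-- the central value -/
def comZ : ℕ × ℕ := (1, 1)

end CfsgLib.KnownB.M22Mult
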