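import Cfsg.Agent.Lib.KnownB.M22Mult.Cover
import Cfsg.Agent.Lib.KnownB.M22Mult.CertData
import Cfsg.Agent.Lib.KnownB.Mult.Levels

/-! The projection of the cover to `M22`, its kernel and the order of the cover. -/

set_option autoImplicit false
set_option maxRecDepth 100000
set_option maxHeartbeats 1000000

namespace CfsgLib.KnownB.M22Mult

open Cfsg CfsgLib.Spor CfsgLib.MathieuOut CfsgLib.Chev CfsgLib.KnownB.Mult
open scoped commutatorElement

theorem lift_check (S : LGr G ℕ) {g : G} {a : ℕ} (hg : S.rep g a) (v : ℕ) (row Q A : Tr ℕ)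
    (hlab : ∀ i j, S.lab i j = scanRow (row.get 0 i) j v)
    (hT : tableOK S.n (S.img a) Q = true) (hE : edgeOK S.n S.m v row Q A = true) :
    ∃ π : Equiv.Perm S.Pts, S.Good g π ∧ S.aE π S.o = (A.get 0 0 : ℕ) := by
  refine S.exists_lift g (fun i => A.get 0 i) fun i j hl => ?_
  rw [hlab] at hl
  obtain ⟨t, ht, e1, e2⟩ := scanRow_ne hl
  have h := List.all_eq_true.1 (List.all_eq_true.1 hE i (List.mem_range.2 i.2)) t (List.mem_range.2 ht)
  simp only [Bool.and_eq_true, Nat.blt_eq, Nat.beq_eq] at h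
  have hQ : ∀ k : Fin S.n, Q.get 0 (k : ℕ) = (S.act g k : ℕ) := fun k => by
    have h' := List.all_eq_true.1 hT k (List.mem_range.2 k.2)
    rw [Nat.beq_eq] at h'
    rw [h', S.img_eq hg]
  have e3 : Nat.shiftRight (row.get 0 (i : ℕ)) (14 * t) % 16384 % 8 =
      Nat.shiftRight (row.get 0 (i : ℕ)) (14 * t) % 8 := Nat.mod_mod_of_dvd _ (by norm_num)
  rw [e1, e3, ← e2, hQ, hQ, ← hlab, ← hlab] at h
  refine ⟨by rw [h.2]; exact Nat.succ_ne_zero _, ?_⟩
  rw [h.2, Nat.cast_add, ZMod.natCast_mod, Nat.cast_add, Nat.cast_add, Nat.cast_add, Nat.cast_mul,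
    Nat.cast_sub (show 1 ≤ S.m from S.m_pos), ZMod.natCast_self, Nat.cast_one]
  ring

theorem edge4_ok (k : ℕ) (hk : k < 3) :
    edgeOK 1232 4 val4 rowT4 (genQ4.getD k .nil) (genA4.getD k .nil) = true := by
  interval_cases k
  · exact edge4a_ok
  · exact edge4b_ok
  · exact edge4c_ok

theorem exists_lift_gen (k : ℕ) (hk : k < 3) : ∃ e : Cov, Rep e (genC.getD k oneC) := by
  obtain ⟨g, hg⟩ := exists_gen k hk
  have hT := List.all_eq_true.1 table_ok k (List.mem_range.2 hk)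
  have hA := List.all_eq_true.1 genLab_ok k (List.mem_range.2 hk)
  have hE := List.all_eq_true.1 edge3_ok k (List.mem_range.2 hk)
  simp only [Bool.and_eq_true, Nat.beq_eq] at hT hA
  obtain ⟨π, hπ, ha⟩ := lift_check L3 hg val3 rowT3 _ _ (fun _ _ => rfl) hT.1 hE
  obtain ⟨ρ, hρ, hb⟩ := lift_check L4 hg val4 rowT4 _ _ (fun _ _ => rfl) hT.2 (edge4_ok k hk)
  exact ⟨⟨(g, π, ρ), hπ, hρ⟩, hg, ha.trans ((ZMod.natCast_eq_natCast_iff' _ _ 3).2 hA.1),
    hb.trans ((ZMod.natCast_eq_natCast_iff' _ _ 4).2 hA.2)⟩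

/-- the projection -/
def proj : Cov →* G :=
  (MonoidHom.fst G (Equiv.Perm (Fin 231 × ZMod 3) × Equiv.Perm (Fin 1232 × ZMod 4))).comp Cov.subtype

theorem proj_surjective : Function.Surjective proj := by
  rw [← MonoidHom.range_eq_top, eq_top_iff, ← closure_gens, Subgroup.closure_le]
  rintro g ⟨k, hk, hg⟩
  obtain ⟨e, he⟩ := exists_lift_gen k hk
  exact ⟨e, Subtype.ext (he.1.inj hg)⟩

/-- the central elements -/
noncomputable def zc (c : ZMod 3) (d : ZMod 4) : Cov :=
  ⟨(1, L3.shiftPerm c, L4.shiftPerm d), LGr.good_shift (S := L3) c, LGr.good_shift (S := L4) d⟩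

theorem rep_zc (c : ZMod 3) (d : ZMod 4) : Rep (zc c d) ⟨MathieuOut.idP, c.val, d.val⟩ :=
  ⟨rep_idP, (add_zero c).trans (ZMod.natCast_zmod_val c).symm,
    (add_zero d).trans (ZMod.natCast_zmod_val d).symm⟩

theorem zc_mul (a a' : ZMod 3) (b b' : ZMod 4) : zc (a + a') (b + b') = zc a b * zc a' b' :=
  Subtype.ext (Prod.ext (one_mul 1).symm (Prod.ext (Equiv.ext fun p => Prod.ext rfl (add_assoc a a' p.2))
    (Equiv.ext fun p => Prod.ext rfl (add_assoc b b' p.2))))

theorem zc_injective {a a' : ZMod 3} {b b' : ZMod 4} (h : zc a b = zc a' b') : a = a' ∧ b = b' := by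
  have h1 := congrArg (fun e : Cov => L3.aE (e : Amb).2.1 L3.o) h
  have h2 := congrArg (fun e : Cov => L4.aE (e : Amb).2.2 L4.o) h
  exact ⟨((add_zero a).symm.trans h1).trans (add_zero a'), ((add_zero b).symm.trans h2).trans (add_zero b')⟩

theorem mem_ker_iff {e : Cov} : e ∈ proj.ker ↔ ∃ c d, e = zc c d := by
  constructor
  · intro h
    exact ⟨L3.aE (e : Amb).2.1 L3.o, L4.aE (e : Amb).2.2 L4.o,
      eq_of_fst h (add_zero _).symm (add_zero _).symm⟩
  · rintro ⟨c, d, rfl⟩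
    rfl

theorem shift_comm {D : Type} (S : LGr G D) {g : G} {π : Equiv.Perm S.Pts} (h : S.Good g π) (c : ZMod S.m) :
    π * S.shiftPerm c = S.shiftPerm c * π := by
  refine Equiv.ext fun ⟨i, t⟩ => ?_
  show π (i, c + t) = S.shiftPerm c (π (i, t))
  rw [h.shift, h.shift]
  exact Prod.ext rfl (add_left_comm _ _ _)

theorem zc_central (c : ZMod 3) (d : ZMod 4) : zc c d ∈ Subgroup.center Cov := by
  rw [Subgroup.mem_center_iff]
  intro e
  refine Subtype.ext (Prod.ext ?_ (Prod.ext (shift_comm L3 e.2.1 c) (shift_comm L4 e.2.2 d)))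
  show (e : Amb).1 * 1 = 1 * (e : Amb).1
  rw [mul_one, one_mul]

/-- the kernel, as the image of the cyclic group of order twelve -/
noncomputable def kerHom : Multiplicative (ZMod 12) →* proj.ker :=
  MonoidHom.mk' (fun r => ⟨zc (ZMod.castHom (by norm_num : 3 ∣ 12) (ZMod 3) r.toAdd)
      (ZMod.castHom (by norm_num : 4 ∣ 12) (ZMod 4) r.toAdd), mem_ker_iff.2 ⟨_, _, rfl⟩⟩)
    fun a b => Subtype.ext (by
      show zc _ _ = zc _ _ * zc _ _
      rw [← zc_mul, toAdd_mul, map_add, map_add])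

theorem crt : (∀ r s : ZMod 12, ZMod.castHom (by norm_num : 3 ∣ 12) (ZMod 3) r = ZMod.castHom (by norm_num : 3 ∣ 12) (ZMod 3) s →
      ZMod.castHom (by norm_num : 4 ∣ 12) (ZMod 4) r = ZMod.castHom (by norm_num : 4 ∣ 12) (ZMod 4) s → r = s) ∧
    ∀ (c : ZMod 3) (d : ZMod 4), ∃ r : ZMod 12, ZMod.castHom (by norm_num : 3 ∣ 12) (ZMod 3) r = c ∧
      ZMod.castHom (by norm_num : 4 ∣ 12) (ZMod 4) r = d := by
  decide

theorem kerHom_bijective : Function.Bijective kerHom := by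
  refine ⟨fun a b h => ?_, fun ⟨e, he⟩ => ?_⟩
  · obtain ⟨h1, h2⟩ := zc_injective (congrArg Subtype.val h)
    exact Multiplicative.toAdd.injective (crt.1 _ _ h1 h2)
  · obtain ⟨c, d, rfl⟩ := mem_ker_iff.1 he
    obtain ⟨r, rfl, rfl⟩ := crt.2 c d
    exact ⟨Multiplicative.ofAdd r, rfl⟩

theorem natCard_ker : Nat.card proj.ker = 12 := by
  rw [← Nat.card_eq_of_bijective kerHom kerHom_bijective]
  simp

theorem natCard_G : Nat.card G = 443520 := by
  show Nat.card ↥(stabG [] [23, 0]) = _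
  rw [stabG_M22, natCard_M22]

theorem natCard_cov : Nat.card Cov = 5322240 := by
  have h := proj.ker.card_mul_index
  rw [Subgroup.index_ker, MonoidHom.range_eq_top.2 proj_surjective,
    Nat.card_congr Subgroup.topEquiv.toEquiv, natCard_ker, natCard_G] at h
  exact h.symm

theorem exists_of_inStab {x : CO} (h : inStabP [] [23, 0] x.g = true) : ∃ e : Cov, Rep e x := by
  obtain ⟨σ, hσ, hr⟩ := repIn_of_inStabP (by simp) h
  obtain ⟨e, he⟩ := proj_surjective ⟨σ, hσ⟩
  have key : ∀ (S : LGr G ℕ) {k : G} {π : Equiv.Perm S.Pts}, S.Good k π → ∀ c : ZMod S.m,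
      S.aE (S.shiftPerm c * π) S.o = c + S.aE π S.o := fun S k π hπ c => by
    rw [LGr.aE_mul (LGr.good_shift (S := S) c) hπ]
    exact congrArg (· + _) (add_zero c)
  let c : ZMod 3 := (x.c3 : ZMod L3.m) - L3.aE (e : Amb).2.1 L3.o
  let d : ZMod 4 := (x.c4 : ZMod L4.m) - L4.aE (e : Amb).2.2 L4.o
  refine ⟨zc c d * e, ?_, ?_, ?_⟩
  · show repG (1 * (e : Amb).1) x.g
    rw [one_mul, show (e : Amb).1 = ⟨σ, hσ⟩ from he]
    exact hr
  · exact (key L3 e.2.1 c).trans (sub_add_cancel _ _)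
  · exact (key L4 e.2.2 d).trans (sub_add_cancel _ _)

/-- codes -/
noncomputable def code : Code Cov CO where
  rep := Rep
  mul := mulC
  one := oneC
  eqc := eqC
  okc x := inStabP [] [23, 0] x.g
  rep_mul := Rep.mul
  rep_one := rep_one
  eq_iff := eqC_iff
  exists_rep := exists_of_inStab

/-- powers of a code -/
noncomputable def powC (x : CO) : ℕ → CO
  | 0 => oneC
  | n + 1 => mulC (powC x n) x

theorem Rep.pow {e : Cov} {x : CO} (h : Rep e x) : ∀ n, Rep (e ^ n) (powC x n)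
  | 0 => rep_one
  | n + 1 => (h.pow n).mul h

theorem comm_ok : ([comX, comX', comY, comY'].all fun x => inStabP [] [23, 0] x.g) = true ∧
    eqC (mulC comX' comX) oneC = true ∧ eqC (mulC comY' comY) oneC = true ∧
    eqC (powC (mulC (mulC comX' comY') (mulC comX comY)) comN) ⟨MathieuOut.idP, comZ.1, comZ.2⟩ = true := by
  refine ⟨by decide +kernel, by decide +kernel, by decide +kernel, by decide +kernel⟩

theorem zc_mem_commutator (c : ZMod 3) (d : ZMod 4) : zc c d ∈ commutator Cov := by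
  obtain ⟨hall, h1, h2, h3⟩ := comm_ok
  simp only [List.all_cons, List.all_nil, Bool.and_true, Bool.and_eq_true] at hall
  obtain ⟨u, hu⟩ := exists_of_inStab hall.1
  obtain ⟨u', hu'⟩ := exists_of_inStab hall.2.1
  obtain ⟨v, hv⟩ := exists_of_inStab hall.2.2.1
  obtain ⟨v', hv'⟩ := exists_of_inStab hall.2.2.2
  have eu : u' = u⁻¹ := eq_inv_of_mul_eq_one_left ((eqC_iff (hu'.mul hu) rep_one).1 h1)
  have ev' : v' = v⁻¹ := eq_inv_of_mul_eq_one_left ((eqC_iff (hv'.mul hv) rep_one).1 h2)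
  have e1 : (u' * v' * (u * v)) ^ comN = zc 1 1 :=
    (eqC_iff (((hu'.mul hv').mul (hu.mul hv)).pow comN) (rep_zc 1 1)).1 h3
  have hm : zc 1 1 ∈ commutator Cov := by
    rw [← e1]
    refine Subgroup.pow_mem _ ?_ _
    have : u' * v' * (u * v) = ⁅u⁻¹, v⁻¹⁆ := by
      rw [commutatorElement_def, eu, ev', inv_inv, inv_inv, mul_assoc (u⁻¹ * v⁻¹)]
    rw [this]
    exact Subgroup.commutator_mem_commutator (Subgroup.mem_top _) (Subgroup.mem_top _)
  obtain ⟨r, rfl, rfl⟩ := crt.2 c d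
  have hn : ∀ n : ℕ, zc (n : ZMod 3) (n : ZMod 4) = zc 1 1 ^ n := by
    intro n
    induction n with
    | zero =>
      refine Subtype.ext (Prod.ext rfl (Prod.ext (Equiv.ext fun p => ?_) (Equiv.ext fun p => ?_)))
      · exact Prod.ext rfl ((congrArg (· + p.2) Nat.cast_zero).trans (zero_add _))
      · exact Prod.ext rfl ((congrArg (· + p.2) Nat.cast_zero).trans (zero_add _))
    | succ n ih => rw [Nat.cast_succ, Nat.cast_succ, zc_mul, ih, pow_succ]
  rw [← ZMod.natCast_zmod_val r, map_natCast, map_natCast, hn]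
  exact Subgroup.pow_mem _ hm _

theorem isStem_proj : Cfsg.IsStemExtension proj := by
  refine ⟨proj_surjective, fun e he => ?_, fun e he => ?_⟩
  · obtain ⟨c, d, rfl⟩ := mem_ker_iff.1 he
    exact zc_central c d
  · obtain ⟨c, d, rfl⟩ := mem_ker_iff.1 he
    exact zc_mem_commutator c d

/-- labelled points of the larger graph -/
abbrev Pts : Type := Fin 1232 × ZMod 4

/-- the action on labelled points -/
def ptAct : PtAct Cov Pts where
  act e p := (e : Amb).2.2 p
  act_mul _ _ _ := rfl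
  act_one _ := rfl

/-- image of a labelled point, from a code -/
noncomputable def appP (x : CO) (p : Pts) : Pts :=
  (Fin.ofNat 1232 (img4 x.g p.1), (aLab4 x p.1 : ZMod 4) + p.2)

theorem act_eq {e : Cov} {x : CO} (h : Rep e x) (p : Pts) : ptAct.act e p = appP x p := by
  obtain ⟨i, t⟩ := p
  show (e : Amb).2.2 (i, t) = _
  refine (e.2.2.shift i t).trans (Prod.ext (Fin.ext ?_) ?_)
  · show (L4.act (e : Amb).1 i : ℕ) = img4 x.g i % 1232
    rw [show img4 x.g i = (L4.act (e : Amb).1 i : ℕ) from (L4.img_eq h.1 i).symm]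
    exact (Nat.mod_eq_of_lt (L4.act (e : Amb).1 i).2).symm
  · exact congrArg (· + t) (LGr.aLab_eq e.2.2 h.1 h.2.2 i).symm

/-- equality of labelled points -/
def eqPts (v w : Pts) : Bool := Nat.beq v.1.val w.1.val && Nat.beq v.2.val w.2.val

theorem eqPts_iff (v w : Pts) : eqPts v w = true ↔ v = w := by
  rw [eqPts, Bool.and_eq_true, Nat.beq_eq, Nat.beq_eq, Fin.val_inj, (ZMod.val_injective 4).eq_iff,
    Prod.ext_iff]

end CfsgLib.KnownB.M22Mult
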