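import Cfsg.Agent.Lib.KnownB.M22Mult.Certs
import Cfsg.Agent.Lib.KnownB.Mult.Reduce
import Cfsg.Agent.Lib.Schur.Lift

/-! The Schur multiplier of `M22` is cyclic of order twelve. -/

set_option autoImplicit false
set_option maxRecDepth 100000
set_option maxHeartbeats 1000000

namespace CfsgLib.KnownB.M22Mult

open Cfsg CfsgLib.MathieuOut CfsgLib.KnownB.Mult

theorem trivial_multiplier : Cfsg.HasCyclicSchurMultiplier Cov 1 := by
  haveI : Finite Cov := Nat.finite_of_card_ne_zero (by rw [natCard_cov]; norm_num)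
  refine hasTrivialMultiplier_of_primeCond fun p hp => ?_
  by_cases h2 : p = 2
  · subst h2
    exact Cert.primeCond_of_notMem cert2_core
      (Cert.notMem_of_levels cert2_core ptAct appP eqPts (fun h v => act_eq h v) eqPts_iff pts2
        levels2_ok.1 levels2_ok.2)
      (m := 10395) (natCard_cov.trans (by norm_num [cert2])) (by norm_num)
  by_cases h3 : p = 3
  · subst h3
    exact Cert.primeCond cert3_valid (m := 197120)
      (natCard_cov.trans (by norm_num [cert3])) (by norm_num)
  refine primeCond_of_cyclic default (isCyclic_sylow (p := p) ?_ default)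
  intro hd
  rw [natCard_cov, show (5322240 : ℕ) = 2 ^ 9 * 3 ^ 3 * 385 by norm_num] at hd
  exact not_sq_dvd_of_check 9 3 385 20 (by decide +kernel) (by norm_num) (by norm_num) hp.out h2 h3 hd

theorem hasMultiplier : Cfsg.HasCyclicSchurMultiplier ↥Cfsg.Spor.M22 12 := by
  haveI : Finite Cov := Nat.finite_of_card_ne_zero (by rw [natCard_cov]; norm_num)
  let q : G ≃* ↥Cfsg.Spor.M22 := MulEquiv.subgroupCongr stabG_M22
  let σ : Cov →* ↥Cfsg.Spor.M22 := q.toMonoidHom.comp proj
  have hker : σ.ker = proj.ker := by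
    ext x
    simp [σ, MonoidHom.mem_ker]
  have hs : Cfsg.IsStemExtension σ :=
    ⟨q.surjective.comp proj_surjective, hker ▸ isStem_proj.2.1, hker ▸ isStem_proj.2.2⟩
  obtain ⟨e⟩ := CfsgLib.Schur.mult_equiv_ker_of_trivial σ hs trivial_multiplier
  exact CfsgLib.Schur.hasSchurMultiplier_iff.2
    ⟨((MulEquiv.ofBijective kerHom kerHom_bijective).trans (MulEquiv.subgroupCongr hker.symm)).trans e.symm⟩

end CfsgLib.KnownB.M22Mult
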