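import Mathlib
import Cfsg.Agent.Lib.Chev.Sparse

/-!
Groups of monomial maps of the points of a permutation action which preserve labels on the edges of an
invariant graph, with codes consisting of the element and the label of the first point.
-/

set_option autoImplicit false

namespace CfsgLib.KnownB.M22Mult

variable {G : Type} [Group G] [Finite G] {D : Type}

/-- look up an entry `8 * j + x` among the first `k` blocks of 14 bits; written with `Nat.rec` so that
the kernel evaluates it fast -/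
noncomputable def scanRow (row j k : ℕ) : ℕ :=
  Nat.rec (motive := fun _ => ℕ) 0
    (fun t ih => cond (Nat.beq (Nat.div (Nat.mod (Nat.shiftRight row (Nat.mul 14 t)) 16384) 8) j)
      (Nat.mod (Nat.shiftRight row (Nat.mul 14 t)) 8) ih) k

theorem scanRow_zero (row j : ℕ) : scanRow row j 0 = 0 := rfl

theorem scanRow_succ (row j k : ℕ) : scanRow row j (k + 1) =
    cond (Nat.beq (Nat.shiftRight row (14 * k) % 16384 / 8) j) (Nat.shiftRight row (14 * k) % 8)
      (scanRow row j k) := rfl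

theorem scanRow_ne {row j : ℕ} : ∀ {k : ℕ}, scanRow row j k ≠ 0 →
    ∃ t < k, Nat.shiftRight row (14 * t) % 16384 / 8 = j ∧
      scanRow row j k = Nat.shiftRight row (14 * t) % 8
  | 0, h => absurd (scanRow_zero row j) h
  | k + 1, h => by
    cases hb : Nat.beq (Nat.shiftRight row (14 * k) % 16384 / 8) j
    · simp only [scanRow_succ, hb, cond_false] at h ⊢
      obtain ⟨t, ht, e1, e2⟩ := scanRow_ne (k := k) h
      exact ⟨t, by omega, e1, e2⟩
    · simp only [scanRow_succ, hb, cond_true]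
      exact ⟨k, by omega, Nat.beq_eq.mp hb, rfl⟩

/-- propagation of a label along a path -/
def walkL (m : ℕ) (im : ℕ → ℕ) (lab : ℕ → ℕ → ℕ) : List ℕ → ℕ → ℕ → ℕ → ℕ
  | [], _, _, c => c
  | k :: l, pr, q, c => walkL m im lab l k (im k) ((c + (m - 1) * lab q (im k) + lab pr k) % m)

/-- a path along edges -/
def pathB (n : ℕ) (lab : ℕ → ℕ → ℕ) : ℕ → List ℕ → ℕ → Bool
  | pr, [], j => Nat.beq pr j
  | pr, k :: l, j => Nat.blt k n && !Nat.beq (lab pr k) 0 && pathB n lab k l j

/-- an action with an invariant labelled graph -/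
structure LGr (G D : Type) [Group G] where
  n : ℕ
  m : ℕ
  n_pos : 0 < n
  m_pos : 0 < m
  rep : G → D → Prop
  act : G → Fin n → Fin n
  act_one : ∀ i, act 1 i = i
  act_mul : ∀ g h i, act (g * h) i = act g (act h i)
  img : D → ℕ → ℕ
  img_eq : ∀ {g d}, rep g d → ∀ i : Fin n, (act g i : ℕ) = img d i
  lab : ℕ → ℕ → ℕ
  path : ℕ → List ℕ
  paths_ok : ∀ j < n, pathB n lab 0 (path j) j = true

namespace LGr

variable (S : LGr G D)

/-- labelled points -/
abbrev Pts : Type := Fin S.n × ZMod S.m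

/-- the first point -/
def o : Fin S.n := ⟨0, S.n_pos⟩

/-- the label of a point -/
def aE (π : Equiv.Perm S.Pts) (i : Fin S.n) : ZMod S.m := (π (i, 0)).2

/-- a monomial map over `g` preserving the labels -/
structure Good (g : G) (π : Equiv.Perm S.Pts) : Prop where
  shift : ∀ i t, π (i, t) = (S.act g i, S.aE π i + t)
  edge : ∀ i j : Fin S.n, S.lab i j ≠ 0 → S.lab (S.act g i) (S.act g j) ≠ 0 ∧
    (S.lab (S.act g i) (S.act g j) : ZMod S.m) = (S.lab i j : ZMod S.m) + S.aE π i - S.aE π j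

variable {S}

omit [Finite G] in
theorem good_one : S.Good 1 1 :=
  ⟨fun i t => by simp [aE, S.act_one], fun i j h => by simp [aE, S.act_one, h]⟩

omit [Finite G] in
theorem aE_mul {g h : G} {π ρ : Equiv.Perm S.Pts} (he : S.Good g π) (hf : S.Good h ρ) (i : Fin S.n) :
    S.aE (π * ρ) i = S.aE π (S.act h i) + S.aE ρ i := by
  show ((π * ρ) (i, 0)).2 = _
  rw [Equiv.Perm.mul_apply, hf.shift, add_zero, he.shift]

omit [Finite G] in
theorem Good.mul {g h : G} {π ρ : Equiv.Perm S.Pts} (he : S.Good g π) (hf : S.Good h ρ) :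
    S.Good (g * h) (π * ρ) := by
  refine ⟨fun i t => ?_, fun i j hl => ?_⟩
  · rw [aE_mul he hf, Equiv.Perm.mul_apply, hf.shift, he.shift, S.act_mul, add_assoc]
  · obtain ⟨h1, h2⟩ := hf.edge i j hl
    obtain ⟨h3, h4⟩ := he.edge _ _ h1
    rw [S.act_mul, S.act_mul, aE_mul he hf, aE_mul he hf]
    exact ⟨h3, by rw [h4, h2]; ring⟩

theorem Good.inv {g : G} {π : Equiv.Perm S.Pts} (he : S.Good g π) : S.Good g⁻¹ π⁻¹ := by
  haveI : NeZero S.m := ⟨S.m_pos.ne'⟩
  have hpow : ∀ k, S.Good (g ^ k) (π ^ k) := by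
    intro k
    induction k with
    | zero => simpa using good_one (S := S)
    | succ k ih => rw [pow_succ, pow_succ]; exact ih.mul he
  have h1 : ((g, π) : G × Equiv.Perm S.Pts)⁻¹ = (g, π) ^ (orderOf ((g, π) : G × Equiv.Perm S.Pts) - 1) := by
    rw [inv_eq_iff_mul_eq_one, ← pow_succ', Nat.sub_add_cancel (orderOf_pos _), pow_orderOf_eq_one]
  have := hpow (orderOf ((g, π) : G × Equiv.Perm S.Pts) - 1)
  rw [show g⁻¹ = g ^ (orderOf ((g, π) : G × Equiv.Perm S.Pts) - 1) from congrArg Prod.fst h1,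
    show π⁻¹ = π ^ (orderOf ((g, π) : G × Equiv.Perm S.Pts) - 1) from congrArg Prod.snd h1]
  exact this

/-- the label of a point, from a code -/
def aLab (S : LGr G D) (d : D) (c j : ℕ) : ℕ :=
  walkL S.m (S.img d) S.lab (S.path j) 0 (S.img d 0) (c % S.m)

omit [Finite G] in
theorem walk_eq {g : G} {π : Equiv.Perm S.Pts} (he : S.Good g π) {d : D} (hd : S.rep g d) :
    ∀ (l : List ℕ) (pr : Fin S.n) (j c : ℕ), pathB S.n S.lab pr l j = true →
      (c : ZMod S.m) = S.aE π pr → ∀ hj : j < S.n,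
      (walkL S.m (S.img d) S.lab l pr (S.act g pr) c : ZMod S.m) = S.aE π ⟨j, hj⟩
  | [], pr, j, c, h, hc, hj => by
    simp only [pathB, Nat.beq_eq] at h
    subst h
    simpa [walkL] using hc
  | k :: l, pr, j, c, h, hc, hj => by
    simp only [pathB, Bool.and_eq_true, Nat.blt_eq, Bool.not_eq_true'] at h
    obtain ⟨⟨hk, hl⟩, hrest⟩ := h
    have hl' : S.lab (pr : ℕ) k ≠ 0 := fun h0 => by rw [h0] at hl; exact absurd hl (by decide)
    obtain ⟨-, hed⟩ := he.edge pr ⟨k, hk⟩ hl'
    rw [walkL, ← S.img_eq hd ⟨k, hk⟩]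
    refine walk_eq he hd l ⟨k, hk⟩ j _ hrest ?_ hj
    rw [ZMod.natCast_mod, Nat.cast_add, Nat.cast_add, Nat.cast_mul, hc, hed,
      Nat.cast_sub (show 1 ≤ S.m from S.m_pos), ZMod.natCast_self, Nat.cast_one]
    ring

omit [Finite G] in
theorem aLab_eq {g : G} {π : Equiv.Perm S.Pts} (he : S.Good g π) {d : D} (hd : S.rep g d) {c : ℕ}
    (hc : S.aE π S.o = c) (j : Fin S.n) : (S.aLab d c j : ZMod S.m) = S.aE π j := by
  have := walk_eq he hd _ S.o j (c % S.m) (S.paths_ok j j.2) (by rw [ZMod.natCast_mod, hc]) j.2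
  rw [S.img_eq hd S.o] at this
  exact this

omit [Finite G] in
theorem perm_eq {g : G} {π ρ : Equiv.Perm S.Pts} (he : S.Good g π) (hf : S.Good g ρ) {d : D}
    (hd : S.rep g d) (h : S.aE π S.o = S.aE ρ S.o) : π = ρ := by
  haveI : NeZero S.m := ⟨S.m_pos.ne'⟩
  refine Equiv.ext fun ⟨i, t⟩ => ?_
  have hc : S.aE π S.o = ((S.aE π S.o).val : ℕ) := (ZMod.natCast_zmod_val _).symm
  rw [he.shift, hf.shift, ← aLab_eq he hd hc i, ← aLab_eq hf hd (c := (S.aE π S.o).val) (h.symm.trans hc) i]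

/-- a shift of all labels -/
def shiftPerm (S : LGr G D) (c : ZMod S.m) : Equiv.Perm S.Pts where
  toFun p := (p.1, c + p.2)
  invFun p := (p.1, -c + p.2)
  left_inv p := by simp
  right_inv p := by simp

omit [Finite G] in
theorem good_shift (c : ZMod S.m) : S.Good 1 (S.shiftPerm c) :=
  ⟨fun i t => by simp [aE, shiftPerm, S.act_one], fun i j h => by simp [aE, shiftPerm, S.act_one, h]⟩

omit [Finite G] in
/-- a lift with given labels -/
theorem exists_lift (g : G) (A : Fin S.n → ℕ)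
    (h : ∀ i j : Fin S.n, S.lab i j ≠ 0 → S.lab (S.act g i) (S.act g j) ≠ 0 ∧
      (S.lab (S.act g i) (S.act g j) : ZMod S.m) = (S.lab i j : ZMod S.m) + A i - A j) :
    ∃ π : Equiv.Perm S.Pts, S.Good g π ∧ S.aE π S.o = A S.o := by
  let π : Equiv.Perm S.Pts :=
    { toFun := fun p => (S.act g p.1, (A p.1 : ZMod S.m) + p.2)
      invFun := fun p => (S.act g⁻¹ p.1, -(A (S.act g⁻¹ p.1) : ZMod S.m) + p.2)
      left_inv := fun p => by
        have e : S.act g⁻¹ (S.act g p.1) = p.1 := by rw [← S.act_mul, inv_mul_cancel, S.act_one]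
        simp only [e, neg_add_cancel_left]
      right_inv := fun p => by
        have e : S.act g (S.act g⁻¹ p.1) = p.1 := by rw [← S.act_mul, mul_inv_cancel, S.act_one]
        simp only [e, add_neg_cancel_left] }
  have ha : ∀ i, S.aE π i = A i := fun i => add_zero _
  refine ⟨π, ⟨fun i t => ?_, fun i j hl => ?_⟩, ha _⟩
  · rw [ha]; rfl
  · rw [ha, ha]; exact h i j hl

omit [Finite G] in
/-- the multiplication rule for codes -/
theorem aE_mul_code {g h : G} {π ρ : Equiv.Perm S.Pts} (he : S.Good g π) (hf : S.Good h ρ) {d e : D}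
    (hd : S.rep g d) (hk : S.rep h e) {a b : ℕ} (ha : S.aE π S.o = a) (hb : S.aE ρ S.o = b) :
    S.aE (π * ρ) S.o = (((b + S.aLab d a (S.img e 0)) % S.m : ℕ) : ZMod S.m) := by
  rw [aE_mul he hf, ← aLab_eq he hd ha, hb, S.img_eq hk, ZMod.natCast_mod, Nat.cast_add, add_comm]
  rfl

end LGr

end CfsgLib.KnownB.M22Mult
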